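import Cfsg.Agent.Lib.GLClass.Cover.TwoClass
import Cfsg.Agent.Lib.OreSp.Good
import Mathlib.FieldTheory.Finite.Extension

/-!
# Irreducible blocks without invariant bilinear forms, of controlled determinant
-/

set_option autoImplicit false
set_option linter.all false

namespace CfsgLib.Char.OreOrth

open scoped Matrix
open Matrix Polynomial CfsgLib.GLClass.CommSL CfsgLib.GLClass.Cover

/-- the defining properties of a block -/
def IsBlock {F : Type*} [Field F] {r : ℕ} (G : Matrix (Fin r) (Fin r) F) (g : F[X]) : Prop :=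
  Irreducible g ∧ g.natDegree = r ∧ Cyc g G ∧
    ∀ B : Matrix (Fin r) (Fin r) F, (B = G ∨ B = Gᵀ) →
      aeval B g = 0 ∧ ∀ S : Matrix (Fin r) (Fin r) F, B * S * Bᵀ = S → S = 0

variable {F : Type*} [Field F] [Fintype F]

section Field

variable {K : Type*} [Field K] [Algebra F K] [Finite K] {r : ℕ}

/-- a small power of a generator satisfies no small Frobenius relation -/
theorem pow_gen_ne {θ : Kˣ} (hθ : ∀ x, x ∈ Subgroup.zpowers θ) {m : ℕ} (hm : 0 < m)
    (hlt : m < Nat.card K - 1) : (θ : K) ^ m ≠ 1 := by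
  intro h
  have h1 : θ ^ m = 1 := Units.ext (by rw [Units.val_pow_eq_pow_val, h, Units.val_one])
  have h2 := orderOf_eq_card_of_forall_mem_zpowers hθ
  rw [Nat.card_units] at h2
  have := Nat.le_of_dvd hm (orderOf_dvd_of_pow_eq_one h1)
  omega

theorem block_field (hr : Module.finrank F K = r) (hr2 : 2 ≤ r) {θ : Kˣ} (hθ : ∀ x, x ∈ Subgroup.zpowers θ)
    {e : ℕ} (he : 1 ≤ e) (hlt : e * (Fintype.card F ^ (r - 1) + 1) < Fintype.card F ^ r - 1) :
    ∃ (G : Matrix (Fin r) (Fin r) F) (g : F[X]), IsBlock G g ∧ G.det = Algebra.norm F (θ : K) ^ e := by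
  classical
  haveI : Fintype K := Fintype.ofFinite K
  haveI : FiniteDimensional F K := Module.Finite.of_finite
  have hq : 1 < Fintype.card F := Fintype.one_lt_card
  have hK : Nat.card K = Fintype.card F ^ r := by
    rw [Nat.card_eq_fintype_card, Module.card_eq_pow_finrank (K := F) (V := K), hr]
  have hsmall : ∀ m, 0 < m → m ≤ Fintype.card F ^ (r - 1) + 1 → ((θ : K) ^ e) ^ m ≠ 1 := fun m hm hle => by
    rw [← pow_mul]
    exact pow_gen_ne hθ (Nat.mul_pos (by omega) hm) (lt_of_le_of_lt (Nat.mul_le_mul_left e hle) (hK ▸ hlt))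
  obtain ⟨σ, hσdef⟩ : ∃ σ : K, σ = (θ : K) ^ e := ⟨_, rfl⟩
  rw [← hσdef] at hsmall
  have hσ0 : σ ≠ 0 := hσdef ▸ pow_ne_zero _ θ.ne_zero
  have hint : IsIntegral F σ := IsIntegral.of_finite F σ
  have hirr := minpoly.irreducible hint
  -- the degree
  have hdeg : (minpoly F σ).natDegree = r := by
    have hle : (minpoly F σ).natDegree ≤ r := hr ▸ minpoly.natDegree_le σ
    by_contra hne
    obtain ⟨d, hd⟩ : ∃ d, d = (minpoly F σ).natDegree := ⟨_, rfl⟩
    have hd1 : 1 ≤ d := hd ▸ minpoly.natDegree_pos hint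
    have hfin : Module.finrank F (IntermediateField.adjoin F {σ}) = d := hd ▸ IntermediateField.adjoin.finrank hint
    haveI : Fintype (IntermediateField.adjoin F {σ}) := Fintype.ofFinite _
    have hc := FiniteField.pow_card_sub_one_eq_one (⟨σ, IntermediateField.mem_adjoin_simple_self F σ⟩ :
      IntermediateField.adjoin F {σ}) (fun h => hσ0 (congrArg Subtype.val h))
    rw [Module.card_eq_pow_finrank (K := F) (V := IntermediateField.adjoin F {σ}), hfin] at hc
    refine hsmall (Fintype.card F ^ d - 1) ?_ ?_ (by simpa using congrArg Subtype.val hc)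
    · have : 1 < Fintype.card F ^ d := Nat.one_lt_pow (by omega) hq
      omega
    · have : Fintype.card F ^ d ≤ Fintype.card F ^ (r - 1) :=
        Nat.pow_le_pow_right (by omega) (by omega)
      omega
  -- the inverse is not a conjugate
  have hinv : aeval σ⁻¹ (minpoly F σ) ≠ 0 := by
    intro h
    obtain ⟨φ, hφ⟩ := minpoly.exists_algEquiv_of_root' (Algebra.IsAlgebraic.isAlgebraic σ) h
    obtain ⟨i, hi⟩ := (FiniteField.bijective_frobeniusAlgEquivOfAlgebraic_pow F K).2 φ
    rw [← hi] at hφ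
    simp only [AlgEquiv.coe_pow, FiniteField.coe_frobeniusAlgEquivOfAlgebraic, pow_iterate] at hφ
    refine hsmall (Fintype.card F ^ (i : ℕ) + 1) (by omega) ?_ (by rw [pow_succ, hφ, inv_mul_cancel₀ hσ0])
    have hir : (i : ℕ) ≤ r - 1 := by have := i.isLt; omega
    exact Nat.add_le_add_right (Nat.pow_le_pow_right (by omega) hir) 1
  obtain ⟨g, hg⟩ : ∃ g, g = minpoly F σ := ⟨_, rfl⟩
  rw [← hg] at hirr hdeg hinv
  have hmon : g.Monic := hg ▸ minpoly.monic hint
  have hg0 : aeval σ g = 0 := hg ▸ minpoly.aeval F σ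
  -- the reversed polynomial
  obtain ⟨h, hh⟩ : ∃ h : F[X], h = ∑ i ∈ Finset.range (r + 1), C (g.coeff i) * X ^ (r - i) := ⟨_, rfl⟩
  have hhσ : aeval σ h ≠ 0 := by
    have : aeval σ h = σ ^ r * aeval σ⁻¹ g := by
      rw [hh, map_sum, aeval_eq_sum_range (p := g), hdeg, Finset.mul_sum]
      refine Finset.sum_congr rfl fun i hi => ?_
      have hi' : i ≤ r := by rw [Finset.mem_range] at hi; omega
      rw [map_mul, aeval_C, map_pow, aeval_X, Algebra.smul_def, inv_pow, pow_sub₀ σ hσ0 hi']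
      ring
    rw [this]
    exact mul_ne_zero (pow_ne_zero _ hσ0) hinv
  obtain ⟨u, v, huv⟩ : IsCoprime g h :=
    hirr.coprime_iff_not_dvd.2 fun hd => hhσ (aeval_eq_zero_of_dvd_aeval_eq_zero hd hg0)
  let b := Module.finBasisOfFinrankEq F K hr
  obtain ⟨G, hG⟩ : ∃ G, G = Algebra.leftMulMatrix b σ := ⟨_, rfl⟩
  have hGg : aeval G g = 0 := by rw [hG, aeval_algHom_apply, hg0, map_zero]
  have hcyc : Cyc g G := by
    refine ⟨hmon, by rw [hdeg, Fintype.card_fin], b.equivFun 1, fun p => ?_⟩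
    rw [hG, aeval_leftMul_repr b σ p 1, mul_one, LinearEquiv.map_eq_zero_iff, hg, minpoly.dvd_iff]
  refine ⟨G, g, ⟨hirr, hdeg, hcyc, fun B hB => ?_⟩, ?_⟩
  · have hBg : aeval B g = 0 := by
      rcases hB with rfl | rfl
      · exact hGg
      · rw [aeval_eq_sum_range] at hGg ⊢
        simp_rw [← transpose_pow, ← transpose_smul, ← transpose_sum, hGg, transpose_zero]
    refine ⟨hBg, fun S hS => ?_⟩
    have hrev : aeval Bᵀ h * aeval Bᵀ v = 1 := by
      have hBTg : aeval Bᵀ g = 0 := by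
        rw [aeval_eq_sum_range] at hBg ⊢
        simp_rw [← transpose_pow, ← transpose_smul, ← transpose_sum, hBg, transpose_zero]
      rw [← map_mul, mul_comm]
      calc aeval Bᵀ (v * h) = aeval Bᵀ (u * g + v * h) := by rw [map_add, map_mul _ u, hBTg, mul_zero, zero_add]
        _ = 1 := by rw [huv, map_one]
    refine OreSp.eq_zero_of_ann (n := r) (c := fun i => g.coeff (i : ℕ)) (A := Bᵀ) (B := B)
      (K := aeval Bᵀ v) ?_ ?_ hS
    · rw [← hBg, aeval_eq_sum_range, hdeg, Finset.sum_range]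
    · rw [← hrev, hh, map_sum, Finset.sum_range]
      congr 1
      exact Finset.sum_congr rfl fun i _ => by rw [map_mul, aeval_C, map_pow, aeval_X, Algebra.smul_def]
  · rw [hG, ← Algebra.norm_eq_matrix_det b, hσdef, map_pow]

end Field

/-- blocks exist, with the square class of the determinant chosen by the exponent -/
theorem exists_block {r : ℕ} (hr2 : 2 ≤ r) {e : ℕ} (he : e = 1 ∨ e = 2)
    (hlt : e * (Fintype.card F ^ (r - 1) + 1) < Fintype.card F ^ r - 1) :
    ∃ (G : Matrix (Fin r) (Fin r) F) (g : F[X]), IsBlock G g ∧ G.det ≠ 0 ∧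
      (e = 2 → IsSquare G.det) ∧ ((∃ c : F, ¬ IsSquare c) → e = 1 → ¬ IsSquare G.det) := by
  classical
  obtain ⟨p, hp⟩ := CharP.exists F
  haveI : Fact p.Prime := ⟨CharP.char_is_prime F p⟩
  haveI : NeZero r := ⟨by omega⟩
  set K := FiniteField.Extension F p r
  obtain ⟨θ, hθ⟩ := IsCyclic.exists_generator (α := Kˣ)
  obtain ⟨G, g, hb, hdet⟩ := block_field (F := F) (K := K) (FiniteField.finrank_extension F p r) hr2 hθ
    (e := e) (by omega) hlt
  refine ⟨G, g, hb, ?_, fun h2 => ?_, fun hns h1 hsq => ?_⟩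
  · rw [hdet]; exact pow_ne_zero _ (Algebra.norm_ne_zero_iff.2 θ.ne_zero)
  · rw [hdet, h2]; exact ⟨_, sq _⟩
  · obtain ⟨c, hc⟩ := hns
    have hc0 : c ≠ 0 := fun h => hc (h ▸ IsSquare.zero)
    obtain ⟨x, hx⟩ := FiniteField.unitsMap_norm_surjective F K (Units.mk0 c hc0)
    obtain ⟨m, hm⟩ := mem_zpowers_iff_mem_range_orderOf.1 (hθ x) |> Finset.mem_image.1
    refine hc ?_
    have : c = Algebra.norm F (θ : K) ^ m := by
      have h' := congrArg Units.val hx
      rw [Units.coe_map, ← hm.2, Units.val_pow_eq_pow_val, map_pow] at h'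
      exact h'.symm
    rw [this]
    rw [hdet, h1, pow_one] at hsq
    exact hsq.pow m

end CfsgLib.Char.OreOrth
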