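import Mathlib

/-!
# Cosets of a subgroup normalised by an element with trivial centraliser in it
-/

set_option autoImplicit false

namespace CfsgLib.Char.OreOrth

variable {G : Type*} [Group G]

/-- every element of the coset `U x` is a `U`-conjugate of `x` -/
theorem exists_conj_coset {U : Subgroup G} [Finite U] {x : G} (hn : ∀ u ∈ U, x * u * x⁻¹ ∈ U)
    (hC : ∀ u ∈ U, u * x = x * u → u = 1) {w : G} (hw : w ∈ U) : ∃ u ∈ U, u * x * u⁻¹ = w * x := by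
  let f : U → U := fun u => ⟨(u : G) * (x * (u : G)⁻¹ * x⁻¹), U.mul_mem u.2 (hn _ (U.inv_mem u.2))⟩
  have hf : Function.Injective f := by
    intro u v h
    have h1 : (u : G) * (x * (u : G)⁻¹ * x⁻¹) = (v : G) * (x * (v : G)⁻¹ * x⁻¹) := congrArg Subtype.val h
    have h2 := hC _ (U.mul_mem (U.inv_mem v.2) u.2) (by
      calc (v : G)⁻¹ * u * x = (v : G)⁻¹ * ((u : G) * (x * (u : G)⁻¹ * x⁻¹)) * x * u := by group
        _ = (v : G)⁻¹ * ((v : G) * (x * (v : G)⁻¹ * x⁻¹)) * x * u := by rw [h1]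
        _ = x * ((v : G)⁻¹ * u) := by group)
    exact Subtype.ext (inv_mul_eq_one.1 h2).symm
  obtain ⟨u, hu⟩ := Finite.injective_iff_surjective.1 hf ⟨w, hw⟩
  refine ⟨u, u.2, ?_⟩
  have h3 : (u : G) * (x * (u : G)⁻¹ * x⁻¹) = w := congrArg Subtype.val hu
  rw [← h3]
  group

/-- the right coset -/
theorem exists_conj_coset' {U : Subgroup G} [Finite U] {x : G} (hn : ∀ u ∈ U, x * u * x⁻¹ ∈ U)
    (hC : ∀ u ∈ U, u * x = x * u → u = 1) {w : G} (hw : w ∈ U) : ∃ u ∈ U, u * x * u⁻¹ = x * w := by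
  obtain ⟨u, hu, h⟩ := exists_conj_coset hn hC (hn w hw)
  exact ⟨u, hu, by rw [h]; group⟩

/-- a conjugate of `x⁻¹` times a conjugate of `x` is a commutator inside a normal subgroup -/
theorem commutator_of_conj {N : Subgroup G} {x c d : G} (hx : x ∈ N) (hc : c ∈ N) (hd : d ∈ N) :
    ∃ a ∈ N, ∃ b ∈ N, c * x⁻¹ * c⁻¹ * (d * x * d⁻¹) = a * b * a⁻¹ * b⁻¹ :=
  ⟨c * x⁻¹ * c⁻¹, N.mul_mem (N.mul_mem hc (N.inv_mem hx)) (N.inv_mem hc), d * c⁻¹,
    N.mul_mem hd (N.inv_mem hc), by group⟩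

end CfsgLib.Char.OreOrth
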