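import Cfsg.Agent.Lib.Char.OreOrth.Frame
import Cfsg.Agent.Lib.Char.OreOrth.Conj
import Cfsg.Agent.Lib.GLClass.CommMain
import Cfsg.Agent.Lib.GLClass.Cover.TwoClass

/-!
# Lower times upper flag unipotent elements are commutators
-/

set_option autoImplicit false
set_option linter.all false

namespace CfsgLib.Char.OreOrth

open scoped Matrix
open Matrix Cfsg.Geo CfsgLib.Perm.Asch CfsgLib.Perm.Trans CfsgLib.Perm.Trans.Quad CfsgLib.Orth
open CfsgLib.GLClass.CommSL CfsgLib.GLClass.Cover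

variable {ι : Type} [Fintype ι] [DecidableEq ι] {F : Type*} [Field F]
variable {Q : (ι → F) → F} {k : ℕ}

local notation "pol" => QuadraticMap.polar

variable (hQ : IsNondegenerateQuadraticForm Q) (Fr : Frame Q k)
include hQ

omit hQ in
/-- no non-zero alternating matrix is fixed under congruence -/
def NoAlt (A : Matrix (Fin k) (Fin k) F) : Prop :=
  ∀ S : Matrix (Fin k) (Fin k) F, Sᵀ = -S → (∀ i, S i i = 0) → A * S * Aᵀ = S → S = 0

/-- no non-zero map from the orthogonal of the frame intertwines `a` with `A` -/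
def NoInt (A : Matrix (Fin k) (Fin k) F) (a : GL ι F) : Prop :=
  ∀ φ : (ι → F) →ₗ[F] (Fin k → F),
    (∀ y, cvec hQ Fr y = 0 → dvec hQ Fr y = 0 → φ ((a : Matrix ι ι F) *ᵥ y) = A *ᵥ φ y) →
      ∀ y, cvec hQ Fr y = 0 → dvec hQ Fr y = 0 → φ y = 0

theorem fix_emb {u : GL ι F} (h : ∀ i, (u : Matrix ι ι F) *ᵥ Fr.e i = Fr.e i) (c : Fin k → F) :
    (u : Matrix ι ι F) *ᵥ Fr.emb c = Fr.emb c := by
  rw [Frame.emb_apply, Matrix.mulVec_sum]
  simp_rw [Matrix.mulVec_smul, h]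

theorem lev_emb (A : GL (Fin k) F) (c : Fin k → F) :
    ((lev hQ Fr A : GL ι F) : Matrix ι ι F) *ᵥ Fr.emb c = Fr.emb ((A : Matrix (Fin k) (Fin k) F) *ᵥ c) := by
  rw [lev_mulVec, levL_apply, pr_apply, cvec_emb, dvec_emb]; simp

theorem lev_emb' (A : GL (Fin k) F) (c : Fin k → F) :
    ((lev hQ Fr A : GL ι F) : Matrix ι ι F) *ᵥ Fr.swap.emb c =
      Fr.swap.emb ((cot A : Matrix (Fin k) (Fin k) F) *ᵥ c) := by
  rw [lev_mulVec, levL_apply, pr_apply, cvec_emb', dvec_emb']; simp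

theorem lev_fix (A : GL (Fin k) F) {y : ι → F} (hc : cvec hQ Fr y = 0) (hd : dvec hQ Fr y = 0) :
    ((lev hQ Fr A : GL ι F) : Matrix ι ι F) *ᵥ y = y := by
  rw [lev_mulVec, levL_apply, pr_apply, hc, hd]; simp

theorem eq_one_of_comm {A : GL (Fin k) F} {a : GL ι F} (ha : a ∈ Cfsg.isometryGroup F Q)
    (hae : ∀ i, (a : Matrix ι ι F) *ᵥ Fr.e i = Fr.e i) (haf : ∀ i, (a : Matrix ι ι F) *ᵥ Fr.f i = Fr.f i)
    (hS : NoAlt (A : Matrix (Fin k) (Fin k) F)) (hφ : NoInt hQ Fr (A : Matrix (Fin k) (Fin k) F) a)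
    {u : GL ι F} (hui : u ∈ Cfsg.isometryGroup F Q) (hu : IsUni Fr u)
    (hc : u * (lev hQ Fr A * a) = lev hQ Fr A * a * u) : u = 1 := by
  have hcom : ∀ x, (u : Matrix ι ι F) *ᵥ (((lev hQ Fr A * a : GL ι F) : Matrix ι ι F) *ᵥ x) =
      ((lev hQ Fr A * a : GL ι F) : Matrix ι ι F) *ᵥ ((u : Matrix ι ι F) *ᵥ x) := fun x => by
    rw [← gl_mul_mulVec u, hc, gl_mul_mulVec _ u]
  have hue : ∀ c, (u : Matrix ι ι F) *ᵥ Fr.emb c = Fr.emb c := fix_emb hQ Fr hu.1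
  have hae' : ∀ c, (a : Matrix ι ι F) *ᵥ Fr.emb c = Fr.emb c := fix_emb hQ Fr hae
  have haf' : ∀ c, (a : Matrix ι ι F) *ᵥ Fr.swap.emb c = Fr.swap.emb c := fix_emb hQ Fr.swap haf
  have hac : ∀ y, cvec hQ Fr y = 0 → cvec hQ Fr ((a : Matrix ι ι F) *ᵥ y) = 0 := fun y hy => funext fun i => by
    rw [cvec_apply, Pi.zero_apply]
    conv_lhs => rw [← haf i, iso_pol ha]
    exact congrFun hy i
  have had : ∀ y, dvec hQ Fr y = 0 → dvec hQ Fr ((a : Matrix ι ι F) *ᵥ y) = 0 := fun y hy => funext fun i => by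
    rw [dvec_apply, Pi.zero_apply]
    conv_lhs => rw [← hae i, iso_pol ha]
    exact congrFun hy i
  -- the orthogonal of the frame is fixed
  let φ : (ι → F) →ₗ[F] (Fin k → F) := cvec hQ Fr ∘ₗ (Matrix.mulVecLin (u : Matrix ι ι F) - LinearMap.id)
  have hφe : ∀ y, φ y = cvec hQ Fr ((u : Matrix ι ι F) *ᵥ y - y) := fun y => rfl
  have hmove : ∀ y, dvec hQ Fr y = 0 → (u : Matrix ι ι F) *ᵥ y = y + Fr.emb (φ y) := fun y hy => by
    rw [hφe, emb_cvec_of_mem hQ Fr (hu.2 y fun i => congrFun hy i)]; abel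
  have hK : ∀ y, cvec hQ Fr y = 0 → dvec hQ Fr y = 0 → (u : Matrix ι ι F) *ᵥ y = y := by
    intro y hcy hdy
    have h0 : φ y = 0 := by
      refine hφ φ (fun z hcz hdz => ?_) y hcy hdy
      have h := hcom z
      rw [gl_mul_mulVec (lev hQ Fr A) a, gl_mul_mulVec (lev hQ Fr A) a, lev_fix hQ Fr A (hac z hcz) (had z hdz),
        hmove z hdz, hmove _ (had z hdz), Matrix.mulVec_add, Matrix.mulVec_add, hae', lev_emb,
        lev_fix hQ Fr A (hac z hcz) (had z hdz)] at h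
      have := congrArg (cvec hQ Fr) (add_left_cancel h)
      rwa [cvec_emb, cvec_emb] at this
    rw [hmove y hdy, h0, map_zero, add_zero]
  -- the action on the second half
  let S : Matrix (Fin k) (Fin k) F := Matrix.of fun i j => cvec hQ Fr ((u : Matrix ι ι F) *ᵥ Fr.f j) i
  have hf : ∀ j, (u : Matrix ι ι F) *ᵥ Fr.f j = Fr.f j + Fr.emb (fun i => S i j) := by
    intro j
    have hd : dvec hQ Fr ((u : Matrix ι ι F) *ᵥ Fr.f j) = Pi.single j 1 := funext fun i => by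
      rw [dvec_apply]
      conv_lhs => rw [← hu.1 i, iso_pol hui, pcomm, Fr.ef]
      rw [Pi.single_apply]
    have hz : pr hQ Fr ((u : Matrix ι ι F) *ᵥ Fr.f j) = 0 := by
      refine pv_injective hQ (funext fun i => ?_)
      show pol Q (Pi.single i 1) _ = pol Q (Pi.single i 1) 0
      rw [pzero_right hQ, pcomm]
      generalize (Pi.single i (1 : F) : ι → F) = x
      obtain ⟨z, hz⟩ : ∃ z, z = pr hQ Fr ((u : Matrix ι ι F) *ᵥ Fr.f j) := ⟨_, rfl⟩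
      rw [← hz]
      have h1 : cvec hQ Fr z = 0 := hz ▸ cvec_pr hQ Fr _
      have h2 : dvec hQ Fr z = 0 := hz ▸ dvec_pr hQ Fr _
      have hc1 := cvec_pr hQ Fr x
      have hd1 := dvec_pr hQ Fr x
      conv_lhs => rw [← pr_add hQ Fr x]
      rw [padd_right hQ, padd_right hQ, pcomm z (Fr.emb _), pcomm z (Fr.swap.emb _), pol_emb_left hQ Fr,
        pol_emb_left hQ Fr.swap, h2, show dvec hQ Fr.swap z = cvec hQ Fr z from rfl, h1, dotProduct_zero, zero_add,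
        dotProduct_zero, zero_add, hz, pr_apply, psub_left hQ, psub_left hQ, pol_emb_left hQ Fr,
        pol_emb_left hQ Fr.swap, hd1, show dvec hQ Fr.swap (pr hQ Fr x) = cvec hQ Fr (pr hQ Fr x) from rfl, hc1]
      conv_lhs => rw [← hK _ hc1 hd1, iso_pol hui]
      rw [pcomm, dotProduct_zero, dotProduct_zero, sub_zero, sub_zero]
      exact congrFun hc1 j
    conv_lhs => rw [← pr_add hQ Fr ((u : Matrix ι ι F) *ᵥ Fr.f j), hz, hd, Frame.emb_single, Frame.swap_e, add_zero]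
    rw [add_comm]
    rfl
  have hf' : ∀ d, (u : Matrix ι ι F) *ᵥ Fr.swap.emb d = Fr.swap.emb d + Fr.emb (S *ᵥ d) := by
    intro d
    rw [Frame.emb_apply, Frame.swap_e, Matrix.mulVec_sum]
    simp_rw [Matrix.mulVec_smul, hf, smul_add, Finset.sum_add_distrib, ← map_smul, ← map_sum]
    congr 2
    funext i
    simp [Matrix.mulVec, dotProduct, Finset.sum_apply, mul_comm]
  have hSS : ∀ i j, S i j + S j i = 0 := by
    intro i j
    have h := iso_pol hui (Fr.f j) (Fr.f i)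
    rw [hf, hf, padd_left hQ, padd_right hQ, padd_right hQ, Fr.ff, pol_emb_left hQ Fr, pol_emb_left hQ Fr,
      dvec_emb, pcomm (Fr.f j) (Fr.emb _), pol_emb_left hQ Fr, ← Frame.swap_e, ← Frame.emb_single, ← Frame.emb_single,
      dvec_emb', dvec_emb'] at h
    simpa [add_comm] using h
  have hdiag : ∀ j, S j j = 0 := by
    intro j
    have h := mem_iso.1 hui (Fr.f j)
    rw [hf, qadd hQ, Fr.qf, q_emb hQ Fr, pcomm, pol_emb_left hQ Fr, ← Frame.swap_e, ← Frame.emb_single, dvec_emb'] at h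
    simpa using h
  have hS0 : S = 0 := by
    refine hS S (Matrix.ext fun i j => by
      rw [Matrix.transpose_apply, Matrix.neg_apply, eq_neg_iff_add_eq_zero]; exact hSS j i) hdiag ?_
    have h1 : (A : Matrix (Fin k) (Fin k) F) * S = S * (cot A : Matrix (Fin k) (Fin k) F) := by
      refine Matrix.ext_iff_mulVec.2 fun d => ?_
      have h := hcom (Fr.swap.emb d)
      rw [gl_mul_mulVec (lev hQ Fr A) a, gl_mul_mulVec (lev hQ Fr A) a, haf', lev_emb', hf', hf', Matrix.mulVec_add,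
        Matrix.mulVec_add, haf', hae', lev_emb, lev_emb'] at h
      have h' := congrArg (cvec hQ Fr) (add_left_cancel h)
      rw [cvec_emb, cvec_emb, Matrix.mulVec_mulVec, Matrix.mulVec_mulVec] at h'
      exact h'.symm
    rw [h1, Matrix.mul_assoc, show (cot A : Matrix (Fin k) (Fin k) F) =
      ((A⁻¹ : GL (Fin k) F) : Matrix (Fin k) (Fin k) F)ᵀ from rfl, ← Matrix.transpose_mul, Units.mul_inv,
      Matrix.transpose_one, Matrix.mul_one]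
  refine gl_ext_vec fun x => ?_
  rw [Units.val_one, Matrix.one_mulVec]
  conv_lhs => rw [← pr_add hQ Fr x, Matrix.mulVec_add, Matrix.mulVec_add, hue, hf', hS0, Matrix.zero_mulVec, map_zero,
    add_zero, hK _ (cvec_pr hQ Fr x) (dvec_pr hQ Fr x), pr_add]

theorem uGroup_conj {h : GL ι F} (hi : h ∈ Cfsg.isometryGroup F Q)
    (h1 : ∀ c, (h : Matrix ι ι F) *ᵥ Fr.emb c ∈ LinearMap.range Fr.emb)
    (h2 : ∀ c, ((h⁻¹ : GL ι F) : Matrix ι ι F) *ᵥ Fr.emb c ∈ LinearMap.range Fr.emb) {u : GL ι F}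
    (hu : u ∈ uGroup hQ Fr) : h * u * h⁻¹ ∈ uGroup hQ Fr := by
  obtain ⟨huo, hu1, hu2⟩ := hu
  refine ⟨?_, fun j => ?_, fun y hy => ?_⟩
  · obtain ⟨x, hx, rfl⟩ := Subgroup.mem_map.1 huo
    exact Subgroup.mem_map.2 ⟨⟨h, hi⟩ * x * ⟨h, hi⟩⁻¹,
      (Subgroup.commutator_normal _ _).conj_mem _ hx _, rfl⟩
  · obtain ⟨c, hc⟩ := h2 (Pi.single j 1)
    rw [Frame.emb_single] at hc
    rw [gl_mul_mulVec, gl_mul_mulVec, ← hc, fix_emb hQ Fr hu1, hc, gl_mulVec_inv]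
  · have hy' : ∀ i, pol Q (((h⁻¹ : GL ι F) : Matrix ι ι F) *ᵥ y) (Fr.e i) = 0 := fun i => by
      rw [← gl_inv_mulVec h (Fr.e i), iso_pol (inv_mem hi)]
      obtain ⟨c, hc⟩ := h1 (Pi.single i 1)
      rw [Frame.emb_single] at hc
      rw [← hc, pcomm, pol_emb_left hQ Fr, show dvec hQ Fr y = 0 from funext hy, dotProduct_zero]
    have h3 := hu2 _ hy'
    rw [← Frame.range_emb] at h3 ⊢
    obtain ⟨c, hc⟩ := h3
    obtain ⟨d, hd⟩ := h1 c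
    refine ⟨d, ?_⟩
    rw [hd, hc, Matrix.mulVec_sub, gl_mulVec_inv, gl_mul_mulVec, gl_mul_mulVec]

theorem uGroup_conj_lev (A : GL (Fin k) F) {u : GL ι F} (hu : u ∈ uGroup hQ Fr) :
    lev hQ Fr A * u * (lev hQ Fr A)⁻¹ ∈ uGroup hQ Fr :=
  uGroup_conj hQ Fr (lev_iso hQ Fr A) (fun c => ⟨_, (lev_emb hQ Fr A c).symm⟩)
    (fun c => ⟨_, by rw [← map_inv]; exact (lev_emb hQ Fr A⁻¹ c).symm⟩) hu

theorem uGroup_conj_fix {a : GL ι F} (ha : a ∈ Cfsg.isometryGroup F Q)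
    (hae : ∀ i, (a : Matrix ι ι F) *ᵥ Fr.e i = Fr.e i) {u : GL ι F} (hu : u ∈ uGroup hQ Fr) :
    a * u * a⁻¹ ∈ uGroup hQ Fr :=
  uGroup_conj hQ Fr ha (fun c => ⟨c, (fix_emb hQ Fr hae c).symm⟩)
    (fun c => ⟨c, by conv_rhs => rw [← fix_emb hQ Fr hae c, gl_inv_mulVec]⟩) hu

variable [Fintype F]

theorem lev_det_one (hk : 3 ≤ k) (A : GL (Fin k) F) (hA : (A : Matrix (Fin k) (Fin k) F).det = 1) :
    lev hQ Fr A ∈ omegaGL Q := by
  obtain ⟨a, b, ha, hb, hab⟩ := comm1_of_det (A : Matrix (Fin k) (Fin k) F) hA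
    (Or.inr (by rw [Fintype.card_fin]; exact hk))
  let a' := Matrix.GeneralLinearGroup.mkOfDetNeZero a (by rw [ha]; exact one_ne_zero)
  let b' := Matrix.GeneralLinearGroup.mkOfDetNeZero b (by rw [hb]; exact one_ne_zero)
  have he : A * b' * a' = a' * b' := Units.ext hab
  have hA' : A = a' * b' * a'⁻¹ * b'⁻¹ := by rw [← he]; group
  rw [hA', map_mul, map_mul, map_mul, map_inv, map_inv]
  exact mem_omegaGL_comm (lev_iso hQ Fr a') (lev_iso hQ Fr b')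

omit [Fintype F] in
theorem lam_lift {u : GL ι F} (h : IsUp Fr u) : ∃ A : GL (Fin k) F,
    (A : Matrix (Fin k) (Fin k) F) = lam hQ Fr u ∧ (A : Matrix (Fin k) (Fin k) F).det = 1 :=
  ⟨Matrix.GeneralLinearGroup.mkOfDetNeZero (lam hQ Fr u)
    (fun e => one_ne_zero ((h.det_lam hQ Fr).symm.trans e)), rfl, h.det_lam hQ Fr⟩

/-- lower times upper flag unipotent is lower times Levi times upper -/
theorem exists_gauss (hk : 3 ≤ k) {L U : GL ι F} (hL : L ∈ omegaGL Q) (hU : U ∈ omegaGL Q)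
    (uL : IsUp Fr.swap L) (uU : IsUp Fr U) :
    ∃ (low up : GL ι F) (M : GL (Fin k) F), low ∈ uGroup hQ Fr.swap ∧ up ∈ uGroup hQ Fr ∧
      L * U = low * lev hQ Fr M * up ∧ (M : Matrix (Fin k) (Fin k) F).det = 1 ∧
      ∀ c : F, (M : Matrix (Fin k) (Fin k) F) = c • 1 → c = 1 := by
  obtain ⟨Λ', hΛ', hΛ'd⟩ := lam_lift hQ Fr.swap uL
  obtain ⟨Υ, hΥ, hΥd⟩ := lam_lift hQ Fr uU
  have hΛd : (cot Λ' : Matrix (Fin k) (Fin k) F).det = 1 := by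
    show (((Λ'⁻¹ : GL (Fin k) F) : Matrix (Fin k) (Fin k) F)ᵀ).det = 1
    have h := congrArg Matrix.det (Units.inv_mul Λ')
    rw [Matrix.det_mul, hΛ'd, mul_one, Matrix.det_one] at h
    rw [Matrix.det_transpose, h]
  obtain ⟨M, hM⟩ : ∃ M, M = cot Λ' * Υ := ⟨_, rfl⟩
  have hlevΛ : lev hQ Fr (cot Λ') = lev hQ Fr.swap Λ' := by
    rw [← lev_swap hQ Fr (cot Λ'), cot_cot]
  obtain ⟨low, hlow⟩ : ∃ w, w = L * (lev hQ Fr.swap Λ')⁻¹ := ⟨_, rfl⟩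
  have hlow' : low ∈ uGroup hQ Fr.swap := by
    have h0 : (lev hQ Fr.swap Λ')⁻¹ * L ∈ uGroup hQ Fr.swap := ⟨mul_mem (inv_mem (lev_det_one hQ Fr.swap hk Λ' hΛ'd)) hL,
      uL.factor hQ Fr.swap hΛ'⟩
    have h1 := uGroup_conj_lev hQ Fr.swap Λ' h0
    rw [hlow]
    convert h1 using 1
    group
  obtain ⟨up, hup⟩ : ∃ w, w = (lev hQ Fr Υ)⁻¹ * U := ⟨_, rfl⟩
  have hup' : up ∈ uGroup hQ Fr :=
    hup ▸ ⟨mul_mem (inv_mem (lev_det_one hQ Fr hk Υ hΥd)) hU, uU.factor hQ Fr hΥ⟩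
  have hLU : L * U = low * lev hQ Fr M * up := by
    rw [hlow, hup, hM, map_mul, hlevΛ]; group
  have hMd : (M : Matrix (Fin k) (Fin k) F).det = 1 := by rw [hM, Units.val_mul, Matrix.det_mul, hΛd, hΥd, one_mul]
  refine ⟨low, up, M, hlow', hup', hLU, hMd, fun c hc => ?_⟩
  obtain ⟨z, hz⟩ : ∃ z : Fin k, (z : ℕ) = 0 := ⟨⟨0, by omega⟩, rfl⟩
  have hzle : ∀ i : Fin k, z ≤ i := fun i => Fin.le_def.2 (by omega)
  have h1 : (Υ : Matrix (Fin k) (Fin k) F) *ᵥ Pi.single z 1 = Pi.single z 1 := by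
    rw [Matrix.mulVec_single_one]; funext i
    show (Υ : Matrix (Fin k) (Fin k) F) i z = _
    rw [hΥ, uU.lam_entry hQ Fr (hzle i), Pi.single_apply]
  have h2 : (Λ' : Matrix (Fin k) (Fin k) F) *ᵥ Pi.single z 1 = Pi.single z 1 := by
    rw [Matrix.mulVec_single_one]; funext i
    show (Λ' : Matrix (Fin k) (Fin k) F) i z = _
    rw [hΛ', uL.lam_entry hQ Fr.swap (hzle i), Pi.single_apply]
  have h3 : ((Λ'⁻¹ : GL (Fin k) F) : Matrix (Fin k) (Fin k) F) *ᵥ Pi.single z 1 = Pi.single z 1 := by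
    conv_lhs => rw [← h2, gl_inv_mulVec]
  have h4 : Pi.single z (1 : F) ⬝ᵥ ((M : Matrix (Fin k) (Fin k) F) *ᵥ Pi.single z 1) = 1 := by
    rw [hM, gl_mul_mulVec, h1, show (cot Λ' : Matrix (Fin k) (Fin k) F) =
      ((Λ'⁻¹ : GL (Fin k) F) : Matrix (Fin k) (Fin k) F)ᵀ from rfl, Matrix.mulVec_transpose,
      dotProduct_comm, ← Matrix.dotProduct_mulVec, h3]
    simp
  rw [hc, Matrix.smul_mulVec, Matrix.one_mulVec] at h4
  simp only [dotProduct_smul, smul_eq_mul, single_dotProduct, Pi.single_eq_same, one_mul, mul_one] at h4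
  exact h4

/-- the criterion -/
theorem commutator_of_up (hk : 3 ≤ k) {L U : GL ι F} (hL : L ∈ omegaGL Q) (hU : U ∈ omegaGL Q)
    (uL : IsUp Fr.swap L) (uU : IsUp Fr U) {A : GL (Fin k) F} {p : Polynomial F}
    (hcyc : Cyc p (A : Matrix (Fin k) (Fin k) F)) (hsr : SimpleRoot p)
    {a : GL ι F} (ha : a ∈ Cfsg.isometryGroup F Q)
    (hae : ∀ i, (a : Matrix ι ι F) *ᵥ Fr.e i = Fr.e i) (haf : ∀ i, (a : Matrix ι ι F) *ᵥ Fr.f i = Fr.f i)
    (hx : lev hQ Fr A * a ∈ omegaGL Q)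
    (hS : NoAlt (A : Matrix (Fin k) (Fin k) F)) (hS' : NoAlt (cot A : Matrix (Fin k) (Fin k) F))
    (hφ : NoInt hQ Fr (A : Matrix (Fin k) (Fin k) F) a)
    (hφ' : NoInt hQ Fr.swap (cot A : Matrix (Fin k) (Fin k) F) a) :
    ∃ v ∈ omegaGL Q, ∃ w ∈ omegaGL Q, L * U = v * w * v⁻¹ * w⁻¹ := by
  obtain ⟨low, up, M, hlow', hup', hLU, hMd, hscal⟩ := exists_gauss hQ Fr hk hL hU uL uU
  -- factor the Levi part
  obtain ⟨P, R, hP, hR, hMPR⟩ : ∃ P R : GL (Fin k) F, (P : Matrix (Fin k) (Fin k) F).det = 1 ∧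
      (R : Matrix (Fin k) (Fin k) F).det = 1 ∧ M = P * A⁻¹ * P⁻¹ * (R * A * R⁻¹) := by
    by_cases hsc : ∃ c : F, (M : Matrix (Fin k) (Fin k) F) = c • 1
    · obtain ⟨c, hc⟩ := hsc
      have h4 := hscal c hc
      refine ⟨1, 1, by simp, by simp, Units.ext ?_⟩
      rw [hc, h4, one_smul]
      simp
    push Not at hsc
    have hAA : (A : Matrix (Fin k) (Fin k) F) * ((A⁻¹ : GL (Fin k) F) : Matrix (Fin k) (Fin k) F) = 1 := Units.mul_inv A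
    obtain ⟨y, z, ε, hy, hz, hMyz, hε⟩ := two_class (by omega : 2 ≤ k) hsc (cyc_inv hcyc hAA) hcyc hsr
      (by rw [hMd, ← Matrix.det_mul, Units.inv_mul, Matrix.det_one]) (by rw [hMd]; exact one_ne_zero)
      (δ₁ := 1) (δ₂ := 1) one_ne_zero one_ne_zero
    rw [hε hk] at hy
    obtain ⟨P, P', hPP, hPd, rfl⟩ := hy
    obtain ⟨R, R', hRR, hRd, rfl⟩ := hz
    let Pu : GL (Fin k) F := ⟨P, P', hPP, mul_eq_one_comm.1 hPP⟩
    let Ru : GL (Fin k) F := ⟨R, R', hRR, mul_eq_one_comm.1 hRR⟩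
    exact ⟨Pu, Ru, hPd, hRd, Units.ext (by rw [hMyz]; rfl)⟩
  have hxi := omegaGL_le_iso hx
  obtain ⟨x, hxd⟩ : ∃ x, x = lev hQ Fr A * a := ⟨_, rfl⟩
  rw [← hxd] at hx hxi
  have hcomm : ∀ B, lev hQ Fr B * a = a * lev hQ Fr B := fun B => lev_comm hQ Fr ha hae haf B
  have hswap : lev hQ Fr.swap (cot A) = lev hQ Fr A := lev_swap hQ Fr A
  have hn1 : ∀ u ∈ uGroup hQ Fr, x * u * x⁻¹ ∈ uGroup hQ Fr := fun u hu => by
    rw [hxd, show lev hQ Fr A * a * u * (lev hQ Fr A * a)⁻¹ = lev hQ Fr A * (a * u * a⁻¹) * (lev hQ Fr A)⁻¹ by group]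
    exact uGroup_conj_lev hQ Fr A (uGroup_conj_fix hQ Fr ha hae hu)
  have hn2 : ∀ u ∈ uGroup hQ Fr.swap, x⁻¹ * u * x⁻¹⁻¹ ∈ uGroup hQ Fr.swap := fun u hu => by
    rw [hxd, ← hswap, show (lev hQ Fr.swap (cot A) * a)⁻¹ * u * (lev hQ Fr.swap (cot A) * a)⁻¹⁻¹ =
      a⁻¹ * ((lev hQ Fr.swap (cot A))⁻¹ * u * (lev hQ Fr.swap (cot A))⁻¹⁻¹) * a⁻¹⁻¹ by group, ← map_inv]
    refine uGroup_conj_fix hQ Fr.swap (inv_mem ha) (fun i => ?_) (uGroup_conj_lev hQ Fr.swap _ hu)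
    conv_lhs => rw [Frame.swap_e, ← haf i, gl_inv_mulVec]
    rfl
  have hC1 : ∀ u ∈ uGroup hQ Fr, u * x = x * u → u = 1 := fun u hu h =>
    eq_one_of_comm hQ Fr ha hae haf hS hφ (omegaGL_le_iso hu.1) hu.2 (hxd ▸ h)
  have hC2 : ∀ u ∈ uGroup hQ Fr.swap, u * x⁻¹ = x⁻¹ * u → u = 1 := fun u hu h => by
    refine eq_one_of_comm hQ Fr.swap ha haf hae hS' hφ' (omegaGL_le_iso hu.1) hu.2 ?_
    rw [hswap, ← hxd]
    calc u * x = x * (x⁻¹ * u) * x := by group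
      _ = x * (u * x⁻¹) * x := by rw [h]
      _ = x * u := by group
  have hPo := lev_det_one hQ Fr hk P hP
  have hRo := lev_det_one hQ Fr hk R hR
  have haei : ∀ i, ((a⁻¹ : GL ι F) : Matrix ι ι F) *ᵥ Fr.e i = Fr.e i := fun i => by
    conv_lhs => rw [← hae i, gl_inv_mulVec]
  have hafi : ∀ i, ((a⁻¹ : GL ι F) : Matrix ι ι F) *ᵥ Fr.f i = Fr.f i := fun i => by
    conv_lhs => rw [← haf i, gl_inv_mulVec]
  have hw1 : (lev hQ Fr P)⁻¹ * (a⁻¹ * low * a⁻¹⁻¹) * (lev hQ Fr P)⁻¹⁻¹ ∈ uGroup hQ Fr.swap := by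
    rw [← lev_swap hQ Fr P, ← map_inv]
    exact uGroup_conj_lev hQ Fr.swap _ (uGroup_conj_fix hQ Fr.swap (inv_mem ha) hafi hlow')
  have hw2 : (lev hQ Fr R)⁻¹ * (a⁻¹ * up * a⁻¹⁻¹) * (lev hQ Fr R)⁻¹⁻¹ ∈ uGroup hQ Fr := by
    rw [← map_inv]
    exact uGroup_conj_lev hQ Fr _ (uGroup_conj_fix hQ Fr (inv_mem ha) haei hup')
  obtain ⟨u₁, hu₁, e₁⟩ := exists_conj_coset hn2 hC2 hw1
  obtain ⟨u₂, hu₂, e₂⟩ := exists_conj_coset' hn1 hC1 hw2
  obtain ⟨v, hv, w, hw, hvw⟩ := commutator_of_conj (N := omegaGL Q) hx (mul_mem hPo hu₁.1) (mul_mem hRo hu₂.1)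
  have hlevA : lev hQ Fr A = x * a⁻¹ := by rw [hxd]; group
  have hax : a * x = x * a := by rw [hxd, ← mul_assoc, ← hcomm A]
  have key : L * U = a * (v * w * v⁻¹ * w⁻¹) * a⁻¹ := by
    rw [← hvw]
    calc L * U = low * (lev hQ Fr P * (a * x⁻¹) * (lev hQ Fr P)⁻¹ * (lev hQ Fr R * (x * a⁻¹) * (lev hQ Fr R)⁻¹)) * up := by
          rw [hLU, hMPR]
          simp only [map_mul, map_inv, hlevA, _root_.mul_inv_rev, inv_inv]
      _ = low * (a * (lev hQ Fr P * x⁻¹ * (lev hQ Fr P)⁻¹) * (lev hQ Fr R * x * (lev hQ Fr R)⁻¹) * a⁻¹) * up := by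
          have e1 : lev hQ Fr P * a = a * lev hQ Fr P := hcomm P
          have e3 : a⁻¹ * (lev hQ Fr R)⁻¹ = (lev hQ Fr R)⁻¹ * a⁻¹ := by
            rw [← _root_.mul_inv_rev, hcomm R, _root_.mul_inv_rev]
          rw [← mul_assoc (lev hQ Fr P) a, e1, show lev hQ Fr R * (x * a⁻¹) * (lev hQ Fr R)⁻¹ =
            lev hQ Fr R * x * (a⁻¹ * (lev hQ Fr R)⁻¹) by group, e3]
          group
      _ = a * (lev hQ Fr P * ((lev hQ Fr P)⁻¹ * (a⁻¹ * low * a⁻¹⁻¹) * (lev hQ Fr P)⁻¹⁻¹ * x⁻¹) * (lev hQ Fr P)⁻¹ *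
            (lev hQ Fr R * (x * ((lev hQ Fr R)⁻¹ * (a⁻¹ * up * a⁻¹⁻¹) * (lev hQ Fr R)⁻¹⁻¹)) * (lev hQ Fr R)⁻¹)) * a⁻¹ := by
          group
      _ = _ := by rw [← e₁, ← e₂]; group
  refine ⟨a * v * a⁻¹, ?_, a * w * a⁻¹, ?_, by rw [key]; group⟩
  · obtain ⟨y, hy, rfl⟩ := Subgroup.mem_map.1 hv
    exact Subgroup.mem_map.2 ⟨⟨a, ha⟩ * y * ⟨a, ha⟩⁻¹, (Subgroup.commutator_normal _ _).conj_mem _ hy _, rfl⟩
  · obtain ⟨y, hy, rfl⟩ := Subgroup.mem_map.1 hw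
    exact Subgroup.mem_map.2 ⟨⟨a, ha⟩ * y * ⟨a, ha⟩⁻¹, (Subgroup.commutator_normal _ _).conj_mem _ hy _, rfl⟩

end CfsgLib.Char.OreOrth
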