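import Cfsg.Agent.Lib.Char.OreOrth.Step
import Cfsg.Agent.Lib.Perm.Trans.QuadSimple

/-!
# The flag decomposition of a non-central element in even dimension
-/

set_option autoImplicit false
set_option linter.all false

namespace CfsgLib.Char.OreOrth

open scoped Matrix
open Matrix Cfsg.Geo CfsgLib.Perm.Asch CfsgLib.Perm.Trans CfsgLib.Perm.Trans.Quad CfsgLib.Orth

variable {ι : Type} [Fintype ι] [DecidableEq ι] {F : Type*} [Field F] [Fintype F]
variable {Q : (ι → F) → F}

local notation "pol" => QuadraticMap.polar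

variable (hQ : IsNondegenerateQuadraticForm Q)
include hQ

omit [Fintype F] in
theorem mem_of_perp_perp {S : Submodule F (ι → F)} {y : ι → F} (hy : y ∈ qperp hQ (qperp hQ S)) : y ∈ S := by
  by_contra h
  obtain ⟨p, hp, hpy⟩ := exists_qperp_ne hQ h
  rw [hy p hp] at hpy
  exact zero_ne_one hpy

omit [Fintype F] in
theorem ns_perp_span {w : ι → F} (hw : Q w ≠ 0) : NS Q (qperp hQ (Submodule.span F {w})) := by
  intro y _ hrad hQy
  obtain ⟨c, rfl⟩ := Submodule.mem_span_singleton.1 (mem_of_perp_perp hQ fun z hz => hrad z hz)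
  rw [qsmul hQ, mul_eq_zero] at hQy
  rw [pow_eq_zero_iff two_ne_zero] at hQy
  rw [hQy.resolve_right hw, zero_smul]

omit [Fintype F] in
theorem finrank_perp_span {w : ι → F} (hw : Q w ≠ 0) :
    Module.finrank F (qperp hQ (Submodule.span F {w})) + 1 = Fintype.card ι := by
  have hw0 : w ≠ 0 := fun h => hw (by rw [h, qzero hQ])
  have h1 := finrank_qperp hQ (Submodule.span F {w})
  rw [finrank_span_singleton hw0] at h1
  have h2 : qperp hQ (Submodule.span F {w}) < ⊤ := by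
    refine lt_top_iff_ne_top.2 fun h => ?_
    obtain ⟨x, hx⟩ := (hQ.nondegenerate w hw0).1
    exact hx ((h.symm ▸ Submodule.mem_top : x ∈ qperp hQ (Submodule.span F {w})) w
      (Submodule.mem_span_singleton_self w))
  have h3 := Submodule.finrank_lt_finrank_of_lt h2
  rw [finrank_top, Module.finrank_fintype_fun_eq_card] at h3
  omega

omit [Fintype F] in
theorem fixPerp_perp_span {w : ι → F} {g : GL ι F} (hgw : (g : Matrix ι ι F) *ᵥ w = w) :
    FixPerp hQ (qperp hQ (Submodule.span F {w})) g := fun y hy => by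
  obtain ⟨c, rfl⟩ := Submodule.mem_span_singleton.1 (mem_of_perp_perp hQ hy)
  rw [Matrix.mulVec_smul, hgw]

omit [Fintype F] in
theorem perp_top {y : ι → F} (hy : y ∈ qperp hQ (⊤ : Submodule F (ι → F))) : y = 0 := by
  by_contra hne
  obtain ⟨x, hx⟩ := (hQ.nondegenerate y hne).2
  exact hx (hy x Submodule.mem_top)

omit [Fintype F] in
theorem fixPerp_top (g : GL ι F) : FixPerp hQ (⊤ : Submodule F (ι → F)) g := fun y hy => by
  rw [perp_top hQ hy, Matrix.mulVec_zero]

variable {n : ℕ}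

/-- an element fixing a non-singular vector -/
theorem hasDec_of_fix (hn : 3 ≤ n) (hdim : Fintype.card ι = 2 * n) {g : GL ι F} (hg : g ∈ omegaGL Q) {w : ι → F}
    (hw : Q w ≠ 0) (hgw : (g : Matrix ι ι F) *ᵥ w = w) : HasDec hQ ⊤ (n - 1) g := by
  have hd := finrank_perp_span hQ hw
  obtain ⟨Fr, -, -, L, U, hL, hU, -, -, uL, uU, h⟩ := hasDec_odd hQ (by omega) (n - 1) _ (ns_perp_span hQ hw)
    (by omega) g hg (fixPerp_perp_span hQ hgw)
  exact ⟨Fr, fun _ => Submodule.mem_top, fun _ => Submodule.mem_top, L, U, hL, hU, fixPerp_top hQ L, fixPerp_top hQ U,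
    uL, uU, h⟩

/-- peeling off a pair leaves an element fixing a non-singular vector -/
theorem hasDec_of_peel (hn : 3 ≤ n) (hdim : Fintype.card ι = 2 * n) {e f v a w : ι → F} {T₁ T₂ g' : GL ι F}
    (hQe : Q e = 0) (hQf : Q f = 0) (hef : pol Q e f = 1) (hw : Q w ≠ 0) (hwe : pol Q w e = 0) (hwf : pol Q w f = 0)
    (hvf : pol Q f v = 0) (hae : pol Q e a = 0) (h1 : T₁ ∈ omegaGL Q) (h2 : T₂ ∈ omegaGL Q) (hT₁ : IsE Q f v T₁)
    (hT₂ : IsE Q e a T₂) (hg' : g' ∈ omegaGL Q) (hge : (g' : Matrix ι ι F) *ᵥ e = e)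
    (hgf : (g' : Matrix ι ι F) *ᵥ f = f) (hgw : (g' : Matrix ι ι F) *ᵥ w = w) :
    HasDec hQ ⊤ (n - 1) (T₁ * g' * T₂) := by
  obtain ⟨m, rfl⟩ : ∃ m, n = m + 2 := ⟨n - 2, by omega⟩
  have heW : e ∈ qperp hQ (Submodule.span F {w}) := (mem_qperp_span hQ).2 fun z hz => by
    rw [Set.mem_singleton_iff.1 hz, pcomm, hwe]
  have hfW : f ∈ qperp hQ (Submodule.span F {w}) := (mem_qperp_span hQ).2 fun z hz => by
    rw [Set.mem_singleton_iff.1 hz, pcomm, hwf]
  have hd := finrank_perp_span hQ hw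
  have hd' := pair_finrank_eq hQ heW hfW hQe hQf hef
  have hdec := hasDec_odd hQ (by omega) m _ ((ns_perp_span hQ hw).pair hQ heW hfW hQe hQf hef) (by omega) g' hg'
    (qperp_pair hQ heW hfW hQe hQf hef (fixPerp_perp_span hQ hgw) hge hgf)
  exact hasDec_cons hQ le_top Submodule.mem_top Submodule.mem_top Submodule.mem_top Submodule.mem_top hQe hQf hef
    (fun y hy => ((mem_pairPerp hQ).1 hy).2.1) (fun y hy => ((mem_pairPerp hQ).1 hy).2.2) hvf hae h1 h2 hT₁ hT₂ hdec

/-- an element moving a non-singular vector by a singular one -/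
theorem hasDec_of_shift (hn : 4 ≤ n) (hdim : Fintype.card ι = 2 * n) {g : GL ι F} (hg : g ∈ omegaGL Q) {w : ι → F}
    (hw : Q w ≠ 0) (hsing : Q ((g : Matrix ι ι F) *ᵥ w - w) = 0) : HasDec hQ ⊤ (n - 1) g := by
  have hgi := omegaGL_le_iso hg
  obtain ⟨x, hx⟩ : ∃ x, x = (g : Matrix ι ι F) *ᵥ w - w := ⟨_, rfl⟩
  rw [← hx] at hsing
  by_cases hx0 : x = 0
  · exact hasDec_of_fix hQ (by omega) hdim hg hw (sub_eq_zero.1 (hx.symm.trans hx0))
  have hgw : (g : Matrix ι ι F) *ᵥ w = w + x := by rw [hx]; abel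
  obtain ⟨e, he⟩ : ∃ e, e = ((g⁻¹ : GL ι F) : Matrix ι ι F) *ᵥ x := ⟨_, rfl⟩
  have hge : (g : Matrix ι ι F) *ᵥ e = x := by rw [he, gl_mulVec_inv]
  have hQe : Q e = 0 := by rw [← mem_iso.1 hgi e, hge, hsing]
  have he0 : e ≠ 0 := fun h => hx0 (by rw [← hge, h, Matrix.mulVec_zero])
  have hwx : pol Q w x = 0 := by
    have h := mem_iso.1 hgi w
    rw [hgw, qadd hQ, hsing] at h
    linear_combination h
  have hwe : pol Q w e = 0 := by
    rw [← iso_pol hgi w e, hge, hgw, padd_left hQ, hwx, pself hQ, hsing]; ring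
  by_cases hc : ∃ c : F, c ≠ 1 ∧ x = c • e
  · obtain ⟨c, hc1, hxc⟩ := hc
    obtain ⟨t, ht⟩ : ∃ t, t = c / (1 - c) := ⟨_, rfl⟩
    have h1c : 1 - c ≠ 0 := sub_ne_zero.2 hc1.symm
    refine hasDec_of_fix hQ (by omega) hdim hg (w := w + t • e) ?_ ?_
    · rw [qadd hQ, qsmul hQ, hQe, psmul_right hQ, hwe]
      simpa using hw
    · rw [Matrix.mulVec_add, Matrix.mulVec_smul, hgw, hge, hxc, ht]
      match_scalars <;> field_simp <;> ring
  push Not at hc
  obtain ⟨f, hQf, hef, hfx, hwf⟩ : ∃ f, Q f = 0 ∧ pol Q e f = 1 ∧ pol Q f x = 1 ∧ pol Q w f = 0 := by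
    by_cases hs : pol Q e x = 0
    · have hes : e ∉ Submodule.span F {w, x - e} := by
        intro h
        obtain ⟨a, b, hab⟩ := Submodule.mem_span_pair.1 h
        have h1 : a • w = (1 + b) • e - b • x := by
          linear_combination (norm := module) hab
        have h2 := congrArg Q h1
        rw [qsmul hQ, qsub hQ, qsmul hQ, qsmul hQ, hQe, hsing, psmul_left hQ, psmul_right hQ, hs] at h2
        have ha : a = 0 := by
          have : a ^ 2 * Q w = 0 := by rw [h2]; ring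
          rw [mul_eq_zero, pow_eq_zero_iff two_ne_zero] at this
          exact this.resolve_right hw
        rw [ha, zero_smul] at h1
        rcases eq_or_ne b 0 with rfl | hb
        · rw [zero_smul, sub_zero, add_zero, one_smul] at h1; exact he0 h1.symm
        · refine hc ((1 + b) / b) (fun h => ?_) ?_
          · rw [div_eq_one_iff_eq hb] at h
            exact one_ne_zero (add_eq_right.1 h)
          · rw [div_eq_inv_mul, mul_smul, show (1 + b) • e = b • x from sub_eq_zero.1 h1.symm, smul_smul,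
              inv_mul_cancel₀ hb, one_smul]
      obtain ⟨p, hp, hpe⟩ := exists_qperp_ne hQ hes
      have hpw : pol Q p w = 0 := hp w (Submodule.subset_span (Or.inl rfl))
      have hpx : pol Q p x = 1 := by
        have h := hp _ (Submodule.subset_span (Or.inr rfl) : x - e ∈ Submodule.span F {w, x - e})
        rw [psub_right hQ, pcomm p e, hpe] at h
        linear_combination h
      refine ⟨p - Q p • e, ?_, ?_, ?_, ?_⟩
      · rw [qsub hQ, qsmul hQ, hQe, psmul_right hQ, pcomm, hpe]; ring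
      · rw [psub_right hQ, psmul_right hQ, hpe, pself hQ, hQe]; ring
      · rw [psub_left hQ, psmul_left hQ, hpx, hs]; ring
      · rw [psub_right hQ, psmul_right hQ, hwe, pcomm w p, hpw]; ring
    · obtain ⟨s, hsd⟩ : ∃ s, s = pol Q e x := ⟨_, rfl⟩
      rw [← hsd] at hs
      obtain ⟨u, hu⟩ : ∃ u, u = s⁻¹ • x := ⟨_, rfl⟩
      have hQu : Q u = 0 := by rw [hu, qsmul hQ, hsing, mul_zero]
      have heu : pol Q e u = 1 := by rw [hu, psmul_right hQ, ← hsd, inv_mul_cancel₀ hs]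
      have hwu : pol Q w u = 0 := by rw [hu, psmul_right hQ, hwx, mul_zero]
      suffices h : ∃ k, pol Q k e = 0 ∧ pol Q k u = 0 ∧ pol Q k w = 0 ∧ Q k = -s⁻¹ by
        obtain ⟨k, hke, hku, hkw, hQk⟩ := h
        have hkx : pol Q k x = 0 := by
          rw [hu, psmul_right hQ] at hku
          exact (mul_eq_zero.1 hku).resolve_left (inv_ne_zero hs)
        refine ⟨s⁻¹ • e + s⁻¹ • x + k, ?_, ?_, ?_, ?_⟩
        · rw [qadd hQ, qadd hQ, qsmul hQ, qsmul hQ, hQe, hsing, padd_left hQ, psmul_left hQ, psmul_left hQ, psmul_left hQ,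
            psmul_right hQ, ← hsd, pcomm e k, hke, pcomm x k, hkx, hQk]
          field_simp
          ring
        · rw [padd_right hQ, padd_right hQ, psmul_right hQ, psmul_right hQ, pself hQ, hQe, ← hsd, pcomm e k, hke]
          field_simp
          ring
        · rw [padd_left hQ, padd_left hQ, psmul_left hQ, psmul_left hQ, ← hsd, pself hQ, hsing, hkx]
          field_simp
          ring
        · rw [padd_right hQ, padd_right hQ, psmul_right hQ, psmul_right hQ, hwe, hwx, pcomm w k, hkw]; ring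
      by_cases h2 : (2 : F) = 0
      · obtain ⟨t, ht⟩ := exists_sq_of_two (F := F) h2 (-s⁻¹ * (Q w)⁻¹)
        refine ⟨t • w, ?_, ?_, ?_, ?_⟩
        · rw [psmul_left hQ, hwe, mul_zero]
        · rw [psmul_left hQ, hwu, mul_zero]
        · rw [psmul_left hQ, pself hQ, h2]; ring
        · rw [qsmul hQ, sq, ht]; field_simp
      · have heW : e ∈ qperp hQ (Submodule.span F {w}) := (mem_qperp_span hQ).2 fun z hz => by
          rw [Set.mem_singleton_iff.1 hz, pcomm, hwe]
        have huW : u ∈ qperp hQ (Submodule.span F {w}) := (mem_qperp_span hQ).2 fun z hz => by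
          rw [Set.mem_singleton_iff.1 hz, pcomm, hwu]
        have hd := finrank_perp_span hQ hw
        have hd' := pair_finrank_eq hQ heW huW hQe hQu heu
        obtain ⟨k, hk, hQk⟩ := exists_qvalue hQ (((ns_perp_span hQ hw).pair hQ heW huW hQe hQu heu).ndOn hQ h2)
          (by omega) (-s⁻¹)
        obtain ⟨hkW, hke, hku⟩ := (mem_pairPerp hQ).1 hk
        exact ⟨k, hke, hku, hkW w (Submodule.mem_span_singleton_self w), hQk⟩
  obtain ⟨v, a, T₁, T₂, g', -, -, hvf, hve, hvd, hea, h1, h2, hT₁, hT₂, hg', -, hge', hgf', rfl⟩ :=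
    peel hQ (by omega) hg (fixPerp_top hQ g) Submodule.mem_top Submodule.mem_top hQe hQf hef (by rw [hge]; exact hfx)
  rw [hge] at hvd
  refine hasDec_of_peel hQ (by omega) hdim hQe hQf hef hw hwe hwf hvf hea h1 h2 hT₁ hT₂ hg' hge' hgf' ?_
  -- the inner element fixes w
  have hwv : pol Q w v = 0 := by rw [hvd, psub_right hQ, psub_right hQ, psmul_right hQ, hwx, hwe, hwf]; ring
  have hT₁w : (T₁ : Matrix ι ι F) *ᵥ w = w := isE_fix hQ hT₁ hwf hwv
  have hee : pol Q e e = 0 := by rw [pself hQ, hQe, mul_zero]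
  have hT₁e : (T₁ : Matrix ι ι F) *ᵥ e = x := by
    have hQv : Q v = -pol Q e x := by
      rw [hvd, qsub hQ, qsub hQ, qsmul hQ, hsing, hQe, hQf, psub_left hQ, psmul_right hQ, psmul_right hQ, pcomm x f, hfx,
        hef, pcomm x e]
      ring
    rw [hT₁, hef, hve, hQv, hvd]; module
  have hT₂e : (T₂ : Matrix ι ι F) *ᵥ e = e := isE_fix hQ hT₂ hee hea
  obtain ⟨β, hβ⟩ : ∃ β, β = pol Q w a := ⟨_, rfl⟩
  have hT₂w : (T₂ : Matrix ι ι F) *ᵥ (w + β • e) = w := by
    rw [Matrix.mulVec_add, Matrix.mulVec_smul, hT₂e, hT₂, hwe, ← hβ]; module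
  have h3 : ((T₁ * g' * T₂ : GL ι F) : Matrix ι ι F) *ᵥ (w + β • e) = w + (1 + β) • x := by
    rw [Matrix.mulVec_add, Matrix.mulVec_smul, hgw, hge]; module
  rw [gl_mul_mulVec, gl_mul_mulVec, hT₂w] at h3
  have h4 : (g' : Matrix ι ι F) *ᵥ w = w + (1 + β) • e := by
    refine Matrix.mulVec_injective_iff_isUnit.2 T₁.isUnit ?_
    rw [h3, Matrix.mulVec_add, Matrix.mulVec_smul, hT₁w, hT₁e]
  have h5 := iso_pol (omegaGL_le_iso hg') w f
  rw [h4, hgf', padd_left hQ, psmul_left hQ, hef, hwf, zero_add, mul_one] at h5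
  rw [h4, h5, zero_smul, add_zero]

/-- when no non-singular vector moves by a singular one, `g` has no fixed vector -/
theorem fixd_eq_bot (hn : 4 ≤ n) (hdim : Fintype.card ι = 2 * n) {g : GL ι F} (hgi : g ∈ Cfsg.isometryGroup F Q)
    (hno : ∀ w, Q w ≠ 0 → Q (disp g w) ≠ 0) : fixd g = ⊥ := by
  by_contra hne
  obtain ⟨v, hv, hv0⟩ := Submodule.exists_mem_ne_zero_of_ne_bot hne
  have hsing : ∀ x, Q (disp g x) = 0 → Q x = 0 ∧ ∀ k ∈ fixd g, pol Q x k = 0 := by
    intro x hx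
    have h1 : ∀ k ∈ fixd g, Q (x + k) = 0 := fun k hk => by
      by_contra h
      exact hno _ h (by rw [map_add, LinearMap.mem_ker.1 hk, add_zero, hx])
    have hQx : Q x = 0 := by simpa using h1 0 (Submodule.zero_mem _)
    refine ⟨hQx, fun k hk => ?_⟩
    have h2 : Q k = 0 := by
      by_contra h
      exact hno k h (by rw [LinearMap.mem_ker.1 hk, qzero hQ])
    have h3 := h1 k hk
    rwa [qadd hQ, hQx, h2, zero_add, zero_add] at h3
  have hts : ∀ k ∈ fixd g, Q k = 0 := fun k hk => (hsing k (by rw [LinearMap.mem_ker.1 hk, qzero hQ])).1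
  have hKI : fixd g ≤ moved g := fun k hk => (mem_moved_iff hQ hgi).2 fun l hl => by
    rw [QuadraticMap.polar, hts _ ((fixd g).add_mem hl hk), hts l hl, hts k hk]; ring
  have hrk : Module.finrank F (moved g) + Module.finrank F (fixd g) = Fintype.card ι := by
    rw [← Module.finrank_fintype_fun_eq_card F (η := ι)]
    exact LinearMap.finrank_range_add_finrank_ker (disp g)
  obtain ⟨I₂, hI₂⟩ : ∃ I₂, I₂ = (moved g).map (disp g) := ⟨_, rfl⟩
  have hI₂rk : Module.finrank F I₂ + Module.finrank F (fixd g) = Module.finrank F (moved g) := by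
    have h := LinearMap.finrank_range_add_finrank_ker ((disp g).domRestrict (moved g))
    rw [LinearMap.domRestrict, LinearMap.range_comp, Submodule.range_subtype, ← hI₂, LinearMap.ker_comp] at h
    have h2 : Module.finrank F ↥(Submodule.comap (moved g).subtype (fixd g)) = Module.finrank F (fixd g) :=
      (Submodule.comapSubtypeEquivOfLe hKI).finrank_eq
    rw [← h2]
    exact h
  have hZ : ∀ z ∈ moved g, Q z = 0 → z ∈ I₂ := by
    rintro _ ⟨x, rfl⟩ hz
    exact hI₂ ▸ ⟨x, (mem_moved_iff hQ hgi).2 fun k hk => by rw [pcomm]; exact (hsing x hz).2 k hk, rfl⟩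
  by_cases hA : ∃ z ∈ moved g, Q z = 0 ∧ z ∉ fixd g
  · obtain ⟨z, hz, hQz, hzK⟩ := hA
    obtain ⟨y₀, hy₀, hzy⟩ : ∃ y ∈ moved g, pol Q z y = 1 := by
      by_contra h
      push Not at h
      refine hzK (mem_of_perp_perp hQ fun k hk => ?_)
      have hkI : k ∈ moved g := (mem_moved_iff hQ hgi).2 fun l hl => by rw [pcomm]; exact hk l hl
      by_contra h'
      exact h ((pol Q z k)⁻¹ • k) ((moved g).smul_mem _ hkI) (by rw [psmul_right hQ, inv_mul_cancel₀ h'])
    obtain ⟨z', hz'⟩ : ∃ z', z' = y₀ - Q y₀ • z := ⟨_, rfl⟩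
    have hz'I : z' ∈ moved g := hz' ▸ (moved g).sub_mem hy₀ ((moved g).smul_mem _ hz)
    have hQz' : Q z' = 0 := by rw [hz', qsub hQ, qsmul hQ, hQz, psmul_right hQ, pcomm, hzy]; ring
    have hzz' : pol Q z z' = 1 := by rw [hz', psub_right hQ, psmul_right hQ, hzy, pself hQ, hQz]; ring
    have hle : moved g ≤ I₂ := fun y hy => by
      have hp := pair_proj hQ hz hz'I hQz hQz' hzz' hy
      obtain ⟨-, hpe, hpf⟩ := (mem_pairPerp hQ).1 hp
      generalize hy' : y - pol Q y z' • z - pol Q y z • z' = y' at hp hpe hpf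
      have hy'I := ((mem_pairPerp hQ).1 hp).1
      have hs : y' + z - Q y' • z' ∈ I₂ := hZ _ ((moved g).sub_mem ((moved g).add_mem hy'I hz)
        ((moved g).smul_mem _ hz'I)) (by
          rw [qsub hQ, qadd hQ, qsmul hQ, hQz, hQz', padd_left hQ, psmul_right hQ, psmul_right hQ, hpe, hpf, hzz']; ring)
      have e : y = (y' + z - Q y' • z') + (pol Q y z' - 1) • z + (Q y' + pol Q y z) • z' := by
        rw [← hy']; module
      rw [e]
      exact add_mem (add_mem hs (Submodule.smul_mem _ _ (hZ z hz hQz))) (Submodule.smul_mem _ _ (hZ z' hz'I hQz'))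
    have := Submodule.finrank_mono hle
    have : 0 < Module.finrank F (fixd g) := by
      rw [Nat.pos_iff_ne_zero]
      exact fun h => hne (Submodule.finrank_eq_zero.1 h)
    omega
  push Not at hA
  obtain ⟨C₀, hC₀⟩ := Submodule.exists_isCompl (fixd g)
  obtain ⟨C, hC⟩ : ∃ C, C = C₀ ⊓ moved g := ⟨_, rfl⟩
  have hCK : ∀ c ∈ C, c ∈ fixd g → c = 0 := fun c hc hk =>
    (Submodule.disjoint_def.1 hC₀.disjoint) c hk (hC ▸ hc).1
  have hsup : fixd g ⊔ C = moved g := by
    rw [hC, ← sup_inf_assoc_of_le C₀ hKI, hC₀.sup_eq_top, top_inf_eq]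
  have hCnd : NdOn Q C := by
    intro c hc hc0
    obtain ⟨y, hy, hcy⟩ : ∃ y ∈ C, pol Q c y ≠ 0 := by
      by_contra h
      push Not at h
      refine hc0 (hCK c hc (mem_of_perp_perp hQ fun m hm => ?_))
      have hmI : m ∈ moved g := (mem_moved_iff hQ hgi).2 fun l hl => by rw [pcomm]; exact hm l hl
      rw [← hsup] at hmI
      obtain ⟨k, hk, d, hd, rfl⟩ := Submodule.mem_sup.1 hmI
      rw [padd_right hQ, h d hd, add_zero, pcomm]
      exact (mem_moved_iff hQ hgi).1 (hC ▸ hc).2 k hk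
    exact ⟨⟨y, hy, by rwa [pcomm]⟩, ⟨y, hy, hcy⟩⟩
  have hC2 : Module.finrank F C ≤ 2 := by
    by_contra h
    obtain ⟨u, hu, hu0, hQu⟩ := exists_qsingular hQ hCnd (by omega)
    exact hu0 (hCK u hu (hA u (hC ▸ hu).2 hQu))
  have hKI₂ : fixd g ≤ I₂ := fun k hk => hZ k (hKI hk) (hts k hk)
  have h1 := Submodule.finrank_mono hKI₂
  have h2 := Submodule.finrank_sup_add_finrank_inf_eq (fixd g) C
  rw [hsup] at h2
  have h3 : Module.finrank F ↥(fixd g ⊓ C) = 0 :=
    Submodule.finrank_eq_zero.2 (eq_bot_iff.2 fun c hc => (Submodule.mem_bot F).2 (hCK c hc.2 hc.1))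
  omega

/-- a quadratic function vanishing on the singular cone is proportional -/
theorem exists_proportional (hn : 5 ≤ Fintype.card ι) (h : (ι → F) →ₗ[F] (ι → F))
    (hz : ∀ z, Q z = 0 → Q (h z) = 0) : ∃ l : F, ∀ z, Q (h z) = l * Q z := by
  obtain ⟨x, -, hx0, hQx⟩ := exists_qsingular hQ (ndOn_top hQ)
    (by rw [finrank_top, Module.finrank_fintype_fun_eq_card]; omega)
  obtain ⟨x', -, hQx', hxx'⟩ := exists_qpartner hQ (ndOn_top hQ) Submodule.mem_top hx0 hQx
  have hd := pair_finrank hQ (P := ⊤) Submodule.mem_top Submodule.mem_top hQx hQx' hxx'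
  rw [finrank_top, Module.finrank_fintype_fun_eq_card] at hd
  have hnd := pair_nd hQ (P := ⊤) Submodule.mem_top Submodule.mem_top hQx hQx' hxx' (ndOn_top hQ)
  have horth : ∀ u, Q u = 0 → ∀ y ∈ pairPerp hQ ⊤ x x', (u = x ∨ u = x') → pol Q (h u) (h y) = 0 := by
    intro u hu y hy hux
    let S : Submodule F (ι → F) := LinearMap.ker ((pfl hQ (h u)).comp h)
    have hle : pairPerp hQ ⊤ x x' ≤ S := le_of_singular_mem hQ hnd (by omega) fun z hz' hQz => by
      obtain ⟨-, hzx, hzx'⟩ := (mem_pairPerp hQ).1 hz'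
      have h0 : Q (u + z) = 0 := by
        rw [qadd hQ, hu, hQz, pcomm]
        rcases hux with rfl | rfl
        · rw [hzx]; ring
        · rw [hzx']; ring
      have h1 := hz _ h0
      rw [map_add, qadd hQ, hz u hu, hz z hQz, zero_add, zero_add] at h1
      show pol Q (h z) (h u) = 0
      rw [pcomm, h1]
    rw [pcomm]
    exact hle hy
  refine ⟨pol Q (h x) (h x'), fun v => ?_⟩
  have hp := pair_proj hQ Submodule.mem_top Submodule.mem_top hQx hQx' hxx' (Submodule.mem_top : v ∈ (⊤ : Submodule F (ι → F)))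
  generalize hy : v - pol Q v x' • x - pol Q v x • x' = y at hp
  obtain ⟨-, hyx, hyx'⟩ := (mem_pairPerp hQ).1 hp
  obtain ⟨l, hl⟩ : ∃ l, l = pol Q (h x) (h x') := ⟨_, rfl⟩
  have hox : pol Q (h x) (h y) = 0 := horth x hQx y hp (Or.inl rfl)
  have hox' : pol Q (h x') (h y) = 0 := horth x' hQx' y hp (Or.inr rfl)
  have hRy : Q (h y) = l * Q y := by
    have h0 : Q (y + x - Q y • x') = 0 := by
      rw [qsub hQ, qadd hQ, qsmul hQ, hQx, hQx', padd_left hQ, psmul_right hQ, psmul_right hQ, hyx, hyx', hxx']; ring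
    have h1 := hz _ h0
    rw [map_sub, map_add, map_smul, qsub hQ, qadd hQ, qsmul hQ, hz x hQx, hz x' hQx', padd_left hQ, psmul_right hQ,
      psmul_right hQ, pcomm (h y) (h x), pcomm (h y) (h x'), hox, hox', ← hl] at h1
    linear_combination h1
  have hv : v = pol Q v x' • x + pol Q v x • x' + y := by rw [← hy]; abel
  rw [← hl]
  generalize pol Q v x' = α at hv
  generalize pol Q v x = β at hv
  subst hv
  rw [map_add, map_add, map_smul, map_smul, qadd hQ, qadd hQ, qsmul hQ, qsmul hQ, hz x hQx, hz x' hQx', padd_left hQ,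
    psmul_left hQ, psmul_left hQ, psmul_left hQ, psmul_right hQ, hox, hox', ← hl, hRy, qadd hQ, qadd hQ, qsmul hQ,
    qsmul hQ, hQx, hQx', padd_left hQ, psmul_left hQ, psmul_left hQ, psmul_left hQ, psmul_right hQ, hxx', pcomm x y,
    hyx, pcomm x' y, hyx']
  ring

/-- every non-central element -/
theorem hasDec_even (hn : 4 ≤ n) (hdim : Fintype.card ι = 2 * n) {g : GL ι F} (hg : g ∈ omegaGL Q)
    (hnc : (2 : F) = 0 ∨ ∃ x, (g : Matrix ι ι F) *ᵥ x ≠ -x) : HasDec hQ ⊤ (n - 1) g := by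
  have hgi := omegaGL_le_iso hg
  by_cases hex : ∃ w, Q w ≠ 0 ∧ Q ((g : Matrix ι ι F) *ᵥ w - w) = 0
  · obtain ⟨w, hw, h⟩ := hex
    exact hasDec_of_shift hQ hn hdim hg hw h
  push Not at hex
  have hno : ∀ w, Q w ≠ 0 → Q (disp g w) ≠ 0 := fun w hw => by
    rw [disp_apply, ← qneg hQ, neg_sub]
    exact hex w hw
  have hinj : Function.Injective (disp g) := LinearMap.ker_eq_bot.1 (fixd_eq_bot hQ hn hdim hgi hno)
  obtain ⟨D, hD⟩ : ∃ D : (ι → F) ≃ₗ[F] (ι → F), ∀ x, D x = disp g x :=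
    ⟨LinearEquiv.ofBijective (disp g) ⟨hinj, LinearMap.surjective_of_injective hinj⟩, fun x => rfl⟩
  obtain ⟨l, hl⟩ := exists_proportional hQ (by omega) D.symm.toLinearMap fun z hz => by
    by_contra h
    refine hno _ h ?_
    rw [← hD, LinearEquiv.coe_coe, LinearEquiv.apply_symm_apply, hz]
  have hQl : ∀ y, Q y = l * Q (disp g y) := fun y => by
    have := hl (D y)
    rwa [LinearEquiv.coe_coe, LinearEquiv.symm_apply_apply, hD] at this
  obtain ⟨z₀, -, hz₀⟩ := exists_nonsingular hQ (ndOn_top hQ) (fun hbot => by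
    have : Module.finrank F (ι → F) = 0 := by rw [← finrank_top F (ι → F), hbot, finrank_bot]
    rw [Module.finrank_fintype_fun_eq_card] at this
    omega)
  have hl0 : l ≠ 0 := fun h => hz₀ (by rw [hQl, h, zero_mul])
  obtain ⟨τ, hτ⟩ : ∃ τ, τ = 2 - l⁻¹ := ⟨_, rfl⟩
  have hτ2 : τ ≠ 2 := fun h => inv_ne_zero hl0 (by rw [hτ] at h; linear_combination -h)
  have hgy : ∀ y, pol Q ((g : Matrix ι ι F) *ᵥ y) y = τ * Q y := fun y => by
    have h1 := hQl y
    rw [disp_apply, qsub hQ, mem_iso.1 hgi, pcomm] at h1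
    rw [hτ]
    field_simp
    linear_combination h1
  have hinv : ∀ y, ((g⁻¹ : GL ι F) : Matrix ι ι F) *ᵥ y = τ • y - (g : Matrix ι ι F) *ᵥ y := by
    intro y
    refine pv_injective hQ (funext fun i => ?_)
    show pol Q (Pi.single i 1) _ = pol Q (Pi.single i 1) _
    generalize (Pi.single i (1 : F) : ι → F) = z
    have h1 := hgy (y + z)
    rw [Matrix.mulVec_add, padd_left hQ, padd_right hQ, padd_right hQ, hgy, hgy, qadd hQ] at h1
    have h2 : pol Q z (((g⁻¹ : GL ι F) : Matrix ι ι F) *ᵥ y) = pol Q ((g : Matrix ι ι F) *ᵥ z) y := by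
      conv_rhs => rw [← gl_mulVec_inv g y, iso_pol hgi]
    rw [h2, psub_right hQ, psmul_right hQ, pcomm z ((g : Matrix ι ι F) *ᵥ y), pcomm z y]
    linear_combination h1
  -- a singular vector which is not an eigenvector
  obtain ⟨e, hQe, hne⟩ : ∃ e, Q e = 0 ∧ ∀ c : F, (g : Matrix ι ι F) *ᵥ e ≠ c • e := by
    by_contra hcon
    push Not at hcon
    obtain ⟨c, hc⟩ := scalar_of_fix hQ (by omega) (g := g) hcon
    have h1 : c * c = 1 := mul_right_cancel₀ hz₀ (by rw [one_mul, ← sq, ← qsmul hQ, ← hc, mem_iso.1 hgi])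
    rcases mul_self_eq_one_iff.1 h1 with h | h
    · exact hex z₀ hz₀ (by rw [hc, h, one_smul, sub_self, qzero hQ])
    · rcases hnc with h2 | ⟨x, hx⟩
      · exact hex z₀ hz₀ (by
          rw [hc, h, neg_one_smul, show -z₀ - z₀ = -((2 : F) • z₀) by rw [two_smul]; abel, h2, zero_smul, neg_zero,
            qzero hQ])
      · exact hx (by rw [hc, h, neg_one_smul])
  have he0 : e ≠ 0 := fun h => hne 0 (by rw [h, Matrix.mulVec_zero, smul_zero])
  obtain ⟨x, hx⟩ : ∃ x, x = (g : Matrix ι ι F) *ᵥ e := ⟨_, rfl⟩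
  have hQx : Q x = 0 := by rw [hx, mem_iso.1 hgi, hQe]
  have hs : pol Q e x = 0 := by rw [pcomm, hx, hgy, hQe, mul_zero]
  have hes : e ∉ Submodule.span F {x - e} := by
    intro h
    obtain ⟨b, hb⟩ := Submodule.mem_span_singleton.1 h
    rcases eq_or_ne b 0 with rfl | hb0
    · exact he0 (by rw [← hb, zero_smul])
    · refine hne ((1 + b) / b) (?_)
      rw [← hx, div_eq_inv_mul, mul_smul, show (1 + b) • e = b • x by
        linear_combination (norm := module) -hb, smul_smul, inv_mul_cancel₀ hb0, one_smul]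
  obtain ⟨p, hp, hpe⟩ := exists_qperp_ne hQ hes
  obtain ⟨f, hf⟩ : ∃ f, f = p - Q p • e := ⟨_, rfl⟩
  have hQf : Q f = 0 := by rw [hf, qsub hQ, qsmul hQ, hQe, psmul_right hQ, pcomm, hpe]; ring
  have hef : pol Q e f = 1 := by rw [hf, psub_right hQ, psmul_right hQ, hpe, pself hQ, hQe]; ring
  have hfx : pol Q f x = 1 := by
    have h := hp _ (Submodule.mem_span_singleton_self (x - e))
    rw [psub_right hQ, pcomm p e, hpe] at h
    rw [hf, psub_left hQ, psmul_left hQ, hs]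
    linear_combination h
  obtain ⟨v, a, T₁, T₂, g', -, -, hvf, hve, hvd, hea, h1, h2, hT₁, hT₂, hg', -, hge', hgf', rfl⟩ :=
    peel hQ (by omega) hg (fixPerp_top hQ g) Submodule.mem_top Submodule.mem_top hQe hQf hef (by rw [← hx]; exact hfx)
  rw [← hx, hs, zero_smul, sub_zero] at hvd
  obtain ⟨g, hgd⟩ : ∃ g, g = T₁ * g' * T₂ := ⟨_, rfl⟩
  rw [← hgd] at hx hgy hinv hgi
  obtain ⟨y, hy⟩ : ∃ y, y = (g : Matrix ι ι F) *ᵥ f - (τ - 1) • f := ⟨_, rfl⟩
  have hee : pol Q e e = 0 := by rw [pself hQ, hQe, mul_zero]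
  have hff : pol Q f f = 0 := by rw [pself hQ, hQf, mul_zero]
  have hfe : pol Q f e = 1 := by rw [pcomm, hef]
  have hgfe : pol Q ((g : Matrix ι ι F) *ᵥ f) e = τ - 1 := by
    conv_lhs => rw [← gl_mulVec_inv g e, iso_pol hgi, hinv, ← hx, psub_right hQ, psmul_right hQ, hfe, hfx]
    ring
  have hgff : pol Q ((g : Matrix ι ι F) *ᵥ f) f = 0 := by rw [hgy, hQf, mul_zero]
  have hgx : (g : Matrix ι ι F) *ᵥ x = τ • x - e := by
    have h := hinv x
    rw [show ((g⁻¹ : GL ι F) : Matrix ι ι F) *ᵥ x = e by rw [hx, gl_inv_mulVec]] at h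
    rw [h]; abel
  have hggf : (g : Matrix ι ι F) *ᵥ ((g : Matrix ι ι F) *ᵥ f) = τ • (g : Matrix ι ι F) *ᵥ f - f := by
    have h := hinv ((g : Matrix ι ι F) *ᵥ f)
    rw [gl_inv_mulVec] at h
    linear_combination (norm := module) h
  have hye : pol Q y e = 0 := by rw [hy, psub_left hQ, psmul_left hQ, hgfe, hfe]; ring
  have hyf : pol Q y f = 0 := by rw [hy, psub_left hQ, psmul_left hQ, hgff, hff]; ring
  have hQv : Q v = 0 := by rw [hvd, qsub hQ, hQx, hQe, pcomm, hs]; ring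
  have hvv : pol Q v v = 0 := by rw [pself hQ, hQv, mul_zero]
  have hyv : pol Q y v = 2 - τ := by
    rw [hvd, psub_right hQ, hye, hy, psub_left hQ, psmul_left hQ, hfx]
    conv_lhs => arg 1; arg 1; rw [hx, iso_pol hgi, hfe]
    ring
  have hT₁e : (T₁ : Matrix ι ι F) *ᵥ e = x := by rw [hT₁, hef, hve, hQv, hvd]; module
  have hT₁f : (T₁ : Matrix ι ι F) *ᵥ f = f := isE_fix hQ hT₁ hff hvf
  have hT₁v : (T₁ : Matrix ι ι F) *ᵥ v = v := isE_fix hQ hT₁ (by rw [pcomm]; exact hvf) hvv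
  have hT₂e : (T₂ : Matrix ι ι F) *ᵥ e = e := isE_fix hQ hT₂ hee hea
  have hve' : pol Q v e = 0 := by rw [pcomm, hve]
  have step : ∀ z, pol Q z e = 0 → ∀ X, (g : Matrix ι ι F) *ᵥ z = X →
      ∀ X', (T₁ : Matrix ι ι F) *ᵥ X' = X → (g' : Matrix ι ι F) *ᵥ z = X' + pol Q z a • e := by
    intro z hz X hX X' hX'
    have hT₂z : (T₂ : Matrix ι ι F) *ᵥ (z + pol Q z a • e) = z := by
      rw [Matrix.mulVec_add, Matrix.mulVec_smul, hT₂e, hT₂, hz]; module
    have h3 : (g : Matrix ι ι F) *ᵥ (z + pol Q z a • e) = X + pol Q z a • x := by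
      rw [Matrix.mulVec_add, Matrix.mulVec_smul, hX, ← hx]
    rw [hgd, gl_mul_mulVec, gl_mul_mulVec, hT₂z] at h3
    refine Matrix.mulVec_injective_iff_isUnit.2 T₁.isUnit ?_
    rw [h3, Matrix.mulVec_add, Matrix.mulVec_smul, hT₁e, hX']
  have hgv : (g' : Matrix ι ι F) *ᵥ v = v := by
    have hX : (g : Matrix ι ι F) *ᵥ v = (τ - 1) • x - e := by
      rw [hvd, Matrix.mulVec_sub, hgx, ← hx]; module
    have h := step v hve' _ hX (v + (τ - 2) • e) (by
      rw [Matrix.mulVec_add, Matrix.mulVec_smul, hT₁v, hT₁e, hvd]; module)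
    have h5 := iso_pol (omegaGL_le_iso hg') v f
    rw [h, hgf', padd_left hQ, padd_left hQ, psmul_left hQ, psmul_left hQ, hef, pcomm v f, hvf] at h5
    rw [h, show v + (τ - 2) • e + pol Q v a • e = v + ((τ - 2) + pol Q v a) • e by module,
      show τ - 2 + pol Q v a = 0 by linear_combination h5, zero_smul, add_zero]
  have hgy' : (g' : Matrix ι ι F) *ᵥ y = y := by
    have hX : (g : Matrix ι ι F) *ᵥ y = y + (τ - 2) • f := by
      rw [hy, Matrix.mulVec_sub, Matrix.mulVec_smul, hggf]; module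
    have h := step y hye _ hX y (by rw [hT₁, hyf, hyv, hQv]; module)
    have h5 := iso_pol (omegaGL_le_iso hg') y f
    rw [h, hgf', padd_left hQ, psmul_left hQ, hef, hyf] at h5
    rw [h, show pol Q y a = 0 by linear_combination h5, zero_smul, add_zero]
  have hvy : ∃ w, Q w ≠ 0 ∧ pol Q w e = 0 ∧ pol Q w f = 0 ∧ (g' : Matrix ι ι F) *ᵥ w = w := by
    by_cases hQy : Q y = 0
    · refine ⟨v + y, ?_, by rw [padd_left hQ, hve', hye, add_zero], by rw [padd_left hQ, pcomm v f, hvf, hyf, add_zero],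
        by rw [Matrix.mulVec_add, hgv, hgy']⟩
      rw [qadd hQ, hQv, hQy, pcomm, hyv, zero_add, zero_add]
      exact sub_ne_zero.2 hτ2.symm
    · exact ⟨y, hQy, hye, hyf, hgy'⟩
  obtain ⟨w, hw, hwe, hwf, hgw⟩ := hvy
  exact hasDec_of_peel hQ (by omega) hdim hQe hQf hef hw hwe hwf hvf hea h1 h2 hT₁ hT₂ hg' hge' hgf' hgw

end CfsgLib.Char.OreOrth
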