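import Cfsg.Agent.Lib.Char.OreOrth.Neg

/-!
# Assembling the planes
-/

set_option autoImplicit false
set_option linter.all false

namespace CfsgLib.Char.OreOrth

open scoped Matrix
open Matrix Cfsg.Geo CfsgLib.Perm.Asch CfsgLib.Perm.Trans CfsgLib.Perm.Trans.Quad CfsgLib.Orth

variable {ι : Type} [Fintype ι] [DecidableEq ι] {F : Type*} [Field F] [Fintype F]
variable {Q : (ι → F) → F}

local notation "pol" => QuadraticMap.polar

variable (hQ : IsNondegenerateQuadraticForm Q) (hex : Fintype.card F ≠ 2 ∨ Fintype.card ι ≠ 4)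
include hQ

theorem orth_sup {A B C : Submodule F (ι → F)} (h1 : ∀ a ∈ A, ∀ c ∈ C, pol Q a c = 0)
    (h2 : ∀ b ∈ B, ∀ c ∈ C, pol Q b c = 0) : ∀ x ∈ A ⊔ B, ∀ c ∈ C, pol Q x c = 0 := by
  intro x hx c hc
  obtain ⟨a, ha, b, hb, rfl⟩ := Submodule.mem_sup.1 hx
  rw [padd_left hQ, h1 a ha c hc, h2 b hb c hc, add_zero]

theorem exists_nc (h2 : (2 : F) ≠ 0) (hn : 5 ≤ Fintype.card ι) : ∀ (m : ℕ), 3 ≤ m → ∀ (W : Submodule F (ι → F)),
    NdOn Q W → Module.finrank F W = 2 * m → ∀ g : ↥(Cfsg.isometryGroup F Q), clsHom hQ hex g = 1 →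
      FixPerp hQ W g → (∀ x ∈ W, act g x = -x) → NC hQ hex W 1 1 := by
  intro m
  induction m using Nat.strong_induction_on with
  | _ m ih =>
    intro hm W hW hd g hg hfix hneg
    have hone : sqc (1 : F) = 1 := sqc_one
    have h22 : sqc (2 : F) * sqc 2 = 1 := sqc_mul_self h2
    have hp11 : (Multiplicative.ofAdd (1 : ZMod 2)) * Multiplicative.ofAdd 1 = 1 := by decide
    -- the first two planes
    obtain ⟨P₁, R₁, hP₁, hR₁, hsup₁, ho₁, hd₁⟩ := exists_split hQ h2 hW (by omega) (c := 1) one_ne_zero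
    obtain ⟨g₁, hg₁, hfix₁, hneg₁⟩ := neg_remainder hQ hex h2 ho₁ hg (hsup₁.symm ▸ hfix) (hsup₁.symm ▸ hneg)
      (plane_pairs hQ hex h2 one_ne_zero hP₁).1
    obtain ⟨P₂, R₂, hP₂, hR₂, hsup₂, ho₂, hd₂⟩ :=
      exists_split hQ h2 hR₁ (by omega) (c := if m = 3 then 2 else 1) (by split_ifs <;> simp [h2])
    have hc2 : (if m = 3 then (2 : F) else 1) ≠ 0 := by split_ifs <;> simp [h2]
    obtain ⟨g₂, hg₂, hfix₂, hneg₂⟩ := neg_remainder hQ hex h2 ho₂ hg₁ (hsup₂.symm ▸ hfix₁) (hsup₂.symm ▸ hneg₁)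
      (plane_pairs hQ hex h2 hc2 hP₂).1
    have hP₂R₁ : P₂ ≤ R₁ := hsup₂ ▸ le_sup_left
    have hR₂R₁ : R₂ ≤ R₁ := hsup₂ ▸ le_sup_right
    have ho₁₂ : ∀ p ∈ P₁, ∀ q ∈ P₂, pol Q p q = 0 := fun p hp q hq => ho₁ p hp q (hP₂R₁ hq)
    have ho12R : ∀ x ∈ P₁ ⊔ P₂, ∀ c ∈ R₂, pol Q x c = 0 :=
      orth_sup hQ (fun a ha c hc => ho₁ a ha c (hR₂R₁ hc)) ho₂
    have hW₂ : P₁ ⊔ P₂ ⊔ R₂ = W := by rw [sup_assoc, hsup₂, hsup₁]
    by_cases h5 : 5 ≤ m
    · rw [if_neg (by omega)] at hP₂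
      have h12 := (plane_pairs hQ hex h2 one_ne_zero hP₁).1.join hQ hex ho₁₂ (plane_pairs hQ hex h2 one_ne_zero hP₂).1
      have hrest := ih (m - 2) (by omega) (by omega) R₂ hR₂ (by omega) g₂ hg₂ hfix₂ hneg₂
      have := h12.join hQ hex ho12R hrest
      rw [hW₂] at this
      rw [Prod.one_eq_mk]
      simpa [Prod.mk_mul_mk, h22, hone, hp11] using this
    by_cases h3 : m = 3
    · rw [if_pos h3] at hP₂
      have hR₃ := exists_plane hQ hex hn h2 hR₂ (by omega) hg₂ hfix₂ hneg₂ (c := 1) one_ne_zero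
      have h12 := (plane_pairs hQ hex h2 one_ne_zero hP₁).1.join hQ hex ho₁₂ (plane_pairs hQ hex h2 h2 hP₂).2.1
      have := h12.join hQ hex ho12R (plane_pairs hQ hex h2 one_ne_zero hR₃).2.2
      rw [hW₂] at this
      rw [Prod.one_eq_mk]
      simpa [Prod.mk_mul_mk, h22, hone, hp11] using this
    · rw [if_neg h3] at hP₂
      obtain ⟨P₃, R₃, hP₃, hR₃, hsup₃, ho₃, hd₃⟩ := exists_split hQ h2 hR₂ (by omega) (c := 1) one_ne_zero
      obtain ⟨g₃, hg₃, hfix₃, hneg₃⟩ := neg_remainder hQ hex h2 ho₃ hg₂ (hsup₃.symm ▸ hfix₂) (hsup₃.symm ▸ hneg₂)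
        (plane_pairs hQ hex h2 one_ne_zero hP₃).1
      have hP₄ := exists_plane hQ hex hn h2 hR₃ (by omega) hg₃ hfix₃ hneg₃ (c := 1) one_ne_zero
      have h12 := (plane_pairs hQ hex h2 one_ne_zero hP₁).1.join hQ hex ho₁₂ (plane_pairs hQ hex h2 one_ne_zero hP₂).1
      have h34 := (plane_pairs hQ hex h2 one_ne_zero hP₃).2.1.join hQ hex ho₃ (plane_pairs hQ hex h2 one_ne_zero hP₄).2.1
      rw [hsup₃] at h34
      have := h12.join hQ hex ho12R h34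
      rw [hW₂] at this
      rw [Prod.one_eq_mk]
      simpa [Prod.mk_mul_mk, h22, hone, hp11] using this

/-- `-1` inside `Ω` is a commutator -/
theorem commutator_neg (h2 : (2 : F) ≠ 0) {n : ℕ} (hn : 3 ≤ n) (hdim : Fintype.card ι = 2 * n) {g : GL ι F}
    (hg : g ∈ omegaGL Q) (hneg : ∀ x, (g : Matrix ι ι F) *ᵥ x = -x) :
    ∃ v ∈ omegaGL Q, ∃ w ∈ omegaGL Q, g = v * w * v⁻¹ * w⁻¹ := by
  have hex : Fintype.card F ≠ 2 ∨ Fintype.card ι ≠ 4 := hex_of_five hQ (by omega)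
  obtain ⟨g', hg', rfl⟩ := Subgroup.mem_map.1 hg
  have hk : ∀ x, x ∈ Cfsg.Omega F Q ↔ clsHom hQ hex x = 1 := fun x => by
    rw [← clsHom_ker hQ (by omega) hex, MonoidHom.mem_ker]
  obtain ⟨a, b, -, -, ha, hb, hab⟩ := exists_nc hQ hex h2 (by omega) n hn ⊤ (ndOn_top hQ)
    (by rw [finrank_top, Module.finrank_fintype_fun_eq_card, hdim]) g' ((hk g').1 hg')
    (fun y hy => by rw [show y = 0 from by
      by_contra hne
      obtain ⟨x, hx⟩ := (hQ.nondegenerate y hne).2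
      exact hx (hy x Submodule.mem_top), Matrix.mulVec_zero]) (fun x _ => hneg x)
  refine ⟨a.1, Subgroup.mem_map.2 ⟨a, (hk a).2 ha, rfl⟩, b.1, Subgroup.mem_map.2 ⟨b, (hk b).2 hb, rfl⟩, ?_⟩
  refine gl_ext_vec fun x => ?_
  have h1 := hneg x
  have h3 : act (a * b * a⁻¹ * b⁻¹) x = -x := hab x Submodule.mem_top
  exact h1.trans h3.symm

end CfsgLib.Char.OreOrth
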