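import Cfsg.Agent.Lib.Char.OreOrth.Odd
import Cfsg.Agent.Lib.Char.OreOrth.Even
import Cfsg.Agent.Lib.Char.OreOrth.NegMain

/-!
# Every element of `Ω` in even dimension is a commutator, more than two elements in the field
-/

set_option autoImplicit false
set_option linter.all false

namespace CfsgLib.Char.OreOrth

open scoped Matrix
open Matrix Cfsg.Geo CfsgLib.Perm.Asch CfsgLib.Perm.Trans CfsgLib.Perm.Trans.Quad CfsgLib.Orth

section Field

variable {F : Type*} [Field F] [Fintype F]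

open CfsgLib.GLClass.CommSL CfsgLib.GLClass.Cover in
/-- the Levi part away from two elements -/
theorem exists_levi_big (hq : 3 ≤ Fintype.card F) {r : ℕ} (hr2 : 2 ≤ r) :
    ∃ (A : GL (Fin (r + 1)) F) (p : Polynomial F), Cyc p (A : Matrix (Fin (r + 1)) (Fin (r + 1)) F) ∧ SimpleRoot p ∧
      IsSquare (A : Matrix (Fin (r + 1)) (Fin (r + 1)) F).det ∧
      NoAlt (A : Matrix (Fin (r + 1)) (Fin (r + 1)) F) ∧ NoAlt (cot A : Matrix (Fin (r + 1)) (Fin (r + 1)) F) ∧
      ((A : Matrix (Fin (r + 1)) (Fin (r + 1)) F) - 1).det ≠ 0 ∧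
        ((cot A : Matrix (Fin (r + 1)) (Fin (r + 1)) F) - 1).det ≠ 0 := by
  classical
  by_cases h2 : (2 : F) ≠ 0
  · exact exists_levi_odd h2 hr2
  push Not at h2
  obtain ⟨d, hd0, hd1⟩ : ∃ d : F, d ≠ 0 ∧ d ≠ 1 := by
    by_contra h
    push Not at h
    have hle : Fintype.card F ≤ ({0, 1} : Finset F).card := Finset.card_le_card fun x _ => by
      by_cases hx : x = 0
      · simp [hx]
      · simp [h x hx]
    have : ({0, 1} : Finset F).card ≤ 2 := Finset.card_le_two
    omega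
  obtain ⟨r', rfl⟩ : ∃ r', r = r' + 2 := ⟨r - 2, by omega⟩
  have hpow : Fintype.card F ≤ Fintype.card F ^ (r' + 1) := Nat.le_self_pow (by omega) _
  have hsucc : Fintype.card F ^ (r' + 2) = Fintype.card F * Fintype.card F ^ (r' + 1) := pow_succ' _ _
  have h3 : 3 * Fintype.card F ^ (r' + 1) ≤ Fintype.card F * Fintype.card F ^ (r' + 1) := Nat.mul_le_mul_right _ hq
  obtain ⟨A, p, a, b, c, d', e', f⟩ := exists_levi (r := r' + 2) (by omega) (d := d) hd0 (e := 1) (Or.inl rfl)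
    (by rw [show r' + 2 - 1 = r' + 1 from rfl, hsucc]; omega) (fun x _ _ _ => isSquare_of_two h2 _)
  exact ⟨A, p, a, b, c, d', e', f hd1⟩

end Field

variable {ι : Type} [Fintype ι] [DecidableEq ι] {F : Type*} [Field F] [Fintype F]
variable {Q : (ι → F) → F}
variable (hQ : IsNondegenerateQuadraticForm Q)
include hQ

/-- even dimension, at least three elements -/
theorem commutator_even (hq : 3 ≤ Fintype.card F) {n : ℕ} (hn : 4 ≤ n) (hdim : Fintype.card ι = 2 * n) {g : GL ι F}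
    (hg : g ∈ omegaGL Q) : ∃ v ∈ omegaGL Q, ∃ w ∈ omegaGL Q, g = v * w * v⁻¹ * w⁻¹ := by
  by_cases hnc : (2 : F) = 0 ∨ ∃ x, (g : Matrix ι ι F) *ᵥ x ≠ -x
  · obtain ⟨Fr, -, -, L, U, hL, hU, -, -, uL, uU, rfl⟩ := hasDec_even hQ hn hdim hg hnc
    obtain ⟨r, hr⟩ : ∃ r, n - 1 = r + 1 := ⟨n - 2, by omega⟩
    revert Fr
    rw [hr]
    intro Fr uL uU
    obtain ⟨A, p, hcyc, hsr, hsq, hS, hS', h1, h1'⟩ := exists_levi_big (F := F) hq (r := r) (by omega)
    exact commutator_of_up hQ Fr (by omega) hL hU uL uU hcyc hsr (one_mem _)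
      (fun i => by rw [Units.val_one, one_mulVec]) (fun i => by rw [Units.val_one, one_mulVec])
      (by rw [mul_one]; exact lev_mem_omega hQ Fr (by omega) A hsq) hS hS' (noInt_one hQ Fr h1)
      (noInt_one hQ Fr.swap h1')
  · push Not at hnc
    exact commutator_neg hQ hnc.1 (by omega) hdim hg hnc.2

end CfsgLib.Char.OreOrth
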