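import Cfsg.Agent.Lib.Orth.Facts
import Cfsg.Agent.Lib.Perm.Trans.QuadMax

/-!
# Hyperbolic frames, Levi elements and flag unipotent elements of orthogonal groups
-/

set_option autoImplicit false
set_option linter.all false

namespace CfsgLib.Char.OreOrth

open scoped Matrix
open Matrix Cfsg.Geo CfsgLib.Perm.Asch CfsgLib.Perm.Trans CfsgLib.Perm.Trans.Quad CfsgLib.Orth

variable {ι : Type} [Fintype ι] [DecidableEq ι] {F : Type*} [Field F]
variable {Q : (ι → F) → F}

local notation "pol" => QuadraticMap.polar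

/-- `k` mutually orthogonal hyperbolic pairs -/
structure Frame (Q : (ι → F) → F) (k : ℕ) where
  e : Fin k → ι → F
  f : Fin k → ι → F
  qe : ∀ i, Q (e i) = 0
  qf : ∀ i, Q (f i) = 0
  ee : ∀ i j, pol Q (e i) (e j) = 0
  ff : ∀ i j, pol Q (f i) (f j) = 0
  ef : ∀ i j, pol Q (e i) (f j) = if i = j then 1 else 0

variable {k : ℕ}

namespace Frame

/-- exchange the two halves -/
def swap (Fr : Frame Q k) : Frame Q k where
  e := Fr.f
  f := Fr.e
  qe := Fr.qf
  qf := Fr.qe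
  ee := Fr.ff
  ff := Fr.ee
  ef i j := by rw [pcomm, Fr.ef]; simp only [eq_comm]

theorem swap_e (Fr : Frame Q k) : Fr.swap.e = Fr.f := rfl
theorem swap_f (Fr : Frame Q k) : Fr.swap.f = Fr.e := rfl
theorem swap_swap (Fr : Frame Q k) : Fr.swap.swap = Fr := rfl

/-- the span of the first half -/
def emb (Fr : Frame Q k) : (Fin k → F) →ₗ[F] (ι → F) := Fintype.linearCombination F Fr.e

theorem emb_apply (Fr : Frame Q k) (c : Fin k → F) : Fr.emb c = ∑ i, c i • Fr.e i :=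
  Fintype.linearCombination_apply F Fr.e c

theorem emb_single (Fr : Frame Q k) (j : Fin k) : Fr.emb (Pi.single j 1) = Fr.e j := by
  rw [emb, Fintype.linearCombination_apply_single, one_smul]

theorem range_emb (Fr : Frame Q k) : LinearMap.range Fr.emb = Submodule.span F (Set.range Fr.e) :=
  Fintype.range_linearCombination F Fr.e

end Frame

variable (hQ : IsNondegenerateQuadraticForm Q) (Fr : Frame Q k)
include hQ

/-- the coordinates along the first half -/
def cvec : (ι → F) →ₗ[F] (Fin k → F) := LinearMap.pi fun i => pfl hQ (Fr.f i)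

theorem cvec_apply (x : ι → F) (i : Fin k) : cvec hQ Fr x i = pol Q x (Fr.f i) := rfl

/-- the coordinates along the second half -/
def dvec : (ι → F) →ₗ[F] (Fin k → F) := cvec hQ Fr.swap

theorem dvec_apply (x : ι → F) (i : Fin k) : dvec hQ Fr x i = pol Q x (Fr.e i) := rfl

theorem cvec_emb (c : Fin k → F) : cvec hQ Fr (Fr.emb c) = c := by
  funext j
  rw [cvec_apply, Frame.emb_apply, pol_sum_left hQ]
  simp [Fr.ef]

theorem dvec_emb (c : Fin k → F) : dvec hQ Fr (Fr.emb c) = 0 := by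
  funext j
  rw [dvec_apply, Frame.emb_apply, pol_sum_left hQ]
  simp [Fr.ee]

theorem cvec_emb' (c : Fin k → F) : cvec hQ Fr (Fr.swap.emb c) = 0 := dvec_emb hQ Fr.swap c

theorem dvec_emb' (c : Fin k → F) : dvec hQ Fr (Fr.swap.emb c) = c := cvec_emb hQ Fr.swap c

theorem pol_emb_left (c : Fin k → F) (y : ι → F) : pol Q (Fr.emb c) y = c ⬝ᵥ dvec hQ Fr y := by
  rw [Frame.emb_apply, pol_sum_left hQ]
  exact Finset.sum_congr rfl fun i _ => by rw [dvec_apply, pcomm y]

theorem q_emb (c : Fin k → F) : Q (Fr.emb c) = 0 := by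
  classical
  rw [Frame.emb_apply]
  suffices h : ∀ s : Finset (Fin k), Q (∑ i ∈ s, c i • Fr.e i) = 0 ∧
      ∀ j, pol Q (∑ i ∈ s, c i • Fr.e i) (Fr.e j) = 0 from (h _).1
  intro s
  induction s using Finset.induction_on with
  | empty => simp [qzero hQ, pzero_left hQ]
  | insert a s ha ih =>
    rw [Finset.sum_insert ha]
    refine ⟨?_, fun j => ?_⟩
    · rw [qadd hQ, qsmul hQ, Fr.qe, ih.1, pcomm, psmul_right hQ, ih.2]; ring
    · rw [padd_left hQ, psmul_left hQ, Fr.ee, ih.2]; ring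

/-- the projection to the orthogonal of the frame -/
def pr : (ι → F) →ₗ[F] (ι → F) :=
  LinearMap.id - Fr.emb ∘ₗ cvec hQ Fr - Fr.swap.emb ∘ₗ dvec hQ Fr

theorem pr_apply (x : ι → F) : pr hQ Fr x = x - Fr.emb (cvec hQ Fr x) - Fr.swap.emb (dvec hQ Fr x) := rfl

theorem pr_add (x : ι → F) : Fr.emb (cvec hQ Fr x) + Fr.swap.emb (dvec hQ Fr x) + pr hQ Fr x = x := by
  rw [pr_apply]; abel

theorem cvec_pr (x : ι → F) : cvec hQ Fr (pr hQ Fr x) = 0 := by
  rw [pr_apply, map_sub, map_sub, cvec_emb, cvec_emb']; simp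

theorem dvec_pr (x : ι → F) : dvec hQ Fr (pr hQ Fr x) = 0 := by
  rw [pr_apply, map_sub, map_sub, dvec_emb, dvec_emb']; simp

theorem q_decomp (c d : Fin k → F) {y : ι → F} (hc : cvec hQ Fr y = 0) (hd : dvec hQ Fr y = 0) :
    Q (Fr.emb c + Fr.swap.emb d + y) = c ⬝ᵥ d + Q y := by
  rw [qadd hQ, qadd hQ, q_emb hQ Fr, q_emb hQ Fr.swap, padd_left hQ, pol_emb_left hQ Fr, pol_emb_left hQ Fr, hd,
    pol_emb_left hQ Fr.swap d y, show dvec hQ Fr.swap y = cvec hQ Fr y from rfl, hc, dvec_emb']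
  simp

/-- the linear Levi map -/
def levL (A B : Matrix (Fin k) (Fin k) F) : (ι → F) →ₗ[F] (ι → F) :=
  Fr.emb ∘ₗ Matrix.mulVecLin A ∘ₗ cvec hQ Fr + Fr.swap.emb ∘ₗ Matrix.mulVecLin B ∘ₗ dvec hQ Fr + pr hQ Fr

theorem levL_apply (A B : Matrix (Fin k) (Fin k) F) (x : ι → F) : levL hQ Fr A B x =
    Fr.emb (A *ᵥ cvec hQ Fr x) + Fr.swap.emb (B *ᵥ dvec hQ Fr x) + pr hQ Fr x := rfl

theorem cvec_levL (A B : Matrix (Fin k) (Fin k) F) (x : ι → F) :
    cvec hQ Fr (levL hQ Fr A B x) = A *ᵥ cvec hQ Fr x := by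
  rw [levL_apply, map_add, map_add, cvec_emb, cvec_emb', cvec_pr]; simp

theorem dvec_levL (A B : Matrix (Fin k) (Fin k) F) (x : ι → F) :
    dvec hQ Fr (levL hQ Fr A B x) = B *ᵥ dvec hQ Fr x := by
  rw [levL_apply, map_add, map_add, dvec_emb, dvec_emb', dvec_pr]; simp

theorem pr_levL (A B : Matrix (Fin k) (Fin k) F) (x : ι → F) :
    pr hQ Fr (levL hQ Fr A B x) = pr hQ Fr x := by
  rw [pr_apply, cvec_levL, dvec_levL, levL_apply]; abel

theorem levL_mul (A B A' B' : Matrix (Fin k) (Fin k) F) :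
    levL hQ Fr A B ∘ₗ levL hQ Fr A' B' = levL hQ Fr (A * A') (B * B') := by
  refine LinearMap.ext fun x => ?_
  rw [LinearMap.comp_apply, levL_apply, cvec_levL, dvec_levL, pr_levL, levL_apply, Matrix.mulVec_mulVec,
    Matrix.mulVec_mulVec]

theorem levL_one : levL hQ Fr 1 1 = LinearMap.id := by
  refine LinearMap.ext fun x => ?_
  rw [levL_apply, Matrix.one_mulVec, Matrix.one_mulVec, pr_add, LinearMap.id_apply]

omit hQ in
/-- inverse transpose -/
def cot (A : GL (Fin k) F) : GL (Fin k) F :=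
  ⟨((A⁻¹ : GL (Fin k) F) : Matrix (Fin k) (Fin k) F)ᵀ, (A : Matrix (Fin k) (Fin k) F)ᵀ,
    by rw [← Matrix.transpose_mul, Units.mul_inv, Matrix.transpose_one],
    by rw [← Matrix.transpose_mul, Units.inv_mul, Matrix.transpose_one]⟩

omit hQ in
theorem cot_cot (A : GL (Fin k) F) : cot (cot A) = A := Units.ext (Matrix.transpose_transpose _)

/-- the Levi element -/
noncomputable def lev : GL (Fin k) F →* GL ι F :=
  MonoidHom.toHomUnits
    { toFun := fun A => LinearMap.toMatrix' (levL hQ Fr A (cot A : GL (Fin k) F))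
      map_one' := by
        rw [show ((cot (1 : GL (Fin k) F) : GL (Fin k) F) : Matrix (Fin k) (Fin k) F) = 1 by simp [cot], Units.val_one,
          levL_one, LinearMap.toMatrix'_id]
      map_mul' := fun A B => by
        rw [← LinearMap.toMatrix'_comp, levL_mul, Units.val_mul]
        simp [cot] }

theorem lev_mulVec (A : GL (Fin k) F) (x : ι → F) :
    ((lev hQ Fr A : GL ι F) : Matrix ι ι F) *ᵥ x = levL hQ Fr A (cot A : GL (Fin k) F) x :=
  LinearMap.toMatrix'_mulVec _ x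

theorem lev_swap (A : GL (Fin k) F) : lev hQ Fr.swap (cot A) = lev hQ Fr A := by
  refine gl_ext_vec fun x => ?_
  rw [lev_mulVec, lev_mulVec, cot_cot, levL_apply, levL_apply, pr_apply, pr_apply, Frame.swap_swap,
    show dvec hQ Fr.swap x = cvec hQ Fr x from rfl, show cvec hQ Fr.swap x = dvec hQ Fr x from rfl]
  abel

theorem lev_iso (A : GL (Fin k) F) : lev hQ Fr A ∈ Cfsg.isometryGroup F Q := by
  refine mem_iso.2 fun x => ?_
  rw [lev_mulVec, levL_apply, q_decomp hQ Fr _ _ (cvec_pr hQ Fr x) (dvec_pr hQ Fr x)]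
  conv_rhs => rw [← pr_add hQ Fr x, q_decomp hQ Fr _ _ (cvec_pr hQ Fr x) (dvec_pr hQ Fr x)]
  congr 1
  rw [show ((cot A : GL (Fin k) F) : Matrix (Fin k) (Fin k) F) =
    ((A⁻¹ : GL (Fin k) F) : Matrix (Fin k) (Fin k) F)ᵀ from rfl, Matrix.mulVec_transpose, dotProduct_comm,
    ← Matrix.dotProduct_mulVec, Matrix.mulVec_mulVec, Units.inv_mul, Matrix.one_mulVec, dotProduct_comm]

theorem lev_e (A : GL (Fin k) F) (j : Fin k) :
    ((lev hQ Fr A : GL ι F) : Matrix ι ι F) *ᵥ Fr.e j = Fr.emb ((A : Matrix (Fin k) (Fin k) F) *ᵥ Pi.single j 1) := by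
  rw [lev_mulVec, levL_apply, pr_apply, ← Fr.emb_single j, cvec_emb, dvec_emb]
  simp

/-- lev preserves both halves modulo each other -/
theorem lev_sub_mem (A : GL (Fin k) F) {y : ι → F} (hy : dvec hQ Fr y = 0) :
    ((lev hQ Fr A : GL ι F) : Matrix ι ι F) *ᵥ y - y ∈ LinearMap.range Fr.emb := by
  refine ⟨(A : Matrix (Fin k) (Fin k) F) *ᵥ cvec hQ Fr y - cvec hQ Fr y, ?_⟩
  rw [lev_mulVec, levL_apply, pr_apply, hy, map_sub, Matrix.mulVec_zero, map_zero]
  abel

theorem lev_comm {a : GL ι F} (ha : a ∈ Cfsg.isometryGroup F Q) (hae : ∀ i, (a : Matrix ι ι F) *ᵥ Fr.e i = Fr.e i)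
    (haf : ∀ i, (a : Matrix ι ι F) *ᵥ Fr.f i = Fr.f i) (A : GL (Fin k) F) :
    lev hQ Fr A * a = a * lev hQ Fr A := by
  have hc : ∀ x, cvec hQ Fr ((a : Matrix ι ι F) *ᵥ x) = cvec hQ Fr x := fun x => funext fun i => by
    rw [cvec_apply, cvec_apply]
    conv_lhs => rw [← haf i]
    exact iso_pol ha _ _
  have hd : ∀ x, dvec hQ Fr ((a : Matrix ι ι F) *ᵥ x) = dvec hQ Fr x := fun x => funext fun i => by
    rw [dvec_apply, dvec_apply]
    conv_lhs => rw [← hae i]
    exact iso_pol ha _ _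
  have hE : ∀ c, (a : Matrix ι ι F) *ᵥ Fr.emb c = Fr.emb c := fun c => by
    rw [Frame.emb_apply, Matrix.mulVec_sum]
    simp_rw [Matrix.mulVec_smul, hae]
  have hF : ∀ c, (a : Matrix ι ι F) *ᵥ Fr.swap.emb c = Fr.swap.emb c := fun c => by
    rw [Frame.emb_apply, Matrix.mulVec_sum]
    simp_rw [Matrix.mulVec_smul, Frame.swap_e, haf]
  refine gl_ext_vec fun x => ?_
  rw [gl_mul_mulVec, gl_mul_mulVec, lev_mulVec, lev_mulVec, levL_apply, levL_apply, pr_apply, pr_apply, hc, hd]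
  simp only [Matrix.mulVec_add, Matrix.mulVec_sub, hE, hF]

/-! ### flag unipotent elements -/

omit hQ in
/-- unitriangular on the first half, trivial on the rest of its orthogonal modulo it -/
def IsUp (Fr : Frame Q k) (u : GL ι F) : Prop :=
  (∀ j, (u : Matrix ι ι F) *ᵥ Fr.e j - Fr.e j ∈ Submodule.span F (Fr.e '' Set.Iio j)) ∧
    ∀ y, (∀ i, pol Q y (Fr.e i) = 0) → (u : Matrix ι ι F) *ᵥ y - y ∈ Submodule.span F (Set.range Fr.e)

omit hQ in
theorem isUp_one : IsUp Fr 1 :=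
  ⟨fun j => by rw [Units.val_one, one_mulVec, sub_self]; exact Submodule.zero_mem _,
    fun y _ => by rw [Units.val_one, one_mulVec, sub_self]; exact Submodule.zero_mem _⟩

omit hQ in
theorem span_iio_le (j : Fin k) :
    Submodule.span F (Fr.e '' Set.Iio j) ≤ Submodule.span F (Set.range Fr.e) :=
  Submodule.span_mono (Set.image_subset_range _ _)

omit hQ in
theorem IsUp.maps {u : GL ι F} (h : IsUp Fr u) {S : Set (Fin k)} (hS : ∀ j ∈ S, Set.Iio j ⊆ S) {x : ι → F}
    (hx : x ∈ Submodule.span F (Fr.e '' S)) : (u : Matrix ι ι F) *ᵥ x ∈ Submodule.span F (Fr.e '' S) := by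
  induction hx using Submodule.span_induction with
  | mem x hx =>
    obtain ⟨j, hj, rfl⟩ := hx
    rw [← sub_add_cancel ((u : Matrix ι ι F) *ᵥ Fr.e j) (Fr.e j)]
    exact Submodule.add_mem _ (Submodule.span_mono (Set.image_mono (hS j hj)) (h.1 j))
      (Submodule.subset_span ⟨j, hj, rfl⟩)
  | zero => rw [Matrix.mulVec_zero]; exact Submodule.zero_mem _
  | add a b _ _ ha hb => rw [Matrix.mulVec_add]; exact Submodule.add_mem _ ha hb
  | smul c a _ ha => rw [Matrix.mulVec_smul]; exact Submodule.smul_mem _ c ha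

omit hQ in
theorem IsUp.maps_iio {u : GL ι F} (h : IsUp Fr u) (j : Fin k) {x : ι → F}
    (hx : x ∈ Submodule.span F (Fr.e '' Set.Iio j)) :
    (u : Matrix ι ι F) *ᵥ x ∈ Submodule.span F (Fr.e '' Set.Iio j) :=
  IsUp.maps (u := u) Fr h (S := Set.Iio j) (fun i hi l hl => Set.mem_Iio.2 (lt_trans (Set.mem_Iio.1 hl) (Set.mem_Iio.1 hi))) hx

omit hQ in
theorem IsUp.maps_all {u : GL ι F} (h : IsUp Fr u) {x : ι → F}
    (hx : x ∈ Submodule.span F (Set.range Fr.e)) :
    (u : Matrix ι ι F) *ᵥ x ∈ Submodule.span F (Set.range Fr.e) := by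
  rw [← Set.image_univ] at hx ⊢
  exact IsUp.maps (u := u) Fr h (S := Set.univ) (fun i _ => Set.subset_univ _) hx

omit hQ in
theorem IsUp.mul {u v : GL ι F} (hu : IsUp Fr u) (hv : IsUp Fr v) : IsUp Fr (u * v) := by
  refine ⟨fun j => ?_, fun y hy => ?_⟩
  · have h := Submodule.add_mem _ (hu.maps_iio Fr j (hv.1 j)) (hu.1 j)
    rw [Matrix.mulVec_sub] at h
    rwa [gl_mul_mulVec, ← sub_add_sub_cancel ((u : Matrix ι ι F) *ᵥ ((v : Matrix ι ι F) *ᵥ Fr.e j))
      ((u : Matrix ι ι F) *ᵥ Fr.e j) (Fr.e j)]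
  · have h := Submodule.add_mem _ (hu.maps_all Fr (hv.2 y hy)) (hu.2 y hy)
    rw [Matrix.mulVec_sub] at h
    rwa [gl_mul_mulVec, ← sub_add_sub_cancel ((u : Matrix ι ι F) *ᵥ ((v : Matrix ι ι F) *ᵥ y))
      ((u : Matrix ι ι F) *ᵥ y) y]

omit hQ in
/-- trivial on the first half, and on its orthogonal modulo it -/
def IsUni (Fr : Frame Q k) (u : GL ι F) : Prop :=
  (∀ j, (u : Matrix ι ι F) *ᵥ Fr.e j = Fr.e j) ∧
    ∀ y, (∀ i, pol Q y (Fr.e i) = 0) → (u : Matrix ι ι F) *ᵥ y - y ∈ Submodule.span F (Set.range Fr.e)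

theorem emb_cvec_of_mem {x : ι → F} (hx : x ∈ Submodule.span F (Set.range Fr.e)) :
    Fr.emb (cvec hQ Fr x) = x := by
  rw [← Frame.range_emb] at hx
  obtain ⟨c, rfl⟩ := hx
  rw [cvec_emb]

omit hQ in
/-- the group of such isometries inside a normal subgroup -/
def uGroup (hQ : IsNondegenerateQuadraticForm Q) (Fr : Frame Q k) : Subgroup (GL ι F) where
  carrier := {u | u ∈ omegaGL Q ∧ IsUni Fr u}
  one_mem' := ⟨one_mem _, fun j => by rw [Units.val_one, one_mulVec],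
    fun y _ => by rw [Units.val_one, one_mulVec, sub_self]; exact Submodule.zero_mem _⟩
  mul_mem' := by
    rintro u v ⟨hu, hu1, hu2⟩ ⟨hv, hv1, hv2⟩
    refine ⟨mul_mem hu hv, fun j => by rw [gl_mul_mulVec, hv1, hu1], fun y hy => ?_⟩
    have hfix : ∀ x ∈ Submodule.span F (Set.range Fr.e), (u : Matrix ι ι F) *ᵥ x = x := fun x hx => by
      induction hx using Submodule.span_induction with
      | mem x hx => obtain ⟨j, rfl⟩ := hx; exact hu1 j
      | zero => exact Matrix.mulVec_zero _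
      | add a b _ _ ha hb => rw [Matrix.mulVec_add, ha, hb]
      | smul c a _ ha => rw [Matrix.mulVec_smul, ha]
    have h := Submodule.add_mem _ (hv2 y hy) (hu2 y hy)
    rw [gl_mul_mulVec, ← add_sub_cancel y ((v : Matrix ι ι F) *ᵥ y), Matrix.mulVec_add, hfix _ (hv2 y hy)]
    convert h using 1
    abel
  inv_mem' := by
    rintro u ⟨hu, hu1, hu2⟩
    have he : ∀ j, ((u⁻¹ : GL ι F) : Matrix ι ι F) *ᵥ Fr.e j = Fr.e j := fun j => by
      conv_lhs => rw [← hu1 j]
      exact gl_inv_mulVec u _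
    refine ⟨inv_mem hu, he, fun y hy => ?_⟩
    have hy' : ∀ i, pol Q (((u⁻¹ : GL ι F) : Matrix ι ι F) *ᵥ y) (Fr.e i) = 0 := fun i => by
      conv_lhs => rw [← he i]
      rw [iso_pol (inv_mem (CfsgLib.Perm.Trans.Quad.omegaGL_le_iso hu)), hy]
    have h := Submodule.neg_mem _ (hu2 _ hy')
    rwa [gl_mulVec_inv, neg_sub] at h

theorem mem_uGroup {u : GL ι F} : u ∈ uGroup hQ Fr ↔ u ∈ omegaGL Q ∧ IsUni Fr u := Iff.rfl

/-- the matrix of an element on the first half -/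
def lam (u : GL ι F) : Matrix (Fin k) (Fin k) F :=
  Matrix.of fun i j => cvec hQ Fr ((u : Matrix ι ι F) *ᵥ Fr.e j) i

theorem IsUp.lam_entry {u : GL ι F} (h : IsUp Fr u) {i j : Fin k} (hij : j ≤ i) :
    lam hQ Fr u i j = if i = j then 1 else 0 := by
  have h0 : ∀ x ∈ Submodule.span F (Fr.e '' Set.Iio j), pol Q x (Fr.f i) = 0 := fun x hx => by
    induction hx using Submodule.span_induction with
    | mem x hx =>
      obtain ⟨l, hl, rfl⟩ := hx
      rw [Fr.ef, if_neg (ne_of_lt (lt_of_lt_of_le hl hij))]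
    | zero => exact pzero_left hQ _
    | add a b _ _ ha hb => rw [padd_left hQ, ha, hb, add_zero]
    | smul c a _ ha => rw [psmul_left hQ, ha, mul_zero]
  have h1 := h0 _ (h.1 j)
  rw [psub_left hQ, Fr.ef, sub_eq_zero] at h1
  show pol Q _ (Fr.f i) = _
  rw [h1]
  exact if_congr eq_comm rfl rfl

theorem IsUp.det_lam {u : GL ι F} (h : IsUp Fr u) : (lam hQ Fr u).det = 1 := by
  rw [Matrix.det_of_upperTriangular (M := lam hQ Fr u) (fun i j (hij : j < i) => by
    rw [h.lam_entry hQ Fr (le_of_lt hij), if_neg (ne_of_gt hij)])]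
  exact Finset.prod_eq_one fun i _ => by rw [h.lam_entry hQ Fr le_rfl, if_pos rfl]

/-- a flag unipotent element is a Levi element times a unipotent one -/
theorem IsUp.factor {u : GL ι F} (h : IsUp Fr u) {A : GL (Fin k) F}
    (hA : (A : Matrix (Fin k) (Fin k) F) = lam hQ Fr u) : IsUni Fr ((lev hQ Fr A)⁻¹ * u) := by
  refine ⟨fun j => ?_, fun y hy => ?_⟩
  · have h1 : (u : Matrix ι ι F) *ᵥ Fr.e j = ((lev hQ Fr A : GL ι F) : Matrix ι ι F) *ᵥ Fr.e j := by
      rw [lev_e, hA]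
      conv_lhs => rw [← emb_cvec_of_mem hQ Fr (h.maps_all Fr (Submodule.subset_span ⟨j, rfl⟩))]
      refine congrArg _ ?_
      rw [Matrix.mulVec_single_one]
      rfl
    rw [gl_mul_mulVec, h1, gl_inv_mulVec]
  · obtain ⟨c, hc⟩ : (u : Matrix ι ι F) *ᵥ y - y ∈ LinearMap.range Fr.emb := by
      rw [Frame.range_emb]; exact h.2 y hy
    have hy' : dvec hQ Fr ((u : Matrix ι ι F) *ᵥ y) = 0 := by
      rw [← sub_add_cancel ((u : Matrix ι ι F) *ᵥ y) y, map_add, ← hc, dvec_emb, zero_add]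
      exact funext hy
    rw [← Frame.range_emb, gl_mul_mulVec, ← map_inv]
    obtain ⟨d, hd⟩ := lev_sub_mem hQ Fr A⁻¹ hy'
    exact ⟨d + c, by rw [map_add, hc, hd]; abel⟩

end CfsgLib.Char.OreOrth
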