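import Cfsg.Agent.Lib.Char.OreOrth.Block
import Cfsg.Agent.Lib.Char.OreOrth.Criterion

/-!
# The Levi part of the distinguished element
-/

set_option autoImplicit false
set_option linter.all false

namespace CfsgLib.Char.OreOrth

open scoped Matrix
open Matrix Polynomial CfsgLib.GLClass.CommSL CfsgLib.GLClass.Cover

variable {F : Type*} [Field F]

theorem aeval_eigen {n : Type*} [Fintype n] [DecidableEq n] {B : Matrix n n F} {v : n → F} {μ : F}
    (h : B *ᵥ v = μ • v) (p : F[X]) : aeval B p *ᵥ v = p.eval μ • v := by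
  induction p using Polynomial.induction_on with
  | C a => simp [Algebra.algebraMap_eq_smul_one, Matrix.smul_mulVec]
  | add p q hp hq => simp [hp, hq, Matrix.add_mulVec, add_smul]
  | monomial k a ih =>
    rw [pow_succ, ← mul_assoc, map_mul (Polynomial.aeval B) (C a * X ^ k), aeval_X, ← Matrix.mulVec_mulVec, h,
      Matrix.mulVec_smul, ih, smul_smul]
    simp only [Polynomial.eval_mul, Polynomial.eval_C, Polynomial.eval_pow, Polynomial.eval_X]
    rw [mul_comm μ]

/-- the inverse transpose of a matrix without fixed alternating forms -/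
theorem noAlt_cot {k : ℕ} {A : GL (Fin k) F} (h : NoAlt (A : Matrix (Fin k) (Fin k) F)ᵀ) :
    NoAlt (cot A : Matrix (Fin k) (Fin k) F) := by
  intro S hS hd he
  refine h S hS hd ?_
  change ((A⁻¹ : GL (Fin k) F) : Matrix (Fin k) (Fin k) F)ᵀ * S *
    (((A⁻¹ : GL (Fin k) F) : Matrix (Fin k) (Fin k) F)ᵀ)ᵀ = S at he
  rw [Matrix.transpose_transpose] at he ⊢
  conv_lhs => rw [← he]
  simp only [Matrix.mul_assoc, Units.inv_mul, Matrix.mul_one]
  rw [← Matrix.mul_assoc, ← Matrix.transpose_mul, Units.inv_mul, Matrix.transpose_one, Matrix.one_mul]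

theorem det_cot_sub {k : ℕ} (A : GL (Fin k) F) (h : ((A : Matrix (Fin k) (Fin k) F) - 1).det ≠ 0) :
    ((cot A : Matrix (Fin k) (Fin k) F) - 1).det ≠ 0 := by
  have e : (cot A : Matrix (Fin k) (Fin k) F) - 1 =
      (((A⁻¹ : GL (Fin k) F) : Matrix (Fin k) (Fin k) F) * (1 - (A : Matrix (Fin k) (Fin k) F)))ᵀ := by
    rw [Matrix.mul_sub, Matrix.mul_one, Units.inv_mul, Matrix.transpose_sub, Matrix.transpose_one]
    rfl
  rw [e, Matrix.det_transpose, Matrix.det_mul]
  refine mul_ne_zero (fun h0 => ?_) ?_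
  · have := congrArg Matrix.det (Units.inv_mul A)
    rw [Matrix.det_mul, h0, zero_mul, Matrix.det_one] at this
    exact zero_ne_one this
  · rw [← neg_sub, Matrix.det_neg]
    exact mul_ne_zero (pow_ne_zero _ (neg_ne_zero.2 one_ne_zero)) h

theorem block_no_root {r : ℕ} {G : Matrix (Fin r) (Fin r) F} {g : F[X]} (hb : IsBlock G g) (hr : 2 ≤ r) (c : F) :
    g.eval c ≠ 0 :=
  fun h => hb.1.not_isRoot_of_natDegree_ne_one (by rw [hb.2.1]; omega) h

theorem noAlt_full {r : ℕ} {g : F[X]} {B : Matrix (Fin r) (Fin r) F} (hg : ∀ c, g.eval c ≠ 0) (hB0 : aeval B g = 0)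
    (hB : ∀ S : Matrix (Fin r) (Fin r) F, B * S * Bᵀ = S → S = 0) {d : F} (hd : d ≠ 0) :
    NoAlt (full d B) := by
  intro S hS hdiag he
  obtain ⟨T, hT⟩ : ∃ T, T = Matrix.reindex (splitFirst r) (splitFirst r) S := ⟨_, rfl⟩
  have hT' : fromBlocks B 0 0 (d • 1) * T * (fromBlocks B 0 0 (d • (1 : Matrix PUnit.{1} PUnit.{1} F)))ᵀ = T := by
    have := congrArg (Matrix.reindex (splitFirst r) (splitFirst r)) he
    rw [hT]
    conv_rhs => rw [← this]
    simp [full, Matrix.submatrix_mul_equiv, Matrix.transpose_submatrix]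
    rw [← Matrix.submatrix_mul_equiv _ _ _ (splitFirst r).symm, ← Matrix.submatrix_mul_equiv _ _ _ (splitFirst r).symm]
    simp
  rw [← fromBlocks_toBlocks T, fromBlocks_transpose, fromBlocks_multiply, fromBlocks_multiply] at hT'
  obtain ⟨e11, e12, -, -⟩ := Matrix.fromBlocks_inj.1 hT'
  simp at e11 e12
  have h11 : T.toBlocks₁₁ = 0 := hB _ e11
  have h12 : T.toBlocks₁₂ = 0 := by
    ext i j
    have hcol : B *ᵥ (fun i => T.toBlocks₁₂ i j) = d⁻¹ • fun i => T.toBlocks₁₂ i j := funext fun i => by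
      have h := congrFun (congrFun e12 i) j
      rw [Matrix.smul_apply, smul_eq_mul] at h
      rw [Pi.smul_apply, smul_eq_mul]
      show (B * T.toBlocks₁₂) i j = _
      rw [← h]
      field_simp
    have h := aeval_eigen hcol g
    rw [hB0, Matrix.zero_mulVec, eq_comm, smul_eq_zero] at h
    exact congrFun (h.resolve_left (hg _)) i
  have hskew : ∀ a b, T a b = -T b a := fun a b => by
    simp [hT]
    exact congrFun (congrFun hS ((splitFirst r).symm b)) ((splitFirst r).symm a)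
  have hTz : T = 0 := by
    ext a b
    rcases a with a | a <;> rcases b with b | b
    · exact congrFun (congrFun h11 a) b
    · exact congrFun (congrFun h12 a) b
    · rw [hskew, show T (Sum.inl b) (Sum.inr a) = 0 from congrFun (congrFun h12 b) a, neg_zero, Matrix.zero_apply]
    · simp [hT, hdiag]
  ext i j
  have := congrFun (congrFun hTz (splitFirst r i)) (splitFirst r j)
  simpa [hT] using this

theorem full_transpose {r : ℕ} (d : F) (B : Matrix (Fin r) (Fin r) F) : (full d B)ᵀ = full d Bᵀ := by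
  simp [full, Matrix.transpose_submatrix, fromBlocks_transpose]

theorem det_full_sub {r : ℕ} {g : F[X]} {B : Matrix (Fin r) (Fin r) F} (hg : ∀ c, g.eval c ≠ 0)
    (hB0 : aeval B g = 0) {d : F} (hd : d ≠ 1) : (full d B - 1).det ≠ 0 := by
  have e : full d B - 1 = full (d - 1) (B - 1) := by
    ext i j
    refine Fin.cases ?_ (fun i => ?_) i <;> refine Fin.cases ?_ (fun j => ?_) j <;>
      simp [full_zero_zero, full_zero_succ, full_succ_zero, full_succ_succ, Matrix.one_apply, Fin.succ_ne_zero,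
        (Fin.succ_ne_zero _).symm]
  rw [e, det_full]
  refine mul_ne_zero (sub_ne_zero.2 hd) fun h => ?_
  obtain ⟨v, hv, h0⟩ := exists_mulVec_eq_zero_iff.2 h
  rw [Matrix.sub_mulVec, Matrix.one_mulVec, sub_eq_zero] at h0
  have h1 := aeval_eigen (μ := 1) (by rw [h0, one_smul]) g
  rw [hB0, Matrix.zero_mulVec, eq_comm, smul_eq_zero] at h1
  exact hv (h1.resolve_left (hg 1))

variable [Fintype F]

/-- the Levi part -/
theorem exists_levi {r : ℕ} (hr2 : 2 ≤ r) {d : F} (hd : d ≠ 0) {e : ℕ} (he : e = 1 ∨ e = 2)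
    (hlt : e * (Fintype.card F ^ (r - 1) + 1) < Fintype.card F ^ r - 1)
    (hsq : ∀ x : F, x ≠ 0 → (e = 2 → IsSquare x) →
      ((∃ c : F, ¬ IsSquare c) → e = 1 → ¬ IsSquare x) → IsSquare (d * x)) :
    ∃ (A : GL (Fin (r + 1)) F) (p : F[X]), Cyc p (A : Matrix (Fin (r + 1)) (Fin (r + 1)) F) ∧ SimpleRoot p ∧
      IsSquare (A : Matrix (Fin (r + 1)) (Fin (r + 1)) F).det ∧
      NoAlt (A : Matrix (Fin (r + 1)) (Fin (r + 1)) F) ∧ NoAlt (cot A : Matrix (Fin (r + 1)) (Fin (r + 1)) F) ∧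
      (d ≠ 1 → ((A : Matrix (Fin (r + 1)) (Fin (r + 1)) F) - 1).det ≠ 0 ∧
        ((cot A : Matrix (Fin (r + 1)) (Fin (r + 1)) F) - 1).det ≠ 0) := by
  obtain ⟨G, g, hb, hG0, h2, h1⟩ := exists_block (F := F) hr2 he hlt
  have hg : ∀ c, g.eval c ≠ 0 := block_no_root hb hr2
  obtain ⟨hirr, hdeg, hcyc, hGB⟩ := hb
  have hdet : (full d G).det ≠ 0 := by rw [det_full]; exact mul_ne_zero hd hG0
  refine ⟨Matrix.GeneralLinearGroup.mkOfDetNeZero (full d G) hdet, _, cyc_full hcyc (hg d),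
    ⟨d, g, hcyc.1, hg d, rfl⟩, ?_, noAlt_full hg (hGB G (Or.inl rfl)).1 (hGB G (Or.inl rfl)).2 hd,
    noAlt_cot ?_, fun hd1 => ⟨det_full_sub hg (hGB G (Or.inl rfl)).1 hd1,
      det_cot_sub _ (det_full_sub hg (hGB G (Or.inl rfl)).1 hd1)⟩⟩
  · show IsSquare (full d G).det
    rw [det_full]
    exact hsq _ hG0 h2 h1
  · show NoAlt (full d G)ᵀ
    rw [full_transpose]
    exact noAlt_full hg (hGB _ (Or.inr rfl)).1 (hGB _ (Or.inr rfl)).2 hd

theorem three_le_card (h2 : (2 : F) ≠ 0) : 3 ≤ Fintype.card F := by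
  have h1 : 1 < Fintype.card F := Fintype.one_lt_card
  rcases Nat.lt_or_ge (Fintype.card F) 3 with h | h
  · exact absurd (by
      have := FiniteField.cast_card_eq_zero F
      rwa [show Fintype.card F = 2 by omega, Nat.cast_ofNat] at this) h2
  · exact h

/-- the Levi part in odd characteristic -/
theorem exists_levi_odd (h2 : (2 : F) ≠ 0) {r : ℕ} (hr2 : 2 ≤ r) :
    ∃ (A : GL (Fin (r + 1)) F) (p : F[X]), Cyc p (A : Matrix (Fin (r + 1)) (Fin (r + 1)) F) ∧ SimpleRoot p ∧
      IsSquare (A : Matrix (Fin (r + 1)) (Fin (r + 1)) F).det ∧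
      NoAlt (A : Matrix (Fin (r + 1)) (Fin (r + 1)) F) ∧ NoAlt (cot A : Matrix (Fin (r + 1)) (Fin (r + 1)) F) ∧
      ((A : Matrix (Fin (r + 1)) (Fin (r + 1)) F) - 1).det ≠ 0 ∧
        ((cot A : Matrix (Fin (r + 1)) (Fin (r + 1)) F) - 1).det ≠ 0 := by
  classical
  have hq := three_le_card h2
  have hne : (-1 : F) ≠ 1 := fun h => h2 (by linear_combination -h)
  obtain ⟨r', rfl⟩ : ∃ r', r = r' + 2 := ⟨r - 2, by omega⟩
  have hpow : Fintype.card F ≤ Fintype.card F ^ (r' + 1) := Nat.le_self_pow (by omega) _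
  have hsucc : Fintype.card F ^ (r' + 2) = Fintype.card F * Fintype.card F ^ (r' + 1) := pow_succ' _ _
  have key : ∀ e, (e = 1 ∨ e = 2) → (e = 2 → 5 ≤ Fintype.card F) →
      e * (Fintype.card F ^ (r' + 2 - 1) + 1) < Fintype.card F ^ (r' + 2) - 1 := by
    intro e he he5
    rw [show r' + 2 - 1 = r' + 1 from rfl, hsucc]
    rcases he with rfl | rfl
    · have h3 : 3 * Fintype.card F ^ (r' + 1) ≤ Fintype.card F * Fintype.card F ^ (r' + 1) := Nat.mul_le_mul_right _ hq
      omega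
    · have h5 : 5 * Fintype.card F ^ (r' + 1) ≤ Fintype.card F * Fintype.card F ^ (r' + 1) :=
        Nat.mul_le_mul_right _ (he5 rfl)
      omega
  by_cases hsq : IsSquare (-1 : F)
  · have h5 : 5 ≤ Fintype.card F := by
      have h4 := FiniteField.isSquare_neg_one_iff.1 hsq
      have hodd := FiniteField.odd_card_of_char_ne_two (F := F) (fun hc => h2 (by
        have := ringChar.charP F
        rw [hc] at this
        exact_mod_cast CharP.cast_eq_zero F 2))
      omega
    obtain ⟨A, p, a, b, c, d', e', f⟩ := exists_levi (r := r' + 2) (by omega) (d := (-1 : F))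
      (neg_ne_zero.2 one_ne_zero) (e := 2) (Or.inr rfl) (key 2 (Or.inr rfl) fun _ => h5)
      (fun x _ hx _ => hsq.mul (hx rfl))
    exact ⟨A, p, a, b, c, d', e', f hne⟩
  · obtain ⟨A, p, a, b, c, d', e', f⟩ := exists_levi (r := r' + 2) (by omega) (d := (-1 : F))
      (neg_ne_zero.2 one_ne_zero) (e := 1) (Or.inl rfl) (key 1 (Or.inl rfl) (by omega)) (fun x hx0 _ hx => by
        rw [← quadraticChar_one_iff_isSquare (mul_ne_zero (neg_ne_zero.2 one_ne_zero) hx0), map_mul,
          quadraticChar_neg_one_iff_not_isSquare.2 hsq, quadraticChar_neg_one_iff_not_isSquare.2 (hx ⟨_, hsq⟩ rfl)]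
        norm_num)
    exact ⟨A, p, a, b, c, d', e', f hne⟩

end CfsgLib.Char.OreOrth
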