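import Cfsg.Agent.Lib.Char.OreOrth.Criterion

/-!
# Levi elements of square determinant lie in the commutator subgroup
-/

set_option autoImplicit false
set_option linter.all false

namespace CfsgLib.Char.OreOrth

open scoped Matrix
open Matrix Cfsg.Geo CfsgLib.Perm.Asch CfsgLib.Perm.Trans CfsgLib.Perm.Trans.Quad CfsgLib.Orth

variable {ι : Type} [Fintype ι] [DecidableEq ι] {F : Type*} [Field F] [Fintype F]
variable {Q : (ι → F) → F} {k : ℕ}

local notation "pol" => QuadraticMap.polar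

variable (hQ : IsNondegenerateQuadraticForm Q) (Fr : Frame Q k)
include hQ

omit hQ in
/-- scale the first coordinate -/
noncomputable def scaleFirst (hk : 0 < k) (t : Fˣ) : GL (Fin k) F :=
  Matrix.GeneralLinearGroup.mkOfDetNeZero
    (Matrix.diagonal fun i => if i = (⟨0, hk⟩ : Fin k) then (t : F) else 1) (by
      rw [Matrix.det_diagonal, Finset.prod_ite_eq' Finset.univ]
      simp)

omit hQ in
theorem det_scaleFirst (hk : 0 < k) (t : Fˣ) :
    (scaleFirst (F := F) hk t : Matrix (Fin k) (Fin k) F).det = t := by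
  show (Matrix.diagonal _).det = _
  rw [Matrix.det_diagonal, Finset.prod_ite_eq' Finset.univ]
  simp

omit hQ in
theorem scaleFirst_mulVec (hk : 0 < k) (t : Fˣ) (v : Fin k → F) :
    (scaleFirst (F := F) hk t : Matrix (Fin k) (Fin k) F) *ᵥ v =
      v + (((t : F) - 1) * v ⟨0, hk⟩) • Pi.single ⟨0, hk⟩ 1 := by
  funext i
  show (Matrix.diagonal _ *ᵥ v) i = _
  rw [Matrix.mulVec_diagonal]
  by_cases hi : i = ⟨0, hk⟩
  · subst hi; simp; ring
  · simp [hi]

omit hQ in
theorem scaleFirst_mul (hk : 0 < k) (s t : Fˣ) :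
    scaleFirst (F := F) hk (s * t) = scaleFirst hk s * scaleFirst hk t := by
  refine Units.ext ?_
  show Matrix.diagonal _ = Matrix.diagonal _ * Matrix.diagonal _
  rw [Matrix.diagonal_mul_diagonal]
  congr 1
  funext i
  split_ifs <;> simp

omit hQ in
theorem cot_scaleFirst (hk : 0 < k) (t : Fˣ) : cot (scaleFirst (F := F) hk t) = scaleFirst hk t⁻¹ := by
  have h1 : (scaleFirst (F := F) hk t)⁻¹ = scaleFirst hk t⁻¹ := by
    refine inv_eq_of_mul_eq_one_right ?_
    rw [← scaleFirst_mul, mul_inv_cancel]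
    refine Units.ext ?_
    show Matrix.diagonal _ = 1
    simp
  refine Units.ext ?_
  show (((scaleFirst (F := F) hk t)⁻¹ : GL (Fin k) F) : Matrix (Fin k) (Fin k) F)ᵀ = _
  rw [h1]
  exact Matrix.diagonal_transpose _

theorem lev_scaleFirst (hk : 0 < k) (t : Fˣ) (x : ι → F) :
    ((lev hQ Fr (scaleFirst hk t) : GL ι F) : Matrix ι ι F) *ᵥ x =
      x + (((t : F) - 1) * pol Q x (Fr.f ⟨0, hk⟩)) • Fr.e ⟨0, hk⟩ +
        ((((t⁻¹ : Fˣ) : F) - 1) * pol Q x (Fr.e ⟨0, hk⟩)) • Fr.f ⟨0, hk⟩ := by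
  rw [lev_mulVec, levL_apply, cot_scaleFirst, scaleFirst_mulVec, scaleFirst_mulVec, map_add, map_add, map_smul,
    map_smul, Frame.emb_single, Frame.emb_single, pr_apply, Frame.swap_e, cvec_apply, dvec_apply]
  abel

theorem lev_sq_mem (hk : 0 < k) (t : Fˣ) : lev hQ Fr (scaleFirst hk (t * t)) ∈ omegaGL Q := by
  obtain ⟨i, hi⟩ : ∃ i : Fin k, i = ⟨0, hk⟩ := ⟨_, rfl⟩
  have hQu : Q (Fr.e i - Fr.f i) = -1 := by rw [qsub hQ, Fr.qe, Fr.qf, Fr.ef, if_pos rfl]; ring
  obtain ⟨r, hr, hru⟩ := exists_refl hQ (v := Fr.e i - Fr.f i) (by rw [hQu]; exact neg_ne_zero.2 one_ne_zero)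
  have hfe : pol Q (Fr.f i) (Fr.e i) = 1 := by rw [pcomm, Fr.ef, if_pos rfl]
  have hef : pol Q (Fr.e i) (Fr.f i) = 1 := by rw [Fr.ef, if_pos rfl]
  have hr' : ∀ x, (r : Matrix ι ι F) *ᵥ x = x + (pol Q x (Fr.e i) - pol Q x (Fr.f i)) • (Fr.e i - Fr.f i) := fun x => by
    rw [hru, hQu, psub_right hQ]
    match_scalars <;> simp
  have hcom : r * lev hQ Fr (scaleFirst hk t⁻¹) = lev hQ Fr (scaleFirst hk t) * r := by
    refine gl_ext_vec fun x => ?_
    rw [gl_mul_mulVec, gl_mul_mulVec, hr', hr', lev_scaleFirst, lev_scaleFirst, inv_inv, ← hi]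
    simp only [padd_left hQ, psub_left hQ, psmul_left hQ, Fr.ee, Fr.ff, hef, hfe]
    have ht : ((t : F)) * ((t⁻¹ : Fˣ) : F) = 1 := Units.mul_inv t
    match_scalars <;> ring
  have heq : lev hQ Fr (scaleFirst hk (t * t)) =
      lev hQ Fr (scaleFirst hk t) * r * (lev hQ Fr (scaleFirst hk t))⁻¹ * r⁻¹ := by
    have hinv : lev hQ Fr (scaleFirst hk t⁻¹) = (lev hQ Fr (scaleFirst hk t))⁻¹ := by
      rw [← map_inv]
      congr 1
      refine (inv_eq_of_mul_eq_one_right ?_).symm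
      rw [← scaleFirst_mul, mul_inv_cancel]
      refine Units.ext ?_
      show Matrix.diagonal _ = 1
      simp
    rw [scaleFirst_mul, map_mul, mul_assoc (lev hQ Fr (scaleFirst hk t)) r, ← hinv, hcom]
    group
  rw [heq]
  exact mem_omegaGL_comm (lev_iso hQ Fr _) hr

/-- Levi elements with square determinant -/
theorem lev_mem_omega (hk : 3 ≤ k) (A : GL (Fin k) F) (hA : IsSquare (A : Matrix (Fin k) (Fin k) F).det) :
    lev hQ Fr A ∈ omegaGL Q := by
  obtain ⟨c, hc⟩ := hA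
  have hc0 : c ≠ 0 := fun h => (A.isUnit.map Matrix.detMonoidHom).ne_zero (show (A : Matrix (Fin k) (Fin k) F).det = 0 by rw [hc, h, mul_zero])
  obtain ⟨t, ht⟩ : ∃ t : Fˣ, t = Units.mk0 c hc0 := ⟨_, rfl⟩
  have hsplit : A = scaleFirst (by omega) (t * t) * ((scaleFirst (by omega) (t * t))⁻¹ * A) := by group
  rw [hsplit, map_mul]
  refine mul_mem (lev_sq_mem hQ Fr (by omega) t) (lev_det_one hQ Fr hk _ ?_)
  have h := congrArg Matrix.det (Units.inv_mul (scaleFirst (F := F) (k := k) (by omega) (t * t)))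
  rw [Matrix.det_mul, det_scaleFirst, Matrix.det_one] at h
  rw [Units.val_mul, Matrix.det_mul, hc, ← h, ht]
  simp

end CfsgLib.Char.OreOrth
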