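import Cfsg.Agent.Lib.Char.OreOrth.Step

/-!
# The negative of the identity is a commutator
-/

set_option autoImplicit false
set_option linter.all false

namespace CfsgLib.Char.OreOrth

open scoped Matrix
open Matrix Cfsg.Geo CfsgLib.Perm.Asch CfsgLib.Perm.Trans CfsgLib.Perm.Trans.Quad CfsgLib.Orth

variable {ι : Type} [Fintype ι] [DecidableEq ι] {F : Type*} [Field F] [Fintype F]
variable {Q : (ι → F) → F}

local notation "pol" => QuadraticMap.polar

variable (hQ : IsNondegenerateQuadraticForm Q)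
include hQ

omit [Fintype F] hQ in
/-- the subtype of isometries acts on vectors -/
abbrev act (a : ↥(Cfsg.isometryGroup F Q)) (x : ι → F) : ι → F := ((a : GL ι F) : Matrix ι ι F) *ᵥ x

omit [Fintype F] hQ in
theorem act_mul (a b : ↥(Cfsg.isometryGroup F Q)) (x : ι → F) : act (a * b) x = act a (act b x) :=
  gl_mul_mulVec _ _ x

omit [Fintype F] hQ in
theorem act_one (x : ι → F) : act (1 : ↥(Cfsg.isometryGroup F Q)) x = x := by simp [act]

omit [Fintype F] in
theorem fix_comm {W₁ W₂ : Submodule F (ι → F)} (horth : ∀ p ∈ W₁, ∀ r ∈ W₂, pol Q p r = 0)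
    {g h : ↥(Cfsg.isometryGroup F Q)} (hg : FixPerp hQ W₁ g) (hh : FixPerp hQ W₂ h) : g * h = h * g := by
  refine Subtype.ext (gl_ext_vec fun x => ?_)
  show act (g * h) x = act (h * g) x
  rw [act_mul, act_mul]
  have h1 : act g (act h x - x) = act h x - x := by
    refine hg _ ?_
    have hm : act h x - x ∈ W₂ := by
      have := moved_le hQ h.2 hh (LinearMap.mem_range_self (disp (h : GL ι F)) x)
      rw [disp_apply] at this
      simpa [act] using W₂.neg_mem this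
    exact fun p hp => by rw [pcomm]; exact horth p hp _ hm
  have h2 : act h (act g x - x) = act g x - x := by
    refine hh _ ?_
    have hm : act g x - x ∈ W₁ := by
      have := moved_le hQ g.2 hg (LinearMap.mem_range_self (disp (g : GL ι F)) x)
      rw [disp_apply] at this
      simpa [act] using W₁.neg_mem this
    exact fun r hr => horth _ hm r hr
  simp only [act, Matrix.mulVec_sub] at h1 h2 ⊢
  linear_combination (norm := abel) h1 - h2

omit [Fintype F] in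
theorem fixPerp_mono {W W' : Submodule F (ι → F)} (h : W ≤ W') {g : GL ι F} (hg : FixPerp hQ W g) :
    FixPerp hQ W' g :=
  fun y hy => hg y fun w hw => hy w (h hw)

variable (hex : Fintype.card F ≠ 2 ∨ Fintype.card ι ≠ 4)

/-- a pair on `W` with commutator `-1` and prescribed classes -/
def NC (W : Submodule F (ι → F)) (κ μ : SqClass F × Multiplicative (ZMod 2)) : Prop :=
  ∃ a b : ↥(Cfsg.isometryGroup F Q), FixPerp hQ W a ∧ FixPerp hQ W b ∧ clsHom hQ hex a = κ ∧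
    clsHom hQ hex b = μ ∧ ∀ x ∈ W, act (a * b * a⁻¹ * b⁻¹) x = -x

theorem NC.join {W₁ W₂ : Submodule F (ι → F)} {κ μ κ' μ' : SqClass F × Multiplicative (ZMod 2)}
    (horth : ∀ p ∈ W₁, ∀ r ∈ W₂, pol Q p r = 0) (h₁ : NC hQ hex W₁ κ μ) (h₂ : NC hQ hex W₂ κ' μ') :
    NC hQ hex (W₁ ⊔ W₂) (κ * κ') (μ * μ') := by
  obtain ⟨a, b, ha, hb, ca, cb, hab⟩ := h₁
  obtain ⟨a', b', ha', hb', ca', cb', hab'⟩ := h₂
  refine ⟨a * a', b * b', (fixPerp_mono hQ le_sup_left ha).mul hQ (fixPerp_mono hQ le_sup_right ha'),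
    (fixPerp_mono hQ le_sup_left hb).mul hQ (fixPerp_mono hQ le_sup_right hb'), by rw [map_mul, ca, ca'],
    by rw [map_mul, cb, cb'], fun x hx => ?_⟩
  have hc : ∀ {g h : ↥(Cfsg.isometryGroup F Q)}, FixPerp hQ W₁ g → FixPerp hQ W₂ h → Commute g h :=
    fun hg hh => fix_comm hQ horth hg hh
  have hai : FixPerp hQ W₁ (a⁻¹ : ↥(Cfsg.isometryGroup F Q)) := ha.inv hQ
  have hbi : FixPerp hQ W₁ (b⁻¹ : ↥(Cfsg.isometryGroup F Q)) := hb.inv hQ
  have hai' : FixPerp hQ W₂ (a'⁻¹ : ↥(Cfsg.isometryGroup F Q)) := ha'.inv hQ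
  have hbi' : FixPerp hQ W₂ (b'⁻¹ : ↥(Cfsg.isometryGroup F Q)) := hb'.inv hQ
  have hsplit : a * a' * (b * b') * (a * a')⁻¹ * (b * b')⁻¹ = (a * b * a⁻¹ * b⁻¹) * (a' * b' * a'⁻¹ * b'⁻¹) := by
    rw [((hc hb ha').symm).mul_mul_mul_comm, _root_.mul_inv_rev a a', _root_.mul_inv_rev b b', (hc hai hai').symm.eq,
      (hc hbi hbi').symm.eq]
    have e1 : a' * b' * a⁻¹ = a⁻¹ * (a' * b') := ((hc hai ha').mul_right (hc hai hb')).eq.symm
    have e2 : a' * b' * a'⁻¹ * b⁻¹ = b⁻¹ * (a' * b' * a'⁻¹) :=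
      (((hc hbi ha').mul_right (hc hbi hb')).mul_right (hc hbi hai')).eq.symm
    calc a * b * (a' * b') * (a⁻¹ * a'⁻¹) * (b⁻¹ * b'⁻¹) = a * b * (a' * b' * a⁻¹) * a'⁻¹ * b⁻¹ * b'⁻¹ := by group
      _ = a * b * a⁻¹ * (a' * b' * a'⁻¹ * b⁻¹) * b'⁻¹ := by rw [e1]; group
      _ = _ := by rw [e2]; group
  have f1 : FixPerp hQ W₁ (a * b * a⁻¹ * b⁻¹ : ↥(Cfsg.isometryGroup F Q)) :=
    ((ha.mul hQ hb).mul hQ hai).mul hQ hbi
  have f2 : FixPerp hQ W₂ (a' * b' * a'⁻¹ * b'⁻¹ : ↥(Cfsg.isometryGroup F Q)) :=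
    ((ha'.mul hQ hb').mul hQ hai').mul hQ hbi'
  obtain ⟨x₁, hx₁, x₂, hx₂, rfl⟩ := Submodule.mem_sup.1 hx
  rw [hsplit, act_mul]
  simp only [act, Matrix.mulVec_add]
  have g1 : act (a' * b' * a'⁻¹ * b'⁻¹) x₁ = x₁ := f2 x₁ fun r hr => horth x₁ hx₁ r hr
  have g2 : act (a' * b' * a'⁻¹ * b'⁻¹) x₂ = -x₂ := hab' x₂ hx₂
  have g3 : act (a * b * a⁻¹ * b⁻¹) x₁ = -x₁ := hab x₁ hx₁
  have g4 : act (a * b * a⁻¹ * b⁻¹) x₂ = x₂ := f1 x₂ fun p hp => by rw [pcomm]; exact horth p hp x₂ hx₂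
  simp only [act] at g1 g2 g3 g4
  rw [g1, g2, g3, Matrix.mulVec_neg, g4]
  abel

omit [Fintype F] hQ in
/-- `W` is a plane with an orthogonal basis of two vectors of value `c` -/
def IsPlane (Q : (ι → F) → F) (W : Submodule F (ι → F)) (c : F) : Prop :=
  ∃ x y, Q x = c ∧ Q y = c ∧ QuadraticMap.polar Q x y = 0 ∧ W = Submodule.span F {x, y}

/-- the three pairs on a plane -/
theorem plane_pairs (h2 : (2 : F) ≠ 0) {W : Submodule F (ι → F)} {c : F} (hc : c ≠ 0) (hW : IsPlane Q W c) :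
    NC hQ hex W (sqc 2, 1) (sqc c, Multiplicative.ofAdd 1) ∧
    NC hQ hex W (sqc c, Multiplicative.ofAdd 1) (sqc 2, 1) ∧
    NC hQ hex W (sqc c, Multiplicative.ofAdd 1) ((sqc c, Multiplicative.ofAdd 1) * (sqc 2, 1)) := by
  obtain ⟨x, y, hx, hy, hxy, rfl⟩ := hW
  have hQd : Q (x - y) = 2 * c := by rw [qsub hQ, hx, hy, hxy]; ring
  obtain ⟨r, hr, hrv⟩ := exists_refl hQ (v := x) (by rw [hx]; exact hc)
  obtain ⟨s, hs, hsv⟩ := exists_refl hQ (v := x - y) (by rw [hQd]; exact mul_ne_zero h2 hc)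
  obtain ⟨R, hR⟩ : ∃ R : ↥(Cfsg.isometryGroup F Q), R = ⟨r, hr⟩ := ⟨_, rfl⟩
  obtain ⟨S, hS⟩ : ∃ S : ↥(Cfsg.isometryGroup F Q), S = ⟨s, hs⟩ := ⟨_, rfl⟩
  have hRR : R * R = 1 := by subst hR; exact Subtype.ext (refl_mul_self hQ hrv (by rw [hx]; exact hc))
  have hSS : S * S = 1 := by subst hS; exact Subtype.ext (refl_mul_self hQ hsv (by rw [hQd]; exact mul_ne_zero h2 hc))
  have hxW : x ∈ Submodule.span F {x, y} := Submodule.subset_span (Or.inl rfl)
  have hyW : y ∈ Submodule.span F {x, y} := Submodule.subset_span (Or.inr rfl)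
  have fR : FixPerp hQ (Submodule.span F {x, y}) R := fun z hz => by
    subst hR; exact refl_fix hQ hrv (hz x hxW)
  have fS : FixPerp hQ (Submodule.span F {x, y}) S := fun z hz => by
    subst hS; exact refl_fix hQ hsv (hz _ (Submodule.sub_mem _ hxW hyW))
  have rx : act R x = -x := by
    subst hR
    show (r : Matrix ι ι F) *ᵥ x = -x
    rw [hrv, hx, pself hQ, hx]
    match_scalars
    field_simp
    ring
  have ry : act R y = y := by
    subst hR; exact refl_fix hQ hrv (by rw [pcomm, hxy])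
  have sx : act S x = y := by
    subst hS; exact refl_moves hQ (hx.trans hy.symm) (by rw [hQd]; exact mul_ne_zero h2 hc) hsv
  have sy : act S y = x := by
    rw [← sx, ← act_mul, hSS, act_one]
  have key : ∀ z ∈ Submodule.span F {x, y}, act (S * R * (S * R)) z = -z ∧ act (R * S * (R * S)) z = -z := by
    intro z hz
    obtain ⟨α, β, rfl⟩ := Submodule.mem_span_pair.1 hz
    simp only [act_mul, act, Matrix.mulVec_add, Matrix.mulVec_smul]
    simp only [act] at rx ry sx sy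
    constructor <;>
      simp only [rx, ry, sx, sy, Matrix.mulVec_neg, Matrix.mulVec_add, Matrix.mulVec_smul, smul_neg] <;> abel
  have fI : FixPerp hQ (Submodule.span F {x, y}) (S * R : ↥(Cfsg.isometryGroup F Q)) := fS.mul hQ fR
  have fT : FixPerp hQ (Submodule.span F {x, y}) (R * (S * R) : ↥(Cfsg.isometryGroup F Q)) := fR.mul hQ fI
  have cR : clsHom hQ hex R = (sqc c, Multiplicative.ofAdd 1) := by
    subst hR
    obtain ⟨e1, e2⟩ := refl_spn hQ hr hrv (by rw [hx]; exact hc)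
    refine Prod.ext (e2.trans (by rw [hx])) ?_
    show Multiplicative.ofAdd ((wrk r : ℕ) : ZMod 2) = _
    rw [e1, Nat.cast_one]
  have cS : clsHom hQ hex S = (sqc (2 * c), Multiplicative.ofAdd 1) := by
    subst hS
    obtain ⟨e1, e2⟩ := refl_spn hQ hs hsv (by rw [hQd]; exact mul_ne_zero h2 hc)
    refine Prod.ext (e2.trans (by rw [hQd])) ?_
    show Multiplicative.ofAdd ((wrk s : ℕ) : ZMod 2) = _
    rw [e1, Nat.cast_one]
  have hRi : R⁻¹ = R := inv_eq_of_mul_eq_one_right hRR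
  have hSi : S⁻¹ = S := inv_eq_of_mul_eq_one_right hSS
  have cI : clsHom hQ hex (S * R) = (sqc 2, 1) := by
    rw [map_mul, cS, cR]
    refine Prod.ext ?_ ?_
    · show sqc (2 * c) * sqc c = sqc 2
      rw [sqc_mul h2 hc, mul_assoc, sqc_mul_self hc, mul_one]
    · show Multiplicative.ofAdd (1 : ZMod 2) * Multiplicative.ofAdd 1 = 1
      decide
  refine ⟨⟨S * R, R, fI, fR, cI, cR, fun z hz => ?_⟩, ⟨R, S * R, fR, fI, cR, cI, fun z hz => ?_⟩,
    ⟨R, R * (S * R), fR, fT, cR, by rw [map_mul, cI, cR], fun z hz => ?_⟩⟩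
  · have e : S * R * R * (S * R)⁻¹ * R⁻¹ = S * R * (S * R) := by
      rw [_root_.mul_inv_rev, hRi, hSi, mul_assoc S R R, hRR, mul_one]
      simp only [← mul_assoc]
    rw [e]; exact (key z hz).1
  · have e : R * (S * R) * R⁻¹ * (S * R)⁻¹ = R * S * (R * S) := by
      rw [_root_.mul_inv_rev, hRi, hSi]
      calc R * (S * R) * R * (R * S) = R * S * (R * R) * (R * S) := by group
        _ = _ := by rw [hRR, mul_one]
    rw [e]; exact (key z hz).2
  · have e : R * (R * (S * R)) * R⁻¹ * (R * (S * R))⁻¹ = S * R * (S * R) := by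
      rw [_root_.mul_inv_rev, _root_.mul_inv_rev, hRi, hSi, ← mul_assoc R R (S * R), hRR, one_mul]
      calc S * R * R * (R * S * R) = S * (R * R) * (R * S * R) := by group
        _ = _ := by rw [hRR, mul_one, mul_assoc R S R, ← mul_assoc S R (S * R)]
    rw [e]; exact (key z hz).1

theorem exists_sum_sq (h2 : (2 : F) ≠ 0) (x : F) : ∃ a b : F, a * a + b * b = x := by
  classical
  open Polynomial in
  obtain ⟨a, b, h⟩ := FiniteField.exists_root_sum_quadratic (R := F) (f := X ^ 2) (g := X ^ 2 - C x)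
    (degree_X_pow 2) (degree_X_pow_sub_C (by decide) _) (by
      have hF : ringChar F ≠ 2 := fun hc => h2 (by
        have := ringChar.charP F
        rw [hc] at this
        exact_mod_cast CharP.cast_eq_zero F 2)
      exact Nat.odd_iff.1 (Nat.odd_iff.2 (FiniteField.odd_card_of_char_ne_two hF)))
  refine ⟨a, b, ?_⟩
  simp at h
  linear_combination h

/-- the value of a plane is arbitrary -/
theorem IsPlane.change (h2 : (2 : F) ≠ 0) {W : Submodule F (ι → F)} {c : F} (hc : c ≠ 0) (hW : IsPlane Q W c)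
    {c' : F} (hc' : c' ≠ 0) : IsPlane Q W c' := by
  obtain ⟨x, y, hx, hy, hxy, rfl⟩ := hW
  obtain ⟨a, b, hab⟩ := exists_sum_sq hQ h2 (c' / c)
  have hne : a * a + b * b ≠ 0 := by rw [hab]; exact div_ne_zero hc' hc
  have hne₁ : a ^ 2 + b ^ 2 ≠ 0 := by simpa [sq] using hne
  have hne₂ : b ^ 2 + a ^ 2 ≠ 0 := by rwa [add_comm]
  refine ⟨a • x + b • y, -b • x + a • y, ?_, ?_, ?_, le_antisymm ?_ ?_⟩
  · rw [qadd hQ, qsmul hQ, qsmul hQ, psmul_left hQ, psmul_right hQ, hx, hy, hxy]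
    rw [eq_div_iff hc] at hab
    linear_combination hab
  · rw [qadd hQ, qsmul hQ, qsmul hQ, psmul_left hQ, psmul_right hQ, hx, hy, hxy]
    rw [eq_div_iff hc] at hab
    linear_combination hab
  · simp only [padd_left hQ, padd_right hQ, psmul_left hQ, psmul_right hQ, pself hQ, hx, hy, hxy, pcomm y x]
    ring
  · refine Submodule.span_le.2 ?_
    rintro z (rfl | rfl)
    · refine Submodule.mem_span_pair.2 ⟨a / (a * a + b * b), -b / (a * a + b * b), ?_⟩
      match_scalars <;> field_simp <;> ring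
    · refine Submodule.mem_span_pair.2 ⟨b / (a * a + b * b), a / (a * a + b * b), ?_⟩
      match_scalars <;> field_simp <;> ring
  · refine Submodule.span_le.2 ?_
    rintro z (rfl | rfl)
    · exact Submodule.mem_span_pair.2 ⟨a, b, rfl⟩
    · exact Submodule.mem_span_pair.2 ⟨-b, a, rfl⟩

/-- split off a plane -/
theorem exists_split (h2 : (2 : F) ≠ 0) {W : Submodule F (ι → F)} (hW : NdOn Q W) (hd : 4 ≤ Module.finrank F W)
    {c : F} (hc : c ≠ 0) : ∃ P R : Submodule F (ι → F), IsPlane Q P c ∧ NdOn Q R ∧ P ⊔ R = W ∧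
      (∀ p ∈ P, ∀ r ∈ R, pol Q p r = 0) ∧ Module.finrank F R + 2 = Module.finrank F W := by
  have step : ∀ (U : Submodule F (ι → F)), NdOn Q U → 3 ≤ Module.finrank F U →
      ∃ x ∈ U, Q x = c ∧ NdOn Q (U ⊓ LinearMap.ker (pfl hQ x)) ∧
        Module.finrank F ↥(U ⊓ LinearMap.ker (pfl hQ x)) + 1 = Module.finrank F U ∧
        ∀ u ∈ U, u - ((2 * c)⁻¹ * pol Q u x) • x ∈ U ⊓ LinearMap.ker (pfl hQ x) := by
    intro U hU hdU
    obtain ⟨x, hx, hQx⟩ := exists_qvalue hQ hU hdU c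
    have hproj : ∀ u ∈ U, u - ((2 * c)⁻¹ * pol Q u x) • x ∈ U ⊓ LinearMap.ker (pfl hQ x) := fun u hu =>
      ⟨U.sub_mem hu (U.smul_mem _ hx), show pol Q _ x = 0 by
        rw [psub_left hQ, psmul_left hQ, pself hQ, hQx]; field_simp; ring⟩
    refine ⟨x, hx, hQx, ?_, ?_, hproj⟩
    · intro z hz hz0
      obtain ⟨u, hu, huz⟩ := (hU z hz.1 hz0).1
      have h : pol Q (u - ((2 * c)⁻¹ * pol Q u x) • x) z = pol Q u z := by
        rw [psub_left hQ, psmul_left hQ, pcomm x z, show pol Q z x = 0 from hz.2]; ring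
      exact ⟨⟨_, hproj u hu, by rwa [h]⟩, ⟨_, hproj u hu, by rwa [pcomm, h]⟩⟩
    · have h1 := finrank_inf_pfl hQ U x
      have h3 : U ⊓ LinearMap.ker (pfl hQ x) < U := lt_of_le_of_ne inf_le_left fun h => by
        have h' : pol Q x x = 0 := (h.symm ▸ hx : x ∈ U ⊓ LinearMap.ker (pfl hQ x)).2
        rw [pself hQ, hQx] at h'
        exact mul_ne_zero h2 hc h'
      have := Submodule.finrank_lt_finrank_of_lt h3
      omega
  obtain ⟨x, hx, hQx, hU, hdU, hprojx⟩ := step W hW (by omega)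
  obtain ⟨y, hy, hQy, hR, hdR, hprojy⟩ := step _ hU (by omega)
  have hyx : pol Q y x = 0 := hy.2
  refine ⟨Submodule.span F {x, y}, W ⊓ LinearMap.ker (pfl hQ x) ⊓ LinearMap.ker (pfl hQ y),
    ⟨x, y, hQx, hQy, by rw [pcomm, hyx], rfl⟩, hR, le_antisymm (sup_le ?_ (inf_le_left.trans inf_le_left)) ?_, ?_,
    by omega⟩
  · exact Submodule.span_le.2 (by rintro z (rfl | rfl); exacts [hx, hy.1])
  · intro w hw
    have h1 := hprojy _ (hprojx w hw)
    generalize (2 * c)⁻¹ * pol Q w x = α at h1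
    generalize (2 * c)⁻¹ * pol Q (w - α • x) y = β at h1
    exact Submodule.mem_sup.2 ⟨α • x + β • y, Submodule.mem_span_pair.2 ⟨α, β, rfl⟩, _, h1, by abel⟩
  · intro p hp r hr
    obtain ⟨α, β, rfl⟩ := Submodule.mem_span_pair.1 hp
    have e1 : pol Q r x = 0 := hr.1.2
    have e2 : pol Q r y = 0 := hr.2
    rw [padd_left hQ, psmul_left hQ, psmul_left hQ, pcomm x r, pcomm y r, e1, e2]
    ring

/-- a plane negated inside `Ω` has square discriminant -/
theorem exists_plane (hn : 5 ≤ Fintype.card ι) (h2 : (2 : F) ≠ 0) {W : Submodule F (ι → F)} (hW : NdOn Q W)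
    (hd : Module.finrank F W = 2) {g : ↥(Cfsg.isometryGroup F Q)} (hg : clsHom hQ hex g = 1)
    (hfix : FixPerp hQ W g) (hneg : ∀ x ∈ W, act g x = -x) {c : F} (hc : c ≠ 0) : IsPlane Q W c := by
  obtain ⟨z, hz, hQz⟩ := exists_nonsingular hQ hW (fun h => by rw [h, finrank_bot] at hd; omega)
  have hz0 : z ≠ 0 := fun h => hQz (by rw [h, qzero hQ])
  have hlt : W ⊓ LinearMap.ker (pfl hQ z) < W := lt_of_le_of_ne inf_le_left fun h => by
    have h' : pol Q z z = 0 := (h.symm ▸ hz : z ∈ W ⊓ LinearMap.ker (pfl hQ z)).2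
    rw [pself hQ] at h'
    exact mul_ne_zero h2 hQz h'
  have h1 := finrank_inf_pfl hQ W z
  obtain ⟨y, hy, hy0⟩ : ∃ y ∈ W ⊓ LinearMap.ker (pfl hQ z), y ≠ 0 :=
    Submodule.exists_mem_ne_zero_of_ne_bot fun h => by rw [h, finrank_bot] at h1; omega
  have hyz : pol Q y z = 0 := hy.2
  have hproj : ∀ w ∈ W, w - ((2 * Q z)⁻¹ * pol Q w z) • z ∈ W ⊓ LinearMap.ker (pfl hQ z) := fun w hw =>
    ⟨W.sub_mem hw (W.smul_mem _ hz), show pol Q _ z = 0 by
      rw [psub_left hQ, psmul_left hQ, pself hQ]; field_simp; ring⟩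
  have hline : W ⊓ LinearMap.ker (pfl hQ z) = Submodule.span F {y} := by
    refine (Submodule.eq_of_le_of_finrank_le (Submodule.span_le.2 (Set.singleton_subset_iff.2 hy)) ?_).symm
    have := Submodule.finrank_lt_finrank_of_lt hlt
    rw [finrank_span_singleton hy0]
    omega
  have hWeq : W = Submodule.span F {z, y} := by
    refine le_antisymm (fun w hw => ?_) (Submodule.span_le.2 (by rintro u (rfl | rfl); exacts [hz, hy.1]))
    have h := hproj w hw
    rw [hline] at h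
    obtain ⟨β, hβ⟩ := Submodule.mem_span_singleton.1 h
    exact Submodule.mem_span_pair.2 ⟨(2 * Q z)⁻¹ * pol Q w z, β, by rw [hβ]; abel⟩
  have hQy : Q y ≠ 0 := by
    intro h0
    obtain ⟨u, hu, huy⟩ := (hW y hy.1 hy0).2
    rw [hWeq] at hu
    obtain ⟨α, β, rfl⟩ := Submodule.mem_span_pair.1 hu
    exact huy (by rw [padd_right hQ, psmul_right hQ, psmul_right hQ, hyz, pself hQ, h0]; ring)
  obtain ⟨r, hr, hrv⟩ := exists_refl hQ hQz
  obtain ⟨s, hs, hsv⟩ := exists_refl hQ hQy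
  have heq : g = ⟨r, hr⟩ * ⟨s, hs⟩ := by
    refine Subtype.ext (gl_ext_vec fun x => ?_)
    show act g x = ((r * s : GL ι F) : Matrix ι ι F) *ᵥ x
    rw [gl_mul_mulVec]
    obtain ⟨α, hα⟩ : ∃ α, α = (2 * Q z)⁻¹ * pol Q x z := ⟨_, rfl⟩
    obtain ⟨β, hβ⟩ : ∃ β, β = (2 * Q y)⁻¹ * pol Q x y := ⟨_, rfl⟩
    have hw : α • z + β • y ∈ W := W.add_mem (W.smul_mem _ hz) (W.smul_mem _ hy.1)
    have hp : x - (α • z + β • y) ∈ qperp hQ W := by
      rw [hWeq]
      refine (mem_qperp_span hQ).2 ?_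
      rintro u (rfl | rfl)
      · rw [psub_left hQ, padd_left hQ, psmul_left hQ, psmul_left hQ, pself hQ, hyz, hα]; field_simp; ring
      · rw [psub_left hQ, padd_left hQ, psmul_left hQ, psmul_left hQ, pself hQ, pcomm z u, hyz, hβ]; field_simp; ring
    have e1 : act g x = x - (2 * α) • z - (2 * β) • y := by
      conv_lhs => rw [show x = (x - (α • z + β • y)) + (α • z + β • y) by abel]
      simp only [act, Matrix.mulVec_add]
      have a1 := hfix _ hp
      have a2 := hneg _ hw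
      simp only [act, Matrix.mulVec_add] at a1 a2
      rw [a1, a2]
      module
    rw [e1, hrv, hsv, psub_left hQ, psmul_left hQ, hyz, hα, hβ]
    match_scalars <;> field_simp <;> ring
  obtain ⟨e1, e2⟩ := refl_spn hQ hr hrv hQz
  obtain ⟨e3, e4⟩ := refl_spn hQ hs hsv hQy
  have hsq : IsSquare (Q z * Q y) := by
    have h := congrArg Prod.fst hg
    rw [heq, map_mul] at h
    change spn Q r * spn Q s = 1 at h
    rw [e2, e4, ← sqc_mul hQz hQy, sqc_eq_one_iff (mul_ne_zero hQz hQy)] at h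
    exact h
  obtain ⟨t, ht⟩ := hsq
  have ht0 : t ≠ 0 := fun h => mul_ne_zero hQz hQy (by rw [ht, h, mul_zero])
  refine IsPlane.change hQ h2 hQz ⟨z, (Q z / t) • y, rfl, ?_, by rw [psmul_right hQ, pcomm, hyz, mul_zero], ?_⟩ hc
  · rw [qsmul hQ]
    field_simp
    linear_combination ht
  · rw [hWeq]
    refine le_antisymm (Submodule.span_le.2 ?_) (Submodule.span_le.2 ?_)
    · rintro u (rfl | rfl)
      · exact Submodule.subset_span (Or.inl rfl)
      · refine Submodule.mem_span_pair.2 ⟨0, t / Q z, ?_⟩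
        match_scalars <;> field_simp
    · rintro u (rfl | rfl)
      · exact Submodule.subset_span (Or.inl rfl)
      · exact Submodule.mem_span_pair.2 ⟨0, Q z / t, by simp⟩

theorem neg_remainder (h2 : (2 : F) ≠ 0) {P R : Submodule F (ι → F)} (horth : ∀ p ∈ P, ∀ r ∈ R, pol Q p r = 0)
    {g : ↥(Cfsg.isometryGroup F Q)} (hg : clsHom hQ hex g = 1) (hfix : FixPerp hQ (P ⊔ R) g)
    (hneg : ∀ x ∈ P ⊔ R, act g x = -x) {κ μ : SqClass F × Multiplicative (ZMod 2)} (h : NC hQ hex P κ μ) :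
    ∃ g' : ↥(Cfsg.isometryGroup F Q), clsHom hQ hex g' = 1 ∧ FixPerp hQ R g' ∧ ∀ x ∈ R, act g' x = -x := by
  obtain ⟨a, b, ha, hb, -, -, hab⟩ := h
  have fc : FixPerp hQ P (a * b * a⁻¹ * b⁻¹ : ↥(Cfsg.isometryGroup F Q)) :=
    ((ha.mul hQ hb).mul hQ (ha.inv hQ)).mul hQ (hb.inv hQ)
  refine ⟨(a * b * a⁻¹ * b⁻¹)⁻¹ * g, ?_, fun y hy => ?_, fun x hx => ?_⟩
  · rw [map_mul, map_inv, map_mul, map_mul, map_mul, map_inv, map_inv, hg, mul_one]
    rw [mul_comm (clsHom hQ hex a) (clsHom hQ hex b)]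
    group
  · -- split y along P
    have e : ∀ u, act (a * b * a⁻¹ * b⁻¹)⁻¹ (act (a * b * a⁻¹ * b⁻¹) u) = u := fun u => by
      rw [← act_mul, inv_mul_cancel, act_one]
    suffices h : act g y = act (a * b * a⁻¹ * b⁻¹) y by
      show act ((a * b * a⁻¹ * b⁻¹)⁻¹ * g) y = y
      rw [act_mul, h, e]
    obtain ⟨p, hp, hp'⟩ : ∃ p ∈ P, y - p ∈ qperp hQ P := by
      by_contra hcon
      push Not at hcon
      have htop : P ⊔ qperp hQ P = ⊤ := by
        refine Submodule.eq_top_of_finrank_eq ?_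
        rw [Module.finrank_fintype_fun_eq_card]
        have hdis : P ⊓ qperp hQ P = ⊥ := eq_bot_iff.2 fun z hz => (Submodule.mem_bot F).2 (by
          have h1 : act (a * b * a⁻¹ * b⁻¹) z = -z := hab z hz.1
          have h3 : act (a * b * a⁻¹ * b⁻¹) z = z := fc z hz.2
          rw [h3, eq_neg_iff_add_eq_zero, ← two_smul F] at h1
          rcases smul_eq_zero.1 h1 with h0 | h0
          · exact absurd h0 h2
          · exact h0)
        have h4 := Submodule.finrank_sup_add_finrank_inf_eq P (qperp hQ P)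
        rw [hdis, finrank_bot] at h4
        have h5 := finrank_qperp hQ P
        have h6 := Submodule.finrank_le (P ⊔ qperp hQ P)
        rw [Module.finrank_fintype_fun_eq_card] at h6
        omega
      obtain ⟨p, hp, q, hq, hpq⟩ := Submodule.mem_sup.1 (htop ▸ Submodule.mem_top : y ∈ P ⊔ qperp hQ P)
      exact hcon p hp (by rw [← hpq, add_sub_cancel_left]; exact hq)
    have hyR : y - p ∈ qperp hQ (P ⊔ R) := fun w hw => by
      obtain ⟨w₁, hw₁, w₂, hw₂, rfl⟩ := Submodule.mem_sup.1 hw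
      rw [padd_right hQ, hp' w₁ hw₁, psub_left hQ, hy w₂ hw₂, horth p hp w₂ hw₂]
      ring
    have d1 : act g (y - p) = y - p := hfix _ hyR
    have d2 : act (a * b * a⁻¹ * b⁻¹) (y - p) = y - p := fc _ hp'
    have d3 : act g p = -p := hneg p (Submodule.mem_sup_left hp)
    have d4 : act (a * b * a⁻¹ * b⁻¹) p = -p := hab p hp
    simp only [act, Matrix.mulVec_sub] at d1 d2 d3 d4 ⊢
    rw [show y = (y - p) + p by abel, Matrix.mulVec_add, Matrix.mulVec_add, Matrix.mulVec_sub, Matrix.mulVec_sub, d1,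
      d2, d3, d4]
  · have h1 : act g x = -x := hneg x (Submodule.mem_sup_right hx)
    have h2 : act (a * b * a⁻¹ * b⁻¹) (-x) = -x := fc _ fun p hp => by
      rw [pneg_left hQ, pcomm, horth p hp x hx, neg_zero]
    rw [act_mul, h1]
    conv_lhs => rw [← h2, ← act_mul, inv_mul_cancel, act_one]

end CfsgLib.Char.OreOrth
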