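import Cfsg.Agent.Lib.Char.OreOrth.Step
import Cfsg.Agent.Lib.Char.OreOrth.GLChoice
import Cfsg.Agent.Lib.Char.OreOrth.Levi

/-!
# Every element of `Ω` in odd dimension is a commutator
-/

set_option autoImplicit false
set_option linter.all false

namespace CfsgLib.Char.OreOrth

open scoped Matrix
open Matrix Cfsg.Geo CfsgLib.Perm.Asch CfsgLib.Perm.Trans CfsgLib.Perm.Trans.Quad CfsgLib.Orth

variable {ι : Type} [Fintype ι] [DecidableEq ι] {F : Type*} [Field F] [Fintype F]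
variable {Q : (ι → F) → F}

theorem to_omega (h : ∀ g ∈ omegaGL Q, ∃ v ∈ omegaGL Q, ∃ w ∈ omegaGL Q, g = v * w * v⁻¹ * w⁻¹) :
    ∀ g : Cfsg.Omega F Q, ∃ a b : Cfsg.Omega F Q, g = a * b * a⁻¹ * b⁻¹ := by
  intro g
  obtain ⟨v, hv, w, hw, hg⟩ := h _ (Subgroup.mem_map.2 ⟨g.1, g.2, rfl⟩)
  obtain ⟨v', hv', rfl⟩ := Subgroup.mem_map.1 hv
  obtain ⟨w', hw', rfl⟩ := Subgroup.mem_map.1 hw
  refine ⟨⟨v', hv'⟩, ⟨w', hw'⟩, Subtype.ext (Subtype.ext ?_)⟩
  simpa using hg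

variable (hQ : IsNondegenerateQuadraticForm Q)
include hQ

omit [Fintype F] in
theorem noInt_one {k : ℕ} (Fr : Frame Q k) {A : Matrix (Fin k) (Fin k) F} (h : (A - 1).det ≠ 0) :
    NoInt hQ Fr A 1 := by
  intro φ hφ y hc hd
  have h1 := hφ y hc hd
  rw [Units.val_one, Matrix.one_mulVec] at h1
  by_contra hne
  refine h (Matrix.exists_mulVec_eq_zero_iff.1 ⟨φ y, hne, ?_⟩)
  rw [Matrix.sub_mulVec, Matrix.one_mulVec, ← h1, sub_self]

omit [Fintype F] in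
theorem ns_top : NS Q (⊤ : Submodule F (ι → F)) := fun y _ hy _ => by
  by_contra hne
  obtain ⟨x, hx⟩ := (hQ.nondegenerate y hne).2
  exact hx (hy x Submodule.mem_top)

/-- odd dimension -/
theorem commutator_odd (h2 : (2 : F) ≠ 0) {n : ℕ} (hn : 3 ≤ n) (hdim : Fintype.card ι = 2 * n + 1) {g : GL ι F}
    (hg : g ∈ omegaGL Q) : ∃ v ∈ omegaGL Q, ∃ w ∈ omegaGL Q, g = v * w * v⁻¹ * w⁻¹ := by
  obtain ⟨Fr, -, -, L, U, hL, hU, -, -, uL, uU, rfl⟩ := hasDec_odd hQ (by omega) n ⊤ (ns_top hQ)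
    (by rw [finrank_top, Module.finrank_fintype_fun_eq_card, hdim]) g hg fun y hy => by
      have : y = 0 := by
        by_contra hne
        obtain ⟨x, hx⟩ := (hQ.nondegenerate y hne).2
        exact hx (hy x Submodule.mem_top)
      rw [this, Matrix.mulVec_zero]
  obtain ⟨r, rfl⟩ : ∃ r, n = r + 1 := ⟨n - 1, by omega⟩
  obtain ⟨A, p, hcyc, hsr, hsq, hS, hS', h1, h1'⟩ := exists_levi_odd (F := F) h2 (r := r) (by omega)
  exact commutator_of_up hQ Fr hn hL hU uL uU hcyc hsr (one_mem _) (fun i => by rw [Units.val_one, one_mulVec])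
    (fun i => by rw [Units.val_one, one_mulVec]) (by rw [mul_one]; exact lev_mem_omega hQ Fr hn A hsq) hS hS'
    (noInt_one hQ Fr h1) (noInt_one hQ Fr.swap h1')

end CfsgLib.Char.OreOrth
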