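import Cfsg.Agent.Lib.Char.OreOrth.Frame
import Cfsg.Agent.Lib.Perm.Trans.QuadStd

/-!
# Witt index: the orthogonal of a frame in the two standard even-dimensional spaces
-/

set_option autoImplicit false
set_option linter.all false

namespace CfsgLib.Char.OreOrth

open scoped Matrix
open Matrix Cfsg.Geo CfsgLib.Perm.Asch CfsgLib.Perm.Trans CfsgLib.Perm.Trans.Quad CfsgLib.Orth

section General

variable {ι : Type} [Fintype ι] [DecidableEq ι] {F : Type*} [Field F] {Q : (ι → F) → F} {k : ℕ}

local notation "pol" => QuadraticMap.polar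

variable (hQ : IsNondegenerateQuadraticForm Q) (Fr : Frame Q k)
include hQ

theorem emb_injective : Function.Injective Fr.emb :=
  Function.LeftInverse.injective (g := cvec hQ Fr) (cvec_emb hQ Fr)

/-- a large totally singular subspace gives a singular vector orthogonal to the frame -/
theorem exists_singular_residual {T : Submodule F (ι → F)} (hT : ∀ t ∈ T, Q t = 0) (hd : k < Module.finrank F T) :
    ∃ y, y ≠ 0 ∧ cvec hQ Fr y = 0 ∧ dvec hQ Fr y = 0 ∧ Q y = 0 := by
  by_contra hcon
  push Not at hcon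
  have key : ∀ t ∈ T, dvec hQ Fr t = 0 → t = Fr.emb (cvec hQ Fr t) := by
    intro t ht hdt
    have hpr : pr hQ Fr t = 0 := by
      by_contra hne
      refine hcon _ hne (cvec_pr hQ Fr t) (dvec_pr hQ Fr t) ?_
      have h := hT t ht
      rw [← pr_add hQ Fr t, q_decomp hQ Fr _ _ (cvec_pr hQ Fr t) (dvec_pr hQ Fr t), hdt, dotProduct_zero, zero_add] at h
      exact h
    conv_lhs => rw [← pr_add hQ Fr t, hpr, hdt, map_zero, add_zero, add_zero]
  obtain ⟨R, hR⟩ : ∃ R, R = LinearMap.range ((dvec hQ Fr).domRestrict T) := ⟨_, rfl⟩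
  obtain ⟨J, hJ⟩ : ∃ J, J = (LinearMap.ker ((dvec hQ Fr).domRestrict T)).map ((cvec hQ Fr).domRestrict T) := ⟨_, rfl⟩
  have hdim := LinearMap.finrank_range_add_finrank_ker ((dvec hQ Fr).domRestrict T)
  rw [← hR] at hdim
  have hJdim : Module.finrank F J = Module.finrank F (LinearMap.ker ((dvec hQ Fr).domRestrict T)) := by
    rw [hJ]
    refine (LinearEquiv.finrank_eq (LinearEquiv.ofBijective
      (LinearMap.submoduleMap ((cvec hQ Fr).domRestrict T) (LinearMap.ker ((dvec hQ Fr).domRestrict T)))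
      ⟨?_, LinearMap.submoduleMap_surjective _ _⟩)).symm
    intro s t hst
    have h1 : cvec hQ Fr (s : T) = cvec hQ Fr (t : T) := congrArg Subtype.val hst
    refine Subtype.ext (Subtype.ext ?_)
    rw [key _ (s : T).2 (LinearMap.mem_ker.1 s.2), h1, ← key _ (t : T).2 (LinearMap.mem_ker.1 t.2)]
  let Φ : (Fin k → F) →ₗ[F] (↥J →ₗ[F] F) :=
    { toFun := fun v =>
        { toFun := fun c => (c : Fin k → F) ⬝ᵥ v
          map_add' := fun a b => add_dotProduct _ _ _
          map_smul' := fun c a => smul_dotProduct c _ _ }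
      map_add' := fun a b => LinearMap.ext fun x => dotProduct_add (x : Fin k → F) a b
      map_smul' := fun c a => LinearMap.ext fun x => dotProduct_smul c (x : Fin k → F) a }
  have hsurj : Function.Surjective Φ := fun φ => by
    obtain ⟨ψ, hψ⟩ := LinearMap.exists_extend φ
    refine ⟨fun i => ψ (Pi.single i 1), LinearMap.ext fun c => ?_⟩
    show (c : Fin k → F) ⬝ᵥ (fun i => ψ (Pi.single i 1)) = φ c
    rw [← hψ, LinearMap.comp_apply, Submodule.subtype_apply]
    conv_rhs => rw [pi_eq_sum_univ' (c : Fin k → F), map_sum]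
    simp [dotProduct, mul_comm]
  have hle : R ≤ LinearMap.ker Φ := by
    rw [hR]
    rintro _ ⟨t, rfl⟩
    refine LinearMap.mem_ker.2 (LinearMap.ext fun c => ?_)
    obtain ⟨c, hc⟩ := c
    rw [hJ] at hc
    obtain ⟨s, hs, rfl⟩ := hc
    show cvec hQ Fr s.1 ⬝ᵥ dvec hQ Fr t.1 = 0
    rw [← pol_emb_left hQ Fr, ← key _ s.2 (LinearMap.mem_ker.1 hs), QuadraticMap.polar, hT _ (T.add_mem s.2 t.2),
      hT _ s.2, hT _ t.2]
    ring
  have h1 := LinearMap.finrank_range_add_finrank_ker Φ
  rw [LinearMap.range_eq_top.2 hsurj, finrank_top, Module.finrank_fintype_fun_eq_card, Fintype.card_fin,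
    Subspace.dual_finrank_eq] at h1
  have h2 := Submodule.finrank_mono hle
  omega

/-- a singular vector orthogonal to the frame gives a large totally singular subspace -/
theorem exists_ts_of_residual {z : ι → F} (hz : z ≠ 0) (hc : cvec hQ Fr z = 0) (hd : dvec hQ Fr z = 0) (hQz : Q z = 0) :
    ∃ T : Submodule F (ι → F), (∀ t ∈ T, Q t = 0) ∧ k < Module.finrank F T := by
  refine ⟨LinearMap.range Fr.emb ⊔ Submodule.span F {z}, fun t ht => ?_, ?_⟩
  · obtain ⟨u, ⟨c, rfl⟩, w, hw, rfl⟩ := Submodule.mem_sup.1 ht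
    obtain ⟨s, rfl⟩ := Submodule.mem_span_singleton.1 hw
    rw [qadd hQ, q_emb hQ Fr, qsmul hQ, hQz, psmul_right hQ, pol_emb_left hQ Fr, hd, dotProduct_zero]
    ring
  · have hlt : LinearMap.range Fr.emb < LinearMap.range Fr.emb ⊔ Submodule.span F {z} := by
      refine lt_of_le_of_ne le_sup_left fun h => hz ?_
      have hzm : z ∈ LinearMap.range Fr.emb := h.symm ▸ Submodule.mem_sup_right (Submodule.mem_span_singleton_self z)
      obtain ⟨c, rfl⟩ := hzm
      rw [cvec_emb] at hc
      rw [hc, map_zero]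
    have := Submodule.finrank_lt_finrank_of_lt hlt
    rwa [LinearMap.finrank_range_of_inj (emb_injective hQ Fr), Module.finrank_fintype_fun_eq_card, Fintype.card_fin] at this

end General

variable {F : Type*} [Field F] {n : ℕ}

/-- plus type: the orthogonal of a frame of rank less than the maximum is isotropic -/
theorem plus_residual {k : ℕ} (Fr : Frame (Cfsg.quadFormPlus n F) k) (hk : k < n) :
    ∃ y, y ≠ 0 ∧ cvec quadFormPlus_nd Fr y = 0 ∧ dvec quadFormPlus_nd Fr y = 0 ∧ Cfsg.quadFormPlus n F y = 0 := by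
  let L : (Fin n → F) →ₗ[F] (Fin n ⊕ Fin n → F) :=
    { toFun := fun c => Sum.elim c 0
      map_add' := fun a b => by funext x; rcases x with x | x <;> simp
      map_smul' := fun s a => by funext x; rcases x with x | x <;> simp }
  refine exists_singular_residual quadFormPlus_nd Fr (T := LinearMap.range L) ?_ ?_
  · rintro _ ⟨c, rfl⟩
    show ∑ i : Fin n, Sum.elim c (0 : Fin n → F) (.inl i) * Sum.elim c (0 : Fin n → F) (.inr i) = 0
    simp
  · rw [LinearMap.finrank_range_of_inj (f := L) fun a b h => funext fun i => congrFun h (.inl i),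
      Module.finrank_fintype_fun_eq_card, Fintype.card_fin]
    exact hk

variable [Fintype F]

/-- minus type: the orthogonal of a frame of maximal rank is anisotropic -/
theorem minus_residual {m : ℕ} (a b : F)
    (hab : ∀ z₁ z₂ : F, z₁ ^ 2 + a * z₁ * z₂ + b * z₂ ^ 2 = 0 → z₁ = 0 ∧ z₂ = 0)
    (Fr : Frame (Cfsg.quadFormMinus m F a b) m) {y : (Fin m ⊕ Fin m) ⊕ Fin 2 → F}
    (hc : cvec (quadFormMinus_nd a b hab) Fr y = 0) (hd : dvec (quadFormMinus_nd a b hab) Fr y = 0)
    (hy : Cfsg.quadFormMinus m F a b y = 0) : y = 0 := by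
  by_contra hne
  have hp : ∀ u v : (Fin m ⊕ Fin m) ⊕ Fin 2 → F, QuadraticMap.polar (Cfsg.quadFormMinus m F a b) u v =
      (∑ i, (u (.inl (.inl i)) * v (.inl (.inr i)) + v (.inl (.inl i)) * u (.inl (.inr i)))) +
        (2 * (u (.inr 0) * v (.inr 0)) + a * (u (.inr 0) * v (.inr 1) + v (.inr 0) * u (.inr 1)) +
          2 * b * (u (.inr 1) * v (.inr 1))) := fun u v => by
    simp only [QuadraticMap.polar, Cfsg.quadFormMinus, Pi.add_apply, add_mul, mul_add, Finset.sum_add_distrib]
    ring
  let St : Frame (Cfsg.quadFormMinus m F a b) m :=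
    { e := fun i => Pi.single (.inl (.inl i)) 1
      f := fun i => Pi.single (.inl (.inr i)) 1
      qe := fun i => by simp [Cfsg.quadFormMinus, Pi.single_apply]
      qf := fun i => by simp [Cfsg.quadFormMinus, Pi.single_apply]
      ee := fun i j => by rw [hp]; simp [Pi.single_apply]
      ff := fun i j => by rw [hp]; simp [Pi.single_apply]
      ef := fun i j => by rw [hp]; simp [Pi.single_apply]; try simp [eq_comm] }
  obtain ⟨T, hT, hTd⟩ := exists_ts_of_residual (quadFormMinus_nd a b hab) Fr hne hc hd hy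
  obtain ⟨z, hz0, hzc, hzd, hQz⟩ := exists_singular_residual (quadFormMinus_nd a b hab) St hT hTd
  have h1 : ∀ i, z (.inl (.inl i)) = 0 := fun i => by
    have h := congrFun hzc i
    rw [cvec_apply, hp] at h
    simpa [St, Pi.single_apply] using h
  have h2 : ∀ i, z (.inl (.inr i)) = 0 := fun i => by
    have h := congrFun hzd i
    rw [dvec_apply, hp] at h
    simpa [St, Pi.single_apply] using h
  refine hz0 (funext fun x => ?_)
  have h3 : z (.inr 0) = 0 ∧ z (.inr 1) = 0 := hab _ _ (by
    simpa [Cfsg.quadFormMinus, h1] using hQz)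
  rcases x with (i | i) | i
  · exact h1 i
  · exact h2 i
  · fin_cases i
    exacts [h3.1, h3.2]

end CfsgLib.Char.OreOrth
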