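import Mathlib

/-!
# Products of two classes of elements of order seven in `GL(3,2)`
-/

set_option autoImplicit false

namespace CfsgLib.Char.OreOrth.Small

open scoped Matrix

/-- the matrix with the given bits -/
def dec (c : ℕ) : Matrix (Fin 3) (Fin 3) (ZMod 2) :=
  Matrix.of fun i j => ((c / 2 ^ (8 - (3 * (i : ℕ) + (j : ℕ)))) % 2 : ℕ)

/-- element of order seven -/
def a7 : Matrix (Fin 3) (Fin 3) (ZMod 2) := !![0, 0, 1; 1, 0, 1; 0, 1, 0]

/-- its inverse -/
def a7i : Matrix (Fin 3) (Fin 3) (ZMod 2) := !![1, 1, 0; 0, 0, 1; 1, 0, 0]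

/-- matrix code, first class, conjugators with inverses -/
def tbl : List (ℕ × Bool × ℕ × ℕ × ℕ × ℕ) := [
  (84, true, 501, 494, 458, 458),
  (85, false, 494, 501, 489, 241),
  (86, false, 474, 395, 481, 185),
  (87, false, 473, 409, 458, 458),
  (92, false, 474, 395, 458, 458),
  (93, false, 458, 458, 499, 382),
  (94, false, 481, 185, 467, 339),
  (95, false, 494, 501, 474, 395),
  (98, false, 492, 115, 485, 171),
  (99, false, 465, 465, 499, 382),
  (102, false, 478, 445, 458, 458),
  (103, false, 477, 431, 491, 375),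
  (106, false, 486, 157, 498, 206),
  (107, false, 477, 431, 458, 458),
  (110, false, 465, 465, 474, 395),
  (111, false, 489, 241, 459, 346),
  (114, false, 473, 409, 491, 375),
  (115, false, 470, 213, 482, 143),
  (116, false, 477, 431, 500, 94),
  (117, false, 478, 445, 481, 185),
  (122, false, 477, 431, 481, 185),
  (123, false, 460, 122, 461, 234),
  (124, true, 500, 94, 481, 185),
  (125, false, 474, 395, 491, 375),
  (140, false, 482, 143, 489, 241),
  (141, false, 459, 346, 477, 431),
  (142, false, 500, 94, 470, 213),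
  (143, false, 499, 382, 486, 157),
  (156, false, 458, 458, 478, 445),
  (157, false, 498, 206, 468, 87),
  (158, false, 499, 382, 477, 431),
  (159, false, 460, 122, 470, 213),
  (161, true, 494, 501, 465, 465),
  (163, false, 467, 339, 465, 465),
  (165, false, 491, 375, 486, 157),
  (167, true, 486, 157, 460, 122),
  (169, false, 467, 339, 460, 122),
  (171, false, 460, 122, 474, 395),
  (172, false, 499, 382, 465, 465),
  (174, false, 458, 458, 467, 339),
  (177, false, 501, 494, 461, 234),
  (179, false, 465, 465, 478, 445),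
  (181, false, 499, 382, 460, 122),
  (183, false, 467, 339, 477, 431),
  (185, false, 459, 346, 465, 465),
  (187, false, 501, 494, 467, 339),
  (188, false, 467, 339, 486, 157),
  (190, false, 461, 234, 473, 409),
  (204, false, 491, 375, 473, 409),
  (205, false, 499, 382, 470, 213),
  (206, false, 459, 346, 501, 494),
  (207, false, 485, 171, 465, 465),
  (212, false, 499, 382, 501, 494),
  (213, false, 491, 375, 492, 115),
  (214, true, 486, 157, 470, 213),
  (215, false, 474, 395, 459, 346),
  (225, false, 459, 346, 492, 115),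
  (226, false, 477, 431, 459, 346),
  (229, false, 467, 339, 501, 494),
  (230, false, 492, 115, 486, 157),
  (233, true, 478, 445, 473, 409),
  (234, false, 473, 409, 494, 501),
  (236, false, 485, 171, 500, 94),
  (239, false, 467, 339, 470, 213),
  (241, false, 477, 431, 485, 171),
  (242, false, 467, 339, 492, 115),
  (244, false, 474, 395, 494, 501),
  (247, false, 468, 87, 486, 157),
  (249, false, 467, 339, 473, 409),
  (250, false, 492, 115, 458, 458),
  (253, false, 482, 143, 500, 94),
  (254, false, 499, 382, 492, 115),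
  (266, true, 470, 213, 467, 339),
  (267, false, 492, 115, 460, 122),
  (270, false, 491, 375, 467, 339),
  (271, false, 467, 339, 499, 382),
  (273, false, 467, 339, 467, 339),
  (275, true, 486, 157, 459, 346),
  (277, true, 494, 501, 467, 339),
  (279, true, 478, 445, 499, 382),
  (281, true, 500, 94, 473, 409),
  (282, false, 460, 122, 492, 115),
  (285, false, 499, 382, 491, 375),
  (286, false, 477, 431, 473, 409),
  (298, false, 467, 339, 491, 375),
  (299, false, 491, 375, 459, 346),
  (302, true, 494, 501, 491, 375),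
  (303, false, 473, 409, 477, 431),
  (305, true, 498, 206, 477, 431),
  (307, false, 459, 346, 499, 382),
  (309, true, 478, 445, 459, 346),
  (311, false, 499, 382, 459, 346),
  (313, true, 494, 501, 459, 346),
  (314, false, 499, 382, 467, 339),
  (317, false, 467, 339, 459, 346),
  (318, false, 459, 346, 491, 375),
  (330, false, 478, 445, 499, 382),
  (331, false, 467, 339, 474, 395),
  (334, false, 494, 501, 460, 122),
  (335, false, 481, 185, 501, 494),
  (337, true, 494, 501, 482, 143),
  (339, false, 477, 431, 486, 157),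
  (340, false, 467, 339, 482, 143),
  (342, false, 499, 382, 498, 206),
  (345, true, 486, 157, 458, 458),
  (346, false, 499, 382, 482, 143),
  (348, false, 491, 375, 474, 395),
  (351, false, 474, 395, 486, 157),
  (354, false, 470, 213, 500, 94),
  (355, false, 473, 409, 461, 234),
  (358, false, 477, 431, 499, 382),
  (359, false, 467, 339, 458, 458),
  (369, false, 467, 339, 498, 206),
  (370, false, 465, 465, 485, 171),
  (372, false, 499, 382, 458, 458),
  (375, false, 478, 445, 492, 115),
  (377, false, 499, 382, 474, 395),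
  (379, false, 486, 157, 468, 87),
  (380, false, 459, 346, 498, 206),
  (382, false, 489, 241, 477, 431),
  (394, false, 467, 339, 489, 241),
  (395, false, 478, 445, 468, 87),
  (396, false, 498, 206, 486, 157),
  (397, false, 458, 458, 492, 115),
  (401, true, 470, 213, 489, 241),
  (403, true, 494, 501, 478, 445),
  (405, false, 467, 339, 478, 445),
  (407, false, 499, 382, 500, 94),
  (409, false, 491, 375, 500, 94),
  (410, false, 477, 431, 470, 213),
  (412, false, 459, 346, 489, 241),
  (415, false, 500, 94, 482, 143),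
  (417, false, 474, 395, 468, 87),
  (419, false, 491, 375, 485, 171),
  (421, false, 459, 346, 500, 94),
  (423, false, 473, 409, 470, 213),
  (425, false, 499, 382, 489, 241),
  (426, false, 501, 494, 481, 185),
  (428, false, 467, 339, 485, 171),
  (431, false, 461, 234, 491, 375),
  (442, false, 460, 122, 494, 501),
  (443, false, 467, 339, 500, 94),
  (444, false, 477, 431, 468, 87),
  (445, false, 499, 382, 485, 171),
  (458, true, 494, 501, 468, 87),
  (459, false, 501, 494, 486, 157),
  (460, false, 499, 382, 494, 501),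
  (461, false, 467, 339, 468, 87),
  (465, true, 486, 157, 481, 185),
  (467, false, 467, 339, 461, 234),
  (468, false, 477, 431, 460, 122),
  (470, false, 465, 465, 486, 157),
  (473, false, 499, 382, 468, 87),
  (474, false, 465, 465, 473, 409),
  (477, false, 491, 375, 461, 234),
  (478, false, 485, 171, 499, 382),
  (481, false, 491, 375, 481, 185),
  (482, false, 467, 339, 494, 501),
  (485, false, 474, 395, 460, 122),
  (486, false, 468, 87, 498, 206),
  (489, false, 458, 458, 500, 94),
  (491, false, 492, 115, 478, 445),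
  (492, false, 482, 143, 470, 213),
  (494, false, 499, 382, 481, 185),
  (498, false, 499, 382, 461, 234),
  (499, false, 477, 431, 489, 241),
  (500, false, 467, 339, 481, 185),
  (501, false, 459, 346, 494, 501)]

/-- the check of one line -/
def ok (t : ℕ × Bool × ℕ × ℕ × ℕ × ℕ) : Bool :=
  decide (dec t.1 = dec t.2.2.1 * (if t.2.1 then a7 else a7i) * dec t.2.2.2.1 * (dec t.2.2.2.2.1 * a7 * dec t.2.2.2.2.2) ∧
    dec t.2.2.1 * dec t.2.2.2.1 = 1 ∧ dec t.2.2.2.2.1 * dec t.2.2.2.2.2 = 1)

theorem tbl_ok : tbl.all ok = true := by decide +kernel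

theorem tbl_covers : ∀ c : Fin 512, (dec c).det ≠ 0 → (c : ℕ) ∈ tbl.map Prod.fst := by decide +kernel

theorem dec_code : ∀ a b c d e f g h i : ZMod 2,
    dec ((((((((a.val * 2 + b.val) * 2 + c.val) * 2 + d.val) * 2 + e.val) * 2 + f.val) * 2 + g.val) * 2 + h.val) * 2 + i.val) =
      !![a, b, c; d, e, f; g, h, i] := by decide +kernel

/-- every invertible matrix is a product from the two classes -/
theorem two_classes (M : Matrix (Fin 3) (Fin 3) (ZMod 2)) (hM : M.det ≠ 0) :
    ∃ (fl : Bool) (P P' R R' : Matrix (Fin 3) (Fin 3) (ZMod 2)), P * P' = 1 ∧ R * R' = 1 ∧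
      M = P * (if fl then a7 else a7i) * P' * (R * a7 * R') := by
  have hc := dec_code (M 0 0) (M 0 1) (M 0 2) (M 1 0) (M 1 1) (M 1 2) (M 2 0) (M 2 1) (M 2 2)
  rw [← Matrix.eta_fin_three M] at hc
  generalize hn : ((((((((M 0 0).val * 2 + (M 0 1).val) * 2 + (M 0 2).val) * 2 + (M 1 0).val) * 2 + (M 1 1).val) * 2 +
    (M 1 2).val) * 2 + (M 2 0).val) * 2 + (M 2 1).val) * 2 + (M 2 2).val = n at hc
  have hlt : n < 512 := by
    have h := fun x : ZMod 2 => (ZMod.val_lt x : x.val < 2)
    have := h (M 0 0); have := h (M 0 1); have := h (M 0 2); have := h (M 1 0); have := h (M 1 1)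
    have := h (M 1 2); have := h (M 2 0); have := h (M 2 1); have := h (M 2 2)
    omega
  have hmem := tbl_covers ⟨n, hlt⟩ (by rw [hc]; exact hM)
  obtain ⟨t, ht, htn⟩ := List.mem_map.1 hmem
  have hk := List.all_eq_true.1 tbl_ok t ht
  simp only [ok, decide_eq_true_eq] at hk
  obtain ⟨h1, h2, h3⟩ := hk
  refine ⟨t.2.1, dec t.2.2.1, dec t.2.2.2.1, dec t.2.2.2.2.1, dec t.2.2.2.2.2, h2, h3, ?_⟩
  rw [← h1, ← hc]
  exact congrArg dec htn.symm

/-- no alternating form is invariant -/
theorem noAlt_data : ∀ a b c : ZMod 2, ∀ B ∈ [a7, a7ᵀ, a7iᵀ],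
    B * !![0, a, b; a, 0, c; b, c, 0] * Bᵀ = !![0, a, b; a, 0, c; b, c, 0] → a = 0 ∧ b = 0 ∧ c = 0 := by
  decide +kernel

theorem det_data : ∀ B ∈ [a7, a7ᵀ, a7iᵀ], (B - 1).det = 1 := by decide +kernel

theorem a7_facts : a7 * a7i = 1 ∧ a7i * a7 = 1 ∧ a7.det = 1 := by decide +kernel

/-- a symmetric matrix exchanging the element with its transpose -/
theorem flip_data : a7 * !![0, 1, 0; 1, 1, 0; 0, 0, 1] = !![0, 1, 0; 1, 1, 0; 0, 0, 1] * a7ᵀ ∧
    (!![0, 1, 0; 1, 1, 0; 0, 0, 1] : Matrix (Fin 3) (Fin 3) (ZMod 2)).det = 1 := by decide +kernel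

end CfsgLib.Char.OreOrth.Small
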