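import Cfsg.Agent.Lib.Char.OreOrth.Frame

/-!
# An element fixing the orthogonal of an odd-dimensional space is lower times upper flag unipotent
-/

set_option autoImplicit false
set_option linter.all false

namespace CfsgLib.Char.OreOrth

open scoped Matrix
open Matrix Cfsg.Geo CfsgLib.Perm.Asch CfsgLib.Perm.Trans CfsgLib.Perm.Trans.Quad CfsgLib.Orth

variable {ι : Type} [Fintype ι] [DecidableEq ι] {F : Type*} [Field F]
variable {Q : (ι → F) → F}

local notation "pol" => QuadraticMap.polar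

variable {k : ℕ}

section Cons

variable (hQ : IsNondegenerateQuadraticForm Q) (Fr : Frame Q k)
include hQ

omit hQ in
/-- put a new pair in front -/
def Frame.cons (e f : ι → F) (he : Q e = 0) (hf : Q f = 0) (hee : pol Q e e = 0) (hff : pol Q f f = 0)
    (hef : pol Q e f = 1) (h1 : ∀ i, pol Q e (Fr.e i) = 0) (h2 : ∀ i, pol Q f (Fr.e i) = 0)
    (h3 : ∀ i, pol Q e (Fr.f i) = 0) (h4 : ∀ i, pol Q f (Fr.f i) = 0) : Frame Q (k + 1) where
  e := Fin.cons e Fr.e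
  f := Fin.cons f Fr.f
  qe i := by refine Fin.cases ?_ (fun i => ?_) i <;> simp [he, Fr.qe]
  qf i := by refine Fin.cases ?_ (fun i => ?_) i <;> simp [hf, Fr.qf]
  ee i j := by
    refine Fin.cases ?_ (fun i => ?_) i <;> refine Fin.cases ?_ (fun j => ?_) j <;>
      simp [hee, h1, Fr.ee, pcomm (Fr.e _) e]
  ff i j := by
    refine Fin.cases ?_ (fun i => ?_) i <;> refine Fin.cases ?_ (fun j => ?_) j <;>
      simp [hff, h4, Fr.ff, pcomm (Fr.f _) f]
  ef i j := by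
    refine Fin.cases ?_ (fun i => ?_) i <;> refine Fin.cases ?_ (fun j => ?_) j <;>
      simp [hef, h3, h2, Fr.ef, pcomm (Fr.e _) f, Fin.succ_ne_zero, (Fin.succ_ne_zero _).symm]

omit hQ in
theorem isUp_cons {Fr' : Frame Q (k + 1)} (hs : ∀ i, Fr'.e i.succ = Fr.e i) {u : GL ι F} (hu : IsUp Fr u)
    (h0 : (u : Matrix ι ι F) *ᵥ Fr'.e 0 = Fr'.e 0) : IsUp Fr' u := by
  refine ⟨fun j => ?_, fun y hy => ?_⟩
  · refine Fin.cases ?_ (fun j => ?_) j
    · rw [h0, sub_self]; exact Submodule.zero_mem _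
    · rw [hs]
      refine (Submodule.span_mono ?_ : _ ≤ _) (hu.1 j)
      rintro _ ⟨l, hl, rfl⟩
      exact ⟨l.succ, Fin.succ_lt_succ_iff.2 hl, hs l⟩
  · refine (Submodule.span_mono ?_ : _ ≤ _) (hu.2 y fun i => by rw [← hs]; exact hy _)
    rintro _ ⟨l, rfl⟩
    exact ⟨l.succ, hs l⟩

theorem isUp_eichler {Fr' : Frame Q (k + 1)} {a : ι → F} (ha : pol Q (Fr'.e 0) a = 0) {T : GL ι F}
    (hT : IsE Q (Fr'.e 0) a T) : IsUp Fr' T := by
  refine ⟨fun j => ?_, fun y hy => ?_⟩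
  · rw [hT, Fr'.ee j 0, mul_zero, zero_smul, zero_smul, add_zero, sub_zero, sub_sub_cancel_left]
    refine Fin.cases ?_ (fun j => ?_) j
    · rw [ha, zero_smul, neg_zero]; exact Submodule.zero_mem _
    · exact Submodule.neg_mem _ (Submodule.smul_mem _ _ (Submodule.subset_span ⟨0, Fin.succ_pos j, rfl⟩))
  · rw [hT, hy 0, mul_zero, zero_smul, zero_smul, add_zero, sub_zero, sub_sub_cancel_left]
    exact Submodule.neg_mem _ (Submodule.smul_mem _ _ (Submodule.subset_span ⟨0, rfl⟩))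

theorem isE_fix {u a y : ι → F} {T : GL ι F} (hT : IsE Q u a T) (hu : pol Q y u = 0) (ha : pol Q y a = 0) :
    (T : Matrix ι ι F) *ᵥ y = y := by
  rw [hT, hu, ha]; simp

end Cons

/-- no non-zero singular vector in the radical -/
def NS (Q : (ι → F) → F) (W : Submodule F (ι → F)) : Prop :=
  ∀ y ∈ W, (∀ z ∈ W, QuadraticMap.polar Q y z = 0) → Q y = 0 → y = 0

/-- the element fixes the orthogonal of the space -/
def FixPerp (hQ : IsNondegenerateQuadraticForm Q) (W : Submodule F (ι → F)) (g : GL ι F) : Prop :=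
  ∀ y ∈ qperp hQ W, (g : Matrix ι ι F) *ᵥ y = y

/-- lower times upper flag unipotent, inside `W` -/
def HasDec (hQ : IsNondegenerateQuadraticForm Q) (W : Submodule F (ι → F)) (k : ℕ) (g : GL ι F) : Prop :=
  ∃ Fr : Frame Q k, (∀ i, Fr.e i ∈ W) ∧ (∀ i, Fr.f i ∈ W) ∧ ∃ L U : GL ι F, L ∈ omegaGL Q ∧ U ∈ omegaGL Q ∧
    FixPerp hQ W L ∧ FixPerp hQ W U ∧ IsUp Fr.swap L ∧ IsUp Fr U ∧ g = L * U

variable (hQ : IsNondegenerateQuadraticForm Q)
include hQ

theorem FixPerp.mul {W : Submodule F (ι → F)} {g h : GL ι F} (hg : FixPerp hQ W g) (hh : FixPerp hQ W h) :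
    FixPerp hQ W (g * h) := fun y hy => by rw [gl_mul_mulVec, hh y hy, hg y hy]

theorem FixPerp.inv {W : Submodule F (ι → F)} {g : GL ι F} (hg : FixPerp hQ W g) : FixPerp hQ W g⁻¹ :=
  fun y hy => by conv_lhs => rw [← hg y hy, gl_inv_mulVec]

theorem fixPerp_E {W : Submodule F (ι → F)} {u a : ι → F} (hu : u ∈ W) (ha : a ∈ W) {T : GL ι F}
    (hT : IsE Q u a T) : FixPerp hQ W T := fun y hy => isE_fix hQ hT (hy u hu) (hy a ha)

theorem fix_maps {W : Submodule F (ι → F)} {g : GL ι F} (hgi : g ∈ Cfsg.isometryGroup F Q)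
    (hg : FixPerp hQ W g) {x : ι → F} (hx : x ∈ W) : (g : Matrix ι ι F) *ᵥ x ∈ W := by
  by_contra h
  obtain ⟨p, hp, hpx⟩ := exists_qperp_ne hQ h
  rw [← hg p hp, iso_pol hgi, pcomm, hp x hx] at hpx
  exact zero_ne_one hpx

theorem moved_le {W : Submodule F (ι → F)} {g : GL ι F} (hgi : g ∈ Cfsg.isometryGroup F Q)
    (hg : FixPerp hQ W g) : moved g ≤ W := by
  rintro _ ⟨x, rfl⟩
  by_contra h
  obtain ⟨p, hp, hpx⟩ := exists_qperp_ne hQ h
  rw [disp_apply, psub_left hQ] at hpx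
  nth_rewrite 2 [← hg p hp] at hpx
  rw [iso_pol hgi, sub_self] at hpx
  exact zero_ne_one hpx

theorem hasDec_cons {W W' : Submodule F (ι → F)} (hW : W' ≤ W) {e f v a : ι → F} (he : e ∈ W) (hf : f ∈ W)
    (hv : v ∈ W) (ha : a ∈ W) (hQe : Q e = 0) (hQf : Q f = 0) (hef : pol Q e f = 1)
    (hW'e : ∀ y ∈ W', pol Q y e = 0) (hW'f : ∀ y ∈ W', pol Q y f = 0)
    (hvf : pol Q f v = 0) (hae : pol Q e a = 0)
    {T₁ T₂ g' : GL ι F} (h1 : T₁ ∈ omegaGL Q) (h2 : T₂ ∈ omegaGL Q) (hT₁ : IsE Q f v T₁) (hT₂ : IsE Q e a T₂)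
    (h : HasDec hQ W' k g') : HasDec hQ W (k + 1) (T₁ * g' * T₂) := by
  obtain ⟨Fr, hE, hF, L, U, hL, hU, fL, fU, uL, uU, rfl⟩ := h
  have hee : pol Q e e = 0 := by rw [pself hQ, hQe, mul_zero]
  have hff : pol Q f f = 0 := by rw [pself hQ, hQf, mul_zero]
  have hep : e ∈ qperp hQ W' := fun y hy => by rw [pcomm]; exact hW'e y hy
  have hfp : f ∈ qperp hQ W' := fun y hy => by rw [pcomm]; exact hW'f y hy
  refine ⟨Fr.cons e f hQe hQf hee hff hef (fun i => hep _ (hE i)) (fun i => hfp _ (hE i)) (fun i => hep _ (hF i))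
    (fun i => hfp _ (hF i)), Fin.cases he fun i => hW (hE i), Fin.cases hf fun i => hW (hF i), T₁ * L, U * T₂,
    mul_mem h1 hL, mul_mem hU h2, (fixPerp_E hQ hf hv hT₁).mul hQ ?_, FixPerp.mul hQ ?_ (fixPerp_E hQ he ha hT₂),
    IsUp.mul _ (isUp_eichler hQ hvf hT₁) (isUp_cons Fr.swap (fun i => Fin.cons_succ (α := fun _ => ι → F) f Fr.f i)
      uL (fL f hfp)),
    IsUp.mul _ (isUp_cons Fr (fun i => Fin.cons_succ (α := fun _ => ι → F) e Fr.e i) uU (fU e hep))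
      (isUp_eichler hQ hae hT₂), by group⟩
  · exact fun y hy => fL y fun w hw => hy w (hW hw)
  · exact fun y hy => fU y fun w hw => hy w (hW hw)

omit hQ in
theorem exists_sq_of_two [Fintype F] (h2 : (2 : F) = 0) (c : F) : ∃ t : F, t * t = c := by
  obtain ⟨t, ht⟩ := isSquare_of_two h2 c
  exact ⟨t, ht.symm⟩

theorem NS.ndOn {W : Submodule F (ι → F)} (hW : NS Q W) (h2 : (2 : F) ≠ 0) : NdOn Q W := by
  intro y hy hy0
  by_cases h : ∃ z ∈ W, pol Q y z ≠ 0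
  · obtain ⟨z, hz, hyz⟩ := h
    exact ⟨⟨z, hz, by rwa [pcomm]⟩, ⟨z, hz, hyz⟩⟩
  · push Not at h
    refine absurd (hW y hy h ?_) hy0
    have := h y hy
    rw [pself hQ] at this
    exact (mul_eq_zero.1 this).resolve_left h2

theorem NS.exists_partner {W : Submodule F (ι → F)} (hW : NS Q W) {e : ι → F} (he : e ∈ W) (he0 : e ≠ 0)
    (hQe : Q e = 0) : ∃ f ∈ W, Q f = 0 ∧ pol Q e f = 1 := by
  obtain ⟨z, hz, hez⟩ : ∃ z ∈ W, pol Q e z ≠ 0 := by
    by_contra h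
    push Not at h
    exact he0 (hW e he h hQe)
  refine ⟨(pol Q e z)⁻¹ • z - Q ((pol Q e z)⁻¹ • z) • e, W.sub_mem (W.smul_mem _ hz) (W.smul_mem _ he), ?_, ?_⟩
  · rw [qsub hQ, qsmul hQ (Q _) e, hQe, psmul_right hQ, psmul_left hQ, pcomm z e, inv_mul_cancel₀ hez]; ring
  · rw [psub_right hQ, psmul_right hQ, psmul_right hQ, pself hQ, hQe, inv_mul_cancel₀ hez]; ring

theorem NS.pair {W : Submodule F (ι → F)} (hW : NS Q W) {e f : ι → F} (he : e ∈ W) (hf : f ∈ W)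
    (hQe : Q e = 0) (hQf : Q f = 0) (hef : pol Q e f = 1) : NS Q (pairPerp hQ W e f) := by
  intro y hy hyp hQy
  obtain ⟨hyW, hye, hyf⟩ := (mem_pairPerp hQ).1 hy
  refine hW y hyW (fun z hz => ?_) hQy
  have h := hyp _ (pair_proj hQ he hf hQe hQf hef hz)
  rw [psub_right hQ, psub_right hQ, psmul_right hQ, psmul_right hQ, hye, hyf] at h
  simpa using h

theorem NS.exists_nonsingular {W : Submodule F (ι → F)} (hW : NS Q W) (hne : W ≠ ⊥) : ∃ y ∈ W, Q y ≠ 0 := by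
  by_contra h
  push Not at h
  obtain ⟨a, ha, ha0⟩ := Submodule.exists_mem_ne_zero_of_ne_bot hne
  refine ha0 (hW a ha (fun z hz => ?_) (h a ha))
  rw [QuadraticMap.polar, h _ (W.add_mem ha hz), h a ha, h z hz]
  ring

theorem pair_finrank_eq {W : Submodule F (ι → F)} {e f : ι → F} (he : e ∈ W) (hf : f ∈ W)
    (hQe : Q e = 0) (hQf : Q f = 0) (hef : pol Q e f = 1) :
    Module.finrank F (pairPerp hQ W e f) + 2 = Module.finrank F W := by
  have h1 := pair_finrank hQ he hf hQe hQf hef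
  have h2 : W ⊓ LinearMap.ker (pfl hQ e) < W := lt_of_le_of_ne inf_le_left fun h => by
    have h' : pol Q f e = 0 := (h.symm ▸ hf : f ∈ W ⊓ LinearMap.ker (pfl hQ e)).2
    rw [pcomm, hef] at h'
    exact one_ne_zero h'
  have h3 : pairPerp hQ W e f < W ⊓ LinearMap.ker (pfl hQ e) := lt_of_le_of_ne inf_le_left fun h => by
    have he' : e ∈ W ⊓ LinearMap.ker (pfl hQ e) := ⟨he, show pol Q e e = 0 by rw [pself hQ, hQe, mul_zero]⟩
    rw [← h] at he'
    have h' := ((mem_pairPerp hQ).1 he').2.2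
    rw [hef] at h'
    exact one_ne_zero h'
  have := Submodule.finrank_lt_finrank_of_lt h2
  have := Submodule.finrank_lt_finrank_of_lt h3
  omega

theorem qperp_pair {W : Submodule F (ι → F)} {e f : ι → F} (he : e ∈ W) (hf : f ∈ W)
    (hQe : Q e = 0) (hQf : Q f = 0) (hef : pol Q e f = 1) {g : GL ι F} (hg : FixPerp hQ W g)
    (hge : (g : Matrix ι ι F) *ᵥ e = e) (hgf : (g : Matrix ι ι F) *ᵥ f = f) :
    FixPerp hQ (pairPerp hQ W e f) g := by
  intro y hy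
  have hee : pol Q e e = 0 := by rw [pself hQ, hQe, mul_zero]
  have hff : pol Q f f = 0 := by rw [pself hQ, hQf, mul_zero]
  have hy' : y - pol Q y f • e - pol Q y e • f ∈ qperp hQ W := fun z hz => by
    have h := hy _ (pair_proj hQ he hf hQe hQf hef hz)
    rw [psub_right hQ, psub_right hQ, psmul_right hQ, psmul_right hQ] at h
    rw [psub_left hQ, psub_left hQ, psmul_left hQ, psmul_left hQ, pcomm e z, pcomm f z]
    linear_combination h
  have h1 := hg _ hy'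
  rw [Matrix.mulVec_sub, Matrix.mulVec_sub, Matrix.mulVec_smul, Matrix.mulVec_smul, hge, hgf] at h1
  simpa using h1

section Finite

variable [Fintype F]

theorem NS.exists_singular {W : Submodule F (ι → F)} (hW : NS Q W) (hd : 3 ≤ Module.finrank F W) :
    ∃ u ∈ W, u ≠ 0 ∧ Q u = 0 := by
  by_cases h2 : (2 : F) = 0
  swap
  · exact exists_qsingular hQ (hW.ndOn hQ h2) hd
  by_cases hnd : NdOn Q W
  · exact exists_qsingular hQ hnd hd
  obtain ⟨w, hw, hw0, hwW⟩ : ∃ w ∈ W, w ≠ 0 ∧ ∀ z ∈ W, pol Q w z = 0 := by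
    by_contra h
    push Not at h
    refine hnd fun y hy hy0 => ?_
    obtain ⟨z, hz, hyz⟩ := h y hy hy0
    exact ⟨⟨z, hz, by rwa [pcomm]⟩, ⟨z, hz, hyz⟩⟩
  have hQw : Q w ≠ 0 := fun h => hw0 (hW w hw hwW h)
  obtain ⟨y, hy, hyw⟩ : ∃ y ∈ W, y ∉ Submodule.span F {w} := by
    by_contra h
    push Not at h
    have := Submodule.finrank_mono h
    rw [finrank_span_singleton hw0] at this
    omega
  obtain ⟨t, ht⟩ := exists_sq_of_two h2 (Q y * (Q w)⁻¹)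
  refine ⟨y + t • w, W.add_mem hy (W.smul_mem _ hw), fun h => hyw ?_, ?_⟩
  · rw [eq_neg_of_add_eq_zero_left h]
    exact Submodule.neg_mem _ (Submodule.smul_mem _ _ (Submodule.mem_span_singleton_self w))
  · rw [qadd hQ, qsmul hQ, psmul_right hQ, pcomm, hwW y hy, sq, ht, mul_assoc, inv_mul_cancel₀ hQw]
    linear_combination Q y * h2

theorem hex_of_five (hn : 5 ≤ Fintype.card ι) : Fintype.card F ≠ 2 ∨ Fintype.card ι ≠ 4 := Or.inr (by omega)

theorem omega_spn (hn : 5 ≤ Fintype.card ι) {g : GL ι F} (hg : g ∈ omegaGL Q) :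
    spn Q g = 1 ∧ Even (wrk g) := by
  obtain ⟨x, hx, rfl⟩ := Subgroup.mem_map.1 hg
  exact (mem_omega_iff hQ (by omega) (hex_of_five hQ hn) x).1 hx

theorem exists_eichler (hn : 5 ≤ Fintype.card ι) {u a : ι → F} (hu : Q u = 0) (hua : pol Q u a = 0) :
    ∃ T ∈ omegaGL Q, IsE Q u a T :=
  ein_omega hQ hn hu hua

/-- a singular vector which is not an eigenvector for an eigenvalue other than one -/
theorem exists_start (hn : 5 ≤ Fintype.card ι) {W : Submodule F (ι → F)} (hW : NS Q W)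
    (hd : 3 ≤ Module.finrank F W) (hodd : Odd (Module.finrank F W)) {g : GL ι F} (hg : g ∈ omegaGL Q)
    (hfix : FixPerp hQ W g) :
    ∃ e ∈ W, e ≠ 0 ∧ Q e = 0 ∧ ((g : Matrix ι ι F) *ᵥ e = e ∨ ∀ c : F, (g : Matrix ι ι F) *ᵥ e ≠ c • e) := by
  by_contra hcon
  push Not at hcon
  have hgi := omegaGL_le_iso hg
  have heig : ∀ x ∈ W, x ≠ 0 → Q x = 0 → ∃ c : F, c ≠ 1 ∧ (g : Matrix ι ι F) *ᵥ x = c • x := by
    intro x hx hx0 hQx
    obtain ⟨h1, c, hc⟩ := hcon x hx hx0 hQx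
    exact ⟨c, fun h => h1 (by rw [hc, h, one_smul]), hc⟩
  obtain ⟨e, he, he0, hQe⟩ := hW.exists_singular hQ hd
  obtain ⟨f, hf, hQf, hef⟩ := hW.exists_partner hQ he he0 hQe
  have hf0 : f ≠ 0 := fun h => by rw [h, pzero_right hQ] at hef; exact zero_ne_one hef
  obtain ⟨a, ha1, hga⟩ := heig e he he0 hQe
  obtain ⟨b, -, hgb⟩ := heig f hf hf0 hQf
  have hab : a * b = 1 := by
    have := iso_pol hgi e f
    rw [hga, hgb, psmul_left hQ, psmul_right hQ, hef, mul_one] at this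
    exact this
  have ha0 : a ≠ 0 := fun h => by simp [h] at hab
  have hb0 : b ≠ 0 := fun h => by simp [h] at hab
  have key : ∀ y ∈ pairPerp hQ W e f, (g : Matrix ι ι F) *ᵥ y = a • y ∧ (Q y ≠ 0 → a = b) := by
    intro y hy
    obtain ⟨hyW, hye, hyf⟩ := (mem_pairPerp hQ).1 hy
    have h1 : pol Q ((g : Matrix ι ι F) *ᵥ y) e = 0 := by
      have := iso_pol hgi y e
      rw [hga, psmul_right hQ, hye] at this
      exact (mul_eq_zero.1 this).resolve_left ha0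
    have h2 : pol Q ((g : Matrix ι ι F) *ᵥ y) f = 0 := by
      have := iso_pol hgi y f
      rw [hgb, psmul_right hQ, hyf] at this
      exact (mul_eq_zero.1 this).resolve_left hb0
    obtain ⟨s, hs⟩ : ∃ s, s = y + e - Q y • f := ⟨_, rfl⟩
    have hsW : s ∈ W := hs ▸ W.sub_mem (W.add_mem hyW he) (W.smul_mem _ hf)
    have hsf : pol Q s f = 1 := by
      rw [hs, psub_left hQ, padd_left hQ, psmul_left hQ, hyf, hef, pself hQ, hQf]; ring
    have hse : pol Q s e = -Q y := by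
      rw [hs, psub_left hQ, padd_left hQ, psmul_left hQ, hye, pcomm f e, hef, pself hQ, hQe]; ring
    have hs0 : s ≠ 0 := fun h => by rw [h, pzero_left hQ] at hsf; exact zero_ne_one hsf
    have hQs : Q s = 0 := by
      rw [hs, qsub hQ, qadd hQ, qsmul hQ, hQe, hQf, padd_left hQ, psmul_right hQ, psmul_right hQ, hye, hyf, hef]
      ring
    obtain ⟨t, -, ht⟩ := heig s hsW hs0 hQs
    have hgs : (g : Matrix ι ι F) *ᵥ s = (g : Matrix ι ι F) *ᵥ y + a • e - (Q y * b) • f := by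
      rw [hs, Matrix.mulVec_sub, Matrix.mulVec_add, Matrix.mulVec_smul, hga, hgb, smul_smul]
    have h3 : pol Q (t • s) f = a := by
      rw [← ht, hgs, psub_left hQ, padd_left hQ, psmul_left hQ, psmul_left hQ, h2, hef, pself hQ, hQf]; ring
    rw [psmul_left hQ, hsf, mul_one] at h3
    have h4 : pol Q (t • s) e = -(Q y * b) := by
      rw [← ht, hgs, psub_left hQ, padd_left hQ, psmul_left hQ, psmul_left hQ, h1, pcomm f e, hef, pself hQ, hQe]
      ring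
    rw [psmul_left hQ, hse, h3] at h4
    refine ⟨?_, fun hy0 => mul_left_cancel₀ hy0 (by linear_combination -h4)⟩
    have h5 := hgs.symm.trans ht
    rw [h3, hs] at h5
    have h6 : Q y * b = Q y * a := by linear_combination h4
    rw [h6] at h5
    linear_combination (norm := module) h5
  have hP := hW.pair hQ he hf hQe hQf hef
  have hdim := pair_finrank_eq hQ he hf hQe hQf hef
  obtain ⟨y, hy, hy0⟩ := hP.exists_nonsingular hQ (fun h => by rw [h, finrank_bot] at hdim; omega)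
  have hba : a = b := (key y hy).2 hy0
  have haneg : a = -1 := by
    rcases mul_self_eq_one_iff.1 (show a * a = 1 by rw [← hab, ← hba]) with h | h
    · exact absurd h ha1
    · exact h
  have h2 : (2 : F) ≠ 0 := fun h => ha1 (by linear_combination haneg - h)
  have hall : ∀ x ∈ W, (g : Matrix ι ι F) *ᵥ x = -x := by
    intro x hx
    have h1 := (key _ (pair_proj hQ he hf hQe hQf hef hx)).1
    rw [Matrix.mulVec_sub, Matrix.mulVec_sub, Matrix.mulVec_smul, Matrix.mulVec_smul, hga, hgb, ← hba, haneg] at h1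
    linear_combination (norm := module) h1
  have hm : moved g = W := by
    refine le_antisymm (moved_le hQ hgi hfix) fun x hx => ⟨(2 : F)⁻¹ • x, ?_⟩
    rw [disp_apply, Matrix.mulVec_smul, hall x hx]
    match_scalars
    field_simp
    ring
  obtain ⟨-, hev⟩ := omega_spn hQ hn hg
  rw [wrk, hm] at hev
  exact Nat.not_even_iff_odd.2 hodd hev

/-- reflections along `h e - f` and `e - f`: parity and spinor norm force `h` to be a square -/
theorem isSquare_of_mover (hn : 5 ≤ Fintype.card ι) {W : Submodule F (ι → F)}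
    (hd : Module.finrank F W = 3) {g : GL ι F} (hg : g ∈ omegaGL Q) (hfix : FixPerp hQ W g) {e f : ι → F}
    (he : e ∈ W) (hf : f ∈ W) (hQe : Q e = 0) (hQf : Q f = 0) (hef : pol Q e f = 1) {h : F} (hh : h ≠ 0)
    (hfx : pol Q f ((g : Matrix ι ι F) *ᵥ e) = h) : IsSquare h := by
  have hgi := omegaGL_le_iso hg
  have hxW := fix_maps hQ hgi hfix he
  have hQx : Q ((g : Matrix ι ι F) *ᵥ e) = 0 := by rw [mem_iso.1 hgi, hQe]
  generalize hx : (g : Matrix ι ι F) *ᵥ e = x at hfx hxW hQx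
  have hfe : pol Q f e = 1 := by rw [pcomm, hef]
  have hee : pol Q e e = 0 := by rw [pself hQ, hQe, mul_zero]
  have hff : pol Q f f = 0 := by rw [pself hQ, hQf, mul_zero]
  obtain ⟨v, hv⟩ : ∃ v, v = x - h • e - pol Q x e • f := ⟨_, rfl⟩
  have hve : pol Q e v = 0 := by
    rw [hv, psub_right hQ, psub_right hQ, psmul_right hQ, psmul_right hQ, hee, hef, pcomm e x]; ring
  have hvf : pol Q f v = 0 := by
    rw [hv, psub_right hQ, psub_right hQ, psmul_right hQ, psmul_right hQ, hfx, hfe, hff]; ring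
  have hxe : x = h • e + pol Q x e • f + v := by rw [hv]; abel
  have hQv : Q v = -(h * pol Q x e) := by
    have h1 := hQx
    rw [hxe, qadd hQ, qadd hQ, qsmul hQ, qsmul hQ, hQe, hQf, padd_left hQ, psmul_left hQ, psmul_left hQ, psmul_left hQ,
      psmul_right hQ, hef, hve, hvf] at h1
    rw [← sub_eq_zero]
    linear_combination h1
  have hvW : v ∈ W := hv ▸ W.sub_mem (W.sub_mem hxW (W.smul_mem _ he)) (W.smul_mem _ hf)
  obtain ⟨T₁, hT₁, hT₁E⟩ := exists_eichler hQ hn (u := f) (a := h⁻¹ • v) hQf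
    (by rw [psmul_right hQ, hvf, mul_zero])
  have hT₁e : (T₁ : Matrix ι ι F) *ᵥ (h • e) = x := by
    rw [hT₁E, psmul_left hQ, psmul_left hQ, psmul_right hQ, hef, hve, qsmul hQ, hQv]
    conv_rhs => rw [hxe]
    match_scalars <;> field_simp <;> ring
  obtain ⟨r₁, hr₁, hr₁v⟩ := exists_refl hQ (v := h • e - f) (by
    rw [qsub hQ, qsmul hQ, hQe, hQf, psmul_left hQ, hef]; simpa using hh)
  obtain ⟨r₂, hr₂, hr₂v⟩ := exists_refl hQ (v := e - f) (by rw [qsub hQ, hQe, hQf, hef]; simp)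
  have hQu₁ : Q (h • e - f) = -h := by rw [qsub hQ, qsmul hQ, hQe, hQf, psmul_left hQ, hef]; ring
  have hQu₂ : Q (e - f) = -1 := by rw [qsub hQ, hQe, hQf, hef]; ring
  have hD : ((r₁ * r₂ : GL ι F) : Matrix ι ι F) *ᵥ e = h • e := by
    have h1 : (r₂ : Matrix ι ι F) *ᵥ e = f := by
      rw [hr₂v, hQu₂, psub_right hQ, hee, hef]
      match_scalars <;> simp
    rw [gl_mul_mulVec, h1, hr₁v, hQu₁, psub_right hQ, psmul_right hQ, hfe, hff]
    match_scalars <;> field_simp <;> ring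
  have hD' : FixPerp hQ W (r₁ * r₂) := by
    refine FixPerp.mul hQ (fun y hy => refl_fix hQ hr₁v ?_) (fun y hy => refl_fix hQ hr₂v ?_)
    · exact hy _ (W.sub_mem (W.smul_mem _ he) hf)
    · exact hy _ (W.sub_mem he hf)
  have hT₁i := omegaGL_le_iso hT₁
  have hT₁W : FixPerp hQ W T₁ := fixPerp_E hQ hf (W.smul_mem _ hvW) hT₁E
  obtain ⟨g₁, hg₁⟩ : ∃ g₁, g₁ = (T₁ * (r₁ * r₂))⁻¹ * g := ⟨_, rfl⟩
  have hg₁i : g₁ ∈ Cfsg.isometryGroup F Q :=
    hg₁ ▸ mul_mem (inv_mem (mul_mem hT₁i (mul_mem hr₁ hr₂))) hgi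
  have hg₁e : (g₁ : Matrix ι ι F) *ᵥ e = e := by
    have : ((T₁ * (r₁ * r₂) : GL ι F) : Matrix ι ι F) *ᵥ e = x := by rw [gl_mul_mulVec, hD, hT₁e]
    rw [hg₁, gl_mul_mulVec, hx, ← this, gl_inv_mulVec]
  have hg₁W : FixPerp hQ W g₁ := hg₁ ▸ ((hT₁W.mul hQ hD').inv hQ).mul hQ hfix
  obtain ⟨a, T₂, hT₂, hT₂E, hadef, hT₂e, hT₂f⟩ := exists_move_partner hQ hQe hQf hef
    (f' := (g₁ : Matrix ι ι F) *ᵥ f) (by rw [mem_iso.1 hg₁i, hQf])
    (by conv_lhs => rw [← hg₁e, iso_pol hg₁i, hef])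
  have hT₂o : T₂ ∈ omegaGL Q := eGroup_le_omega hQ hn hT₂
  have haW : a ∈ W := by
    rw [hadef]
    exact W.sub_mem (W.sub_mem (fix_maps hQ hg₁i hg₁W hf) hf) (W.smul_mem _ he)
  obtain ⟨g₂, hg₂⟩ : ∃ g₂, g₂ = T₂⁻¹ * g₁ := ⟨_, rfl⟩
  have hg₂i : g₂ ∈ Cfsg.isometryGroup F Q := hg₂ ▸ mul_mem (inv_mem (omegaGL_le_iso hT₂o)) hg₁i
  have hg₂P : FixPerp hQ (pairPerp hQ W e f) g₂ :=
    qperp_pair hQ he hf hQe hQf hef (hg₂ ▸ ((fixPerp_E hQ he haW hT₂E).inv hQ).mul hQ hg₁W)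
      (by rw [hg₂, gl_mul_mulVec, hg₁e]; conv_lhs => rw [← hT₂e, gl_inv_mulVec])
      (by rw [hg₂, gl_mul_mulVec, ← hT₂f, gl_inv_mulVec])
  have hdim := pair_finrank_eq hQ he hf hQe hQf hef
  have hw : wrk g₂ ≤ 1 := le_trans (Submodule.finrank_mono (moved_le hQ hg₂i hg₂P)) (by omega)
  have hex := hex_of_five hQ (ι := ι) (F := F) hn
  have hgeq : g = T₁ * (r₁ * r₂) * (T₂ * g₂) := by rw [hg₂, hg₁]; group
  obtain ⟨e1, e2⟩ := refl_spn hQ hr₁ hr₁v (by rw [hQu₁]; exact neg_ne_zero.2 hh)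
  obtain ⟨e3, e4⟩ := refl_spn hQ hr₂ hr₂v (by rw [hQu₂]; exact neg_ne_zero.2 one_ne_zero)
  obtain ⟨d1, d2⟩ := spn_mul hQ (iso_le_reflGroup hQ hex hr₁) hr₂
  obtain ⟨p1, p2⟩ := spn_mul hQ (iso_le_reflGroup hQ hex hT₁i) (mul_mem hr₁ hr₂)
  obtain ⟨q1, q2⟩ := spn_mul hQ (iso_le_reflGroup hQ hex (omegaGL_le_iso hT₂o)) hg₂i
  obtain ⟨m1, m2⟩ := spn_mul hQ (iso_le_reflGroup hQ hex (mul_mem hT₁i (mul_mem hr₁ hr₂)))
    (mul_mem (omegaGL_le_iso hT₂o) hg₂i)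
  rw [← hgeq] at m1 m2
  obtain ⟨s1, v1⟩ := omega_spn hQ hn hT₁
  obtain ⟨s2, v2⟩ := omega_spn hQ hn hT₂o
  obtain ⟨sg, vg⟩ := omega_spn hQ hn hg
  have hD2 : Even (wrk (r₁ * r₂)) := d2.2 (by rw [e1, e3])
  have hg₂1 : g₂ = 1 := by
    have h1 : Even (wrk g₂) := (q2.1 ((m2.1 vg).1 (p2.2 (iff_of_true v1 hD2)))).1 v2
    refine eq_one_of_wrk_zero hQ hg₂i ?_
    rcases Nat.le_one_iff_eq_zero_or_eq_one.1 hw with h0 | h0
    · exact h0
    · rw [h0] at h1; exact absurd h1 Nat.not_even_one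
  rw [m1, p1, q1, hg₂1, (spn_one hQ).2, s1, s2, d1, e2, e4, hQu₁, hQu₂,
    ← sqc_mul (neg_ne_zero.2 hh) (neg_ne_zero.2 one_ne_zero)] at sg
  simpa [sqc_eq_one_iff hh] using sg

/-- a singular partner pairing by one with a vector and its image -/
theorem exists_partner (hn : 5 ≤ Fintype.card ι) {W : Submodule F (ι → F)} (hW : NS Q W)
    (hd : 3 ≤ Module.finrank F W) (hodd : Odd (Module.finrank F W)) {g : GL ι F} (hg : g ∈ omegaGL Q)
    (hfix : FixPerp hQ W g) {e : ι → F} (he : e ∈ W) (he0 : e ≠ 0) (hQe : Q e = 0)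
    (hcase : (g : Matrix ι ι F) *ᵥ e = e ∨ ∀ c : F, (g : Matrix ι ι F) *ᵥ e ≠ c • e) :
    ∃ f ∈ W, Q f = 0 ∧ pol Q e f = 1 ∧ pol Q f ((g : Matrix ι ι F) *ᵥ e) = 1 := by
  have hgi := omegaGL_le_iso hg
  have hxW := fix_maps hQ hgi hfix he
  have hQx : Q ((g : Matrix ι ι F) *ᵥ e) = 0 := by rw [mem_iso.1 hgi, hQe]
  rcases hcase with h | h
  · obtain ⟨f, hf, hQf, hef⟩ := hW.exists_partner hQ he he0 hQe
    exact ⟨f, hf, hQf, hef, by rw [h, pcomm, hef]⟩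
  by_cases hs : pol Q e ((g : Matrix ι ι F) *ᵥ e) = 0
  · generalize (g : Matrix ι ι F) *ᵥ e = x at hxW hQx hs h
    obtain ⟨y₁, hy₁, -, hey₁⟩ := hW.exists_partner hQ he he0 hQe
    obtain ⟨c, hc⟩ : ∃ c, c = pol Q y₁ x := ⟨_, rfl⟩
    obtain ⟨z, hzd⟩ : ∃ z, z = x - c • e := ⟨_, rfl⟩
    have hz0 : z ≠ 0 := fun h0 => h c (sub_eq_zero.1 (hzd ▸ h0))
    have hQz : Q z = 0 := by rw [hzd, qsub hQ, hQx, qsmul hQ, hQe, psmul_right hQ, pcomm, hs]; ring
    have hy₁z : pol Q y₁ z = 0 := by rw [hzd, psub_right hQ, psmul_right hQ, pcomm y₁ e, hey₁, hc]; ring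
    obtain ⟨y₂, hy₂, -, hzy₂⟩ :=
      hW.exists_partner hQ (hzd ▸ W.sub_mem hxW (W.smul_mem _ he) : z ∈ W) hz0 hQz
    obtain ⟨f₀, hf₀⟩ : ∃ f₀, f₀ = y₁ + (1 - c) • (y₂ - pol Q y₂ e • y₁) := ⟨_, rfl⟩
    have h1 : pol Q f₀ e = 1 := by
      rw [hf₀, padd_left hQ, psmul_left hQ, psub_left hQ, psmul_left hQ, pcomm y₁ e, hey₁]; ring
    have h2 : pol Q f₀ z = 1 - c := by
      rw [hf₀, padd_left hQ, psmul_left hQ, psub_left hQ, psmul_left hQ, hy₁z, pcomm y₂ z, hzy₂]; ring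
    have h3 : pol Q f₀ x = 1 := by
      rw [show x = z + c • e by rw [hzd]; abel, padd_right hQ, psmul_right hQ, h1, h2]; ring
    have hf₀W : f₀ ∈ W := hf₀ ▸ W.add_mem hy₁ (W.smul_mem _ (W.sub_mem hy₂ (W.smul_mem _ hy₁)))
    refine ⟨f₀ - Q f₀ • e, W.sub_mem hf₀W (W.smul_mem _ he), ?_, ?_, ?_⟩
    · rw [qsub hQ, qsmul hQ, hQe, psmul_right hQ, h1]; ring
    · rw [psub_right hQ, psmul_right hQ, pcomm, h1, pself hQ, hQe]; ring
    · rw [psub_left hQ, psmul_left hQ, h3, hs]; ring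
  · obtain ⟨x, hx⟩ : ∃ x, x = (g : Matrix ι ι F) *ᵥ e := ⟨_, rfl⟩
    rw [← hx] at hs hxW hQx ⊢
    generalize hsd : pol Q e x = s at hs
    obtain ⟨u, hud⟩ : ∃ u, u = s⁻¹ • x := ⟨_, rfl⟩
    have huW : u ∈ W := hud ▸ W.smul_mem _ hxW
    have hQu : Q u = 0 := by rw [hud, qsmul hQ, hQx, mul_zero]
    have heu : pol Q e u = 1 := by rw [hud, psmul_right hQ, hsd, inv_mul_cancel₀ hs]
    have hP := hW.pair hQ he huW hQe hQu heu
    have hdim := pair_finrank_eq hQ he huW hQe hQu heu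
    have hxe : pol Q x e = s := by rw [pcomm, hsd]
    have main : ∀ k₀ ∈ pairPerp hQ W e u, ∀ h : F, h = -(s * Q k₀) →
        ∃ f ∈ W, Q f = 0 ∧ pol Q e f = 1 ∧ pol Q f x = h := by
      intro k₀ hk h hh
      obtain ⟨hkW, hke, hku⟩ := (mem_pairPerp hQ).1 hk
      have hkx : pol Q k₀ x = 0 := by
        rw [hud, psmul_right hQ] at hku
        exact (mul_eq_zero.1 hku).resolve_left (inv_ne_zero hs)
      refine ⟨(h * s⁻¹) • e + s⁻¹ • x + k₀, W.add_mem (W.add_mem (W.smul_mem _ he) (W.smul_mem _ hxW)) hkW, ?_, ?_, ?_⟩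
      · rw [qadd hQ, qadd hQ, qsmul hQ, qsmul hQ, hQe, hQx, padd_left hQ, psmul_left hQ, psmul_left hQ, psmul_left hQ,
          psmul_right hQ, hsd, pcomm e k₀, hke, pcomm x k₀, hkx, hh]
        field_simp
        ring
      · rw [padd_right hQ, padd_right hQ, psmul_right hQ, psmul_right hQ, pself hQ, hQe, hsd, pcomm e k₀, hke]
        field_simp
        ring
      · rw [padd_left hQ, padd_left hQ, psmul_left hQ, psmul_left hQ, hsd, pself hQ, hQx, hkx]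
        field_simp
        ring
    suffices hk : ∃ k₀ ∈ pairPerp hQ W e u, Q k₀ = -s⁻¹ by
      obtain ⟨k₀, hk, hQk⟩ := hk
      exact main k₀ hk 1 (by rw [hQk]; field_simp)
    obtain ⟨k₀, hk, hQk⟩ := hP.exists_nonsingular hQ (fun h0 => by rw [h0, finrank_bot] at hdim; omega)
    have hscale : IsSquare (-(s * Q k₀)) → ∃ k₀ ∈ pairPerp hQ W e u, Q k₀ = -s⁻¹ := by
      rintro ⟨t, ht⟩
      have ht0 : t ≠ 0 := fun h0 => by
        rw [h0, mul_zero, neg_eq_zero] at ht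
        exact mul_ne_zero hs hQk ht
      refine ⟨t⁻¹ • k₀, Submodule.smul_mem _ _ hk, ?_⟩
      rw [qsmul hQ, inv_pow, sq, ← ht]
      field_simp
    by_cases h2 : (2 : F) = 0
    · exact hscale (isSquare_of_two h2 _)
    rcases Nat.lt_or_ge 3 (Module.finrank F W) with h5 | h3
    · have : Module.finrank F W ≠ 4 := fun h4 => by rw [h4] at hodd; exact absurd hodd (by decide)
      exact exists_qvalue hQ (hP.ndOn hQ h2) (by omega) _
    · obtain ⟨f, hf, hQf, hef, hfx⟩ := main k₀ hk _ rfl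
      exact hscale (isSquare_of_mover hQ hn (le_antisymm h3 hd) hg hfix he hf hQe hQf hef
        (neg_ne_zero.2 (mul_ne_zero hs hQk)) (by rw [← hx]; exact hfx))

/-- one step: peel an Eichler element on each side -/
theorem peel (hn : 5 ≤ Fintype.card ι) {W : Submodule F (ι → F)} {g : GL ι F} (hg : g ∈ omegaGL Q)
    (hfix : FixPerp hQ W g) {e f : ι → F} (he : e ∈ W) (hf : f ∈ W) (hQe : Q e = 0) (hQf : Q f = 0)
    (hef : pol Q e f = 1) (hfx : pol Q f ((g : Matrix ι ι F) *ᵥ e) = 1) :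
    ∃ (v a : ι → F) (T₁ T₂ g' : GL ι F), v ∈ W ∧ a ∈ W ∧ pol Q f v = 0 ∧ pol Q e v = 0 ∧
      v = (g : Matrix ι ι F) *ᵥ e - e - pol Q e ((g : Matrix ι ι F) *ᵥ e) • f ∧ pol Q e a = 0 ∧
      T₁ ∈ omegaGL Q ∧ T₂ ∈ omegaGL Q ∧ IsE Q f v T₁ ∧ IsE Q e a T₂ ∧ g' ∈ omegaGL Q ∧ FixPerp hQ W g' ∧
      (g' : Matrix ι ι F) *ᵥ e = e ∧ (g' : Matrix ι ι F) *ᵥ f = f ∧ g = T₁ * g' * T₂ := by
  have hgi := omegaGL_le_iso hg
  obtain ⟨x, hx⟩ : ∃ x, x = (g : Matrix ι ι F) *ᵥ e := ⟨_, rfl⟩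
  have hxW : x ∈ W := hx ▸ fix_maps hQ hgi hfix he
  have hQx : Q x = 0 := by rw [hx, mem_iso.1 hgi, hQe]
  rw [← hx] at hfx
  obtain ⟨v, hv⟩ : ∃ v, v = x - e - pol Q e x • f := ⟨_, rfl⟩
  have hfe : pol Q f e = 1 := by rw [pcomm, hef]
  have hee : pol Q e e = 0 := by rw [pself hQ, hQe, mul_zero]
  have hff : pol Q f f = 0 := by rw [pself hQ, hQf, mul_zero]
  have hve : pol Q e v = 0 := by rw [hv, psub_right hQ, psub_right hQ, psmul_right hQ, hee, hef]; ring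
  have hvf : pol Q f v = 0 := by rw [hv, psub_right hQ, psub_right hQ, psmul_right hQ, hff, hfx, hfe]; ring
  have hQv : Q v = -pol Q e x := by
    rw [hv, qsub hQ, qsub hQ, qsmul hQ, hQx, hQe, hQf, psub_left hQ, psmul_right hQ, psmul_right hQ, pcomm x f, hfx,
      hef, pcomm x e]
    ring
  have hvW : v ∈ W := hv ▸ W.sub_mem (W.sub_mem hxW he) (W.smul_mem _ hf)
  obtain ⟨T₁, hT₁, hT₁E⟩ := exists_eichler hQ hn hQf hvf
  have hT₁e : (T₁ : Matrix ι ι F) *ᵥ e = x := by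
    rw [hT₁E, hef, hve, hQv, hv]
    module
  obtain ⟨g₁, hg₁⟩ : ∃ g₁, g₁ = T₁⁻¹ * g := ⟨_, rfl⟩
  have hg₁o : g₁ ∈ omegaGL Q := hg₁ ▸ mul_mem (inv_mem hT₁) hg
  have hg₁e : (g₁ : Matrix ι ι F) *ᵥ e = e := by rw [hg₁, gl_mul_mulVec, ← hx, ← hT₁e, gl_inv_mulVec]
  have hg₁W : FixPerp hQ W g₁ := hg₁ ▸ ((fixPerp_E hQ hf hvW hT₁E).inv hQ).mul hQ hfix
  have hg₁i := omegaGL_le_iso hg₁o
  obtain ⟨a, T, hT, hTE, hadef, hTe, hTf⟩ := exists_move_partner hQ hQe hQf hef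
    (f' := (g₁ : Matrix ι ι F) *ᵥ f) (by rw [mem_iso.1 hg₁i, hQf])
    (by conv_lhs => rw [← hg₁e, iso_pol hg₁i, hef])
  have hTo : T ∈ omegaGL Q := eGroup_le_omega hQ hn hT
  have haW : a ∈ W := by
    rw [hadef]
    exact W.sub_mem (W.sub_mem (fix_maps hQ hg₁i hg₁W hf) hf) (W.smul_mem _ he)
  obtain ⟨g', hg'⟩ : ∃ g', g' = T⁻¹ * g₁ := ⟨_, rfl⟩
  have hg'o : g' ∈ omegaGL Q := hg' ▸ mul_mem (inv_mem hTo) hg₁o
  have hg'e : (g' : Matrix ι ι F) *ᵥ e = e := by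
    rw [hg', gl_mul_mulVec, hg₁e]; conv_lhs => rw [← hTe, gl_inv_mulVec]
  have hg'f : (g' : Matrix ι ι F) *ᵥ f = f := by rw [hg', gl_mul_mulVec, ← hTf, gl_inv_mulVec]
  have hg'W : FixPerp hQ W g' := hg' ▸ ((fixPerp_E hQ he haW hTE).inv hQ).mul hQ hg₁W
  have hg'i' := inv_mem (omegaGL_le_iso hg'o)
  have hge' : ((g'⁻¹ : GL ι F) : Matrix ι ι F) *ᵥ e = e := by conv_lhs => rw [← hg'e, gl_inv_mulVec]
  have hE' := hTE.conj hg'i'
  rw [inv_inv, hge'] at hE'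
  have hea : pol Q e a = 0 := by
    rw [hadef, psub_right hQ, psub_right hQ, psmul_right hQ, hee, hef]
    conv_lhs => rw [← hg₁e, iso_pol hg₁i, hef]
    ring
  refine ⟨v, ((g'⁻¹ : GL ι F) : Matrix ι ι F) *ᵥ a, T₁, g'⁻¹ * T * g', g', hvW,
    fix_maps hQ hg'i' (hg'W.inv hQ) haW, hvf, hve, by rw [← hx, hv], ?_, hT₁,
    mul_mem (mul_mem (inv_mem hg'o) hTo) hg'o, hT₁E, hE', hg'o, hg'W, hg'e, hg'f, ?_⟩
  · conv_lhs => rw [← hge']
    rw [iso_pol hg'i', hea]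
  · rw [hg', hg₁]; group

/-- the decomposition -/
theorem hasDec_odd (hn : 5 ≤ Fintype.card ι) : ∀ (j : ℕ) (W : Submodule F (ι → F)), NS Q W →
    Module.finrank F W = 2 * j + 1 → ∀ g ∈ omegaGL Q, FixPerp hQ W g → HasDec hQ W j g := by
  intro j
  induction j with
  | zero =>
    intro W hW hd g hg hfix
    have hw : wrk g ≤ 1 := le_trans (Submodule.finrank_mono (moved_le hQ (omegaGL_le_iso hg) hfix)) (by omega)
    obtain ⟨-, hev⟩ := omega_spn hQ hn hg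
    have hg1 : g = 1 := eq_one_of_wrk_zero hQ (omegaGL_le_iso hg) (by
      rcases Nat.le_one_iff_eq_zero_or_eq_one.1 hw with h0 | h0
      · exact h0
      · rw [h0] at hev; exact absurd hev Nat.not_even_one)
    refine ⟨⟨Fin.elim0, Fin.elim0, fun i => i.elim0, fun i => i.elim0, fun i => i.elim0, fun i => i.elim0,
      fun i => i.elim0⟩, fun i => i.elim0, fun i => i.elim0, 1, 1, one_mem _, one_mem _,
      fun y _ => by rw [Units.val_one, one_mulVec], fun y _ => by rw [Units.val_one, one_mulVec],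
      isUp_one _, isUp_one _, by rw [hg1, mul_one]⟩
  | succ j ih =>
    intro W hW hd g hg hfix
    have hodd : Odd (Module.finrank F W) := ⟨j + 1, hd⟩
    obtain ⟨e, he, he0, hQe, hcase⟩ := exists_start hQ hn hW (by omega) hodd hg hfix
    obtain ⟨f, hf, hQf, hef, hfx⟩ := exists_partner hQ hn hW (by omega) hodd hg hfix he he0 hQe hcase
    obtain ⟨v, a, T₁, T₂, g', hv, ha, hvf, -, -, hea, h1, h2, hT₁, hT₂, hg', hfix', hge, hgf, rfl⟩ :=
      peel hQ hn hg hfix he hf hQe hQf hef hfx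
    have hdim := pair_finrank_eq hQ he hf hQe hQf hef
    refine hasDec_cons hQ (W' := pairPerp hQ W e f) (fun y hy => ((mem_pairPerp hQ).1 hy).1) he hf hv ha hQe hQf hef
      (fun y hy => ((mem_pairPerp hQ).1 hy).2.1) (fun y hy => ((mem_pairPerp hQ).1 hy).2.2) hvf hea h1 h2 hT₁ hT₂
      (ih _ (hW.pair hQ he hf hQe hQf hef) (by omega) g' hg' (qperp_pair hQ he hf hQe hQf hef hfix' hge hgf))

end Finite

end CfsgLib.Char.OreOrth
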