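import Cfsg.Agent.Lib.Char.OreOrth.EvenMain
import Cfsg.Agent.Lib.Char.OreOrth.Residual

/-!
# The field of two elements
-/

set_option autoImplicit false
set_option linter.all false

namespace CfsgLib.Char.OreOrth

open scoped Matrix
open Matrix Cfsg.Geo CfsgLib.Perm.Asch CfsgLib.Perm.Trans CfsgLib.Perm.Trans.Quad CfsgLib.Orth

section Field

variable {F : Type*} [Field F] [Fintype F]

theorem two_eq_zero_of_card (hq : Fintype.card F = 2) : (2 : F) = 0 := by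
  have := FiniteField.cast_card_eq_zero F
  rwa [hq, Nat.cast_ofNat] at this

theorem eq_one_of_card (hq : Fintype.card F = 2) {x : F} (hx : x ≠ 0) : x = 1 := by
  classical
  by_contra h
  have hle : ({0, 1, x} : Finset F).card ≤ Fintype.card F := Finset.card_le_univ _
  rw [Finset.card_insert_of_notMem (by simp [hx.symm]), Finset.card_pair (Ne.symm h)] at hle
  omega

open CfsgLib.GLClass.CommSL CfsgLib.GLClass.Cover in
open Polynomial in
/-- the Levi part over two elements -/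
theorem exists_levi_two (hq : Fintype.card F = 2) {r : ℕ} (hr : 3 ≤ r) :
    ∃ (A : GL (Fin (r + 1)) F) (p : F[X]), Cyc p (A : Matrix (Fin (r + 1)) (Fin (r + 1)) F) ∧ SimpleRoot p ∧
      IsSquare (A : Matrix (Fin (r + 1)) (Fin (r + 1)) F).det ∧
      NoAlt (A : Matrix (Fin (r + 1)) (Fin (r + 1)) F) ∧ NoAlt (cot A : Matrix (Fin (r + 1)) (Fin (r + 1)) F) ∧
      ((A : Matrix (Fin (r + 1)) (Fin (r + 1)) F) * A + A + 1).det ≠ 0 ∧
      ((cot A : Matrix (Fin (r + 1)) (Fin (r + 1)) F) * (cot A : Matrix (Fin (r + 1)) (Fin (r + 1)) F) + (cot A : Matrix (Fin (r + 1)) (Fin (r + 1)) F) + 1).det ≠ 0 := by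
  have h20 := two_eq_zero_of_card hq
  obtain ⟨r', rfl⟩ : ∃ r', r = r' + 3 := ⟨r - 3, by omega⟩
  have h4 : 4 ≤ 2 ^ (r' + 2) := by
    calc 4 = 2 ^ 2 := rfl
      _ ≤ _ := Nat.pow_le_pow_right (by omega) (by omega)
  obtain ⟨G, g, hb, hG0, -, -⟩ := exists_block (F := F) (r := r' + 3) (by omega) (e := 1) (Or.inl rfl) (by
    rw [hq, show r' + 3 - 1 = r' + 2 from rfl, show (2 : ℕ) ^ (r' + 3) = 2 * 2 ^ (r' + 2) from pow_succ' _ _]
    omega)
  have hg : ∀ c, g.eval c ≠ 0 := block_no_root hb (by omega)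
  obtain ⟨hirr, hdeg, hcyc, hGB⟩ := hb
  have hdet : (full (1 : F) G).det ≠ 0 := by rw [det_full]; exact mul_ne_zero one_ne_zero hG0
  obtain ⟨A, hA⟩ : ∃ A : GL (Fin (r' + 3 + 1)) F, A = Matrix.GeneralLinearGroup.mkOfDetNeZero (full 1 G) hdet := ⟨_, rfl⟩
  have hAm : (A : Matrix (Fin (r' + 3 + 1)) (Fin (r' + 3 + 1)) F) = full 1 G := by rw [hA]; rfl
  have hquad : ((A : Matrix (Fin (r' + 3 + 1)) (Fin (r' + 3 + 1)) F) * A + A + 1).det ≠ 0 := by
    have e : full (1 : F) G * full 1 G + full 1 G + 1 = full (1 * 1 + 1 + 1) (G * G + G + 1) := by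
      rw [full_mul]
      ext i j
      refine Fin.cases ?_ (fun i => ?_) i <;> refine Fin.cases ?_ (fun j => ?_) j <;>
        simp [full_zero_zero, full_zero_succ, full_succ_zero, full_succ_succ, Matrix.one_apply, Fin.succ_ne_zero,
          (Fin.succ_ne_zero _).symm]
    rw [hAm, e, det_full]
    refine mul_ne_zero (by rw [show (1 * 1 + 1 + 1 : F) = 1 by linear_combination h20]; exact one_ne_zero) fun h => ?_
    obtain ⟨v, hv, h0⟩ := exists_mulVec_eq_zero_iff.2 h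
    obtain ⟨u, w, huw⟩ : IsCoprime g (X ^ 2 + X + 1 : F[X]) := hirr.coprime_iff_not_dvd.2 fun hd => by
      have hmon : (X ^ 2 + X + 1 : F[X]).Monic := by monicity!
      have h1 := Polynomial.natDegree_le_of_dvd hd hmon.ne_zero
      have h2 : (X ^ 2 + X + 1 : F[X]).natDegree ≤ 2 := by compute_degree!
      omega
    have h5 : aeval G (u * g + w * (X ^ 2 + X + 1)) *ᵥ v = v := by rw [huw, map_one, Matrix.one_mulVec]
    rw [map_add, map_mul, map_mul, (hGB G (Or.inl rfl)).1, mul_zero, zero_add, ← Matrix.mulVec_mulVec,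
      show aeval G (X ^ 2 + X + 1 : F[X]) = G * G + G + 1 by simp [sq], h0, Matrix.mulVec_zero] at h5
    exact hv h5.symm
  refine ⟨A, _, hAm ▸ cyc_full hcyc (hg 1), ⟨1, g, hcyc.1, hg 1, rfl⟩, ?_, hAm ▸ ?_, noAlt_cot (hAm ▸ ?_), hquad, ?_⟩
  · exact isSquare_of_two h20 _
  · exact noAlt_full hg (hGB G (Or.inl rfl)).1 (hGB G (Or.inl rfl)).2 one_ne_zero
  · rw [full_transpose]
    exact noAlt_full hg (hGB _ (Or.inr rfl)).1 (hGB _ (Or.inr rfl)).2 one_ne_zero
  · have e : (cot A : Matrix (Fin (r' + 3 + 1)) (Fin (r' + 3 + 1)) F) * (cot A : Matrix (Fin (r' + 3 + 1)) (Fin (r' + 3 + 1)) F) + (cot A : Matrix (Fin (r' + 3 + 1)) (Fin (r' + 3 + 1)) F) + 1 =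
        (((A⁻¹ : GL (Fin (r' + 3 + 1)) F) : Matrix (Fin (r' + 3 + 1)) (Fin (r' + 3 + 1)) F) *
          ((A⁻¹ : GL (Fin (r' + 3 + 1)) F) : Matrix (Fin (r' + 3 + 1)) (Fin (r' + 3 + 1)) F) *
            ((A : Matrix (Fin (r' + 3 + 1)) (Fin (r' + 3 + 1)) F) * (A : Matrix (Fin (r' + 3 + 1)) (Fin (r' + 3 + 1)) F) +
              (A : Matrix (Fin (r' + 3 + 1)) (Fin (r' + 3 + 1)) F) + 1))ᵀ := by
      simp only [Matrix.mul_add, Matrix.mul_one, Matrix.transpose_add, Matrix.mul_assoc]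
      rw [← Matrix.mul_assoc (((A⁻¹ : GL (Fin (r' + 3 + 1)) F)) : Matrix (Fin (r' + 3 + 1)) (Fin (r' + 3 + 1)) F)
        (A : Matrix (Fin (r' + 3 + 1)) (Fin (r' + 3 + 1)) F), Units.inv_mul, Matrix.one_mul, Units.inv_mul,
        Matrix.mul_one, Matrix.transpose_one, Matrix.transpose_mul]
      show (((A⁻¹ : GL (Fin (r' + 3 + 1)) F) : Matrix (Fin (r' + 3 + 1)) (Fin (r' + 3 + 1)) F)ᵀ) *
          (((A⁻¹ : GL (Fin (r' + 3 + 1)) F) : Matrix (Fin (r' + 3 + 1)) (Fin (r' + 3 + 1)) F)ᵀ) +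
        ((A⁻¹ : GL (Fin (r' + 3 + 1)) F) : Matrix (Fin (r' + 3 + 1)) (Fin (r' + 3 + 1)) F)ᵀ + 1 = _
      abel
    rw [e, Matrix.det_transpose, Matrix.det_mul, Matrix.det_mul]
    have hi : ((A⁻¹ : GL (Fin (r' + 3 + 1)) F) : Matrix (Fin (r' + 3 + 1)) (Fin (r' + 3 + 1)) F).det ≠ 0 :=
      ((A⁻¹).isUnit.map Matrix.detMonoidHom).ne_zero
    exact mul_ne_zero (mul_ne_zero hi hi) hquad

end Field

variable {ι : Type} [Fintype ι] [DecidableEq ι] {F : Type*} [Field F] [Fintype F]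
variable {Q : (ι → F) → F}

local notation "pol" => QuadraticMap.polar

variable (hQ : IsNondegenerateQuadraticForm Q)
include hQ

omit [Fintype F] in
theorem pol_residual {k : ℕ} (Fr : Frame Q k) {z : ι → F} (hc : cvec hQ Fr z = 0) (hd : dvec hQ Fr z = 0)
    (x : ι → F) : pol Q z (pr hQ Fr x) = pol Q z x := by
  rw [pr_apply, psub_right hQ, psub_right hQ, pcomm z (Fr.emb _), pcomm z (Fr.swap.emb _), pol_emb_left hQ Fr,
    pol_emb_left hQ Fr.swap, hd, show dvec hQ Fr.swap z = cvec hQ Fr z from rfl, hc]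
  simp

omit [Fintype F] hQ in
/-- append a pair -/
def Frame.snoc {k : ℕ} (Fr : Frame Q k) (e f : ι → F) (he : Q e = 0) (hf : Q f = 0) (hee : pol Q e e = 0)
    (hff : pol Q f f = 0) (hef : pol Q e f = 1) (h1 : ∀ i, pol Q e (Fr.e i) = 0) (h2 : ∀ i, pol Q f (Fr.e i) = 0)
    (h3 : ∀ i, pol Q e (Fr.f i) = 0) (h4 : ∀ i, pol Q f (Fr.f i) = 0) : Frame Q (k + 1) where
  e := Fin.snoc Fr.e e
  f := Fin.snoc Fr.f f
  qe i := by refine Fin.lastCases ?_ (fun i => ?_) i <;> simp [he, Fr.qe]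
  qf i := by refine Fin.lastCases ?_ (fun i => ?_) i <;> simp [hf, Fr.qf]
  ee i j := by
    refine Fin.lastCases ?_ (fun i => ?_) i <;> refine Fin.lastCases ?_ (fun j => ?_) j <;>
      simp [hee, h1, Fr.ee, pcomm (Fr.e _) e]
  ff i j := by
    refine Fin.lastCases ?_ (fun i => ?_) i <;> refine Fin.lastCases ?_ (fun j => ?_) j <;>
      simp [hff, h4, Fr.ff, pcomm (Fr.f _) f]
  ef i j := by
    refine Fin.lastCases ?_ (fun i => ?_) i <;> refine Fin.lastCases ?_ (fun j => ?_) j <;>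
      simp [hef, h3, h2, Fr.ef, pcomm (Fr.e _) f, Fin.castSucc_ne_last, (Fin.castSucc_ne_last _).symm]

omit [Fintype F] in
theorem isUp_snoc {k : ℕ} {Fr : Frame Q k} {Fr' : Frame Q (k + 1)} (hs : ∀ i, Fr'.e i.castSucc = Fr.e i)
    {u : GL ι F} (hu : IsUp Fr u) : IsUp Fr' u := by
  have hle : Submodule.span F (Set.range Fr.e) ≤ Submodule.span F (Fr'.e '' Set.Iio (Fin.last k)) :=
    Submodule.span_mono (by rintro _ ⟨i, rfl⟩; exact ⟨i.castSucc, Fin.castSucc_lt_last i, hs i⟩)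
  refine ⟨fun j => ?_, fun y hy => ?_⟩
  · refine Fin.lastCases ?_ (fun j => ?_) j
    · exact hle (hu.2 _ fun i => by rw [← hs, Fr'.ee])
    · rw [hs]
      refine (Submodule.span_mono ?_ : _ ≤ _) (hu.1 j)
      rintro _ ⟨l, hl, rfl⟩
      exact ⟨l.castSucc, Fin.castSucc_lt_castSucc_iff.2 hl, hs l⟩
  · exact Submodule.span_mono (Set.image_subset_range _ _) (hle (hu.2 y fun i => by rw [← hs]; exact hy _))

/-- an isotropic residual plane: extend the frame -/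
theorem commutator_two_plus (hq : Fintype.card F = 2) {n : ℕ} (hn : 4 ≤ n) (hdim : Fintype.card ι = 2 * n)
    (hres : ∀ Fr : Frame Q (n - 1), ∃ y, y ≠ 0 ∧ cvec hQ Fr y = 0 ∧ dvec hQ Fr y = 0 ∧ Q y = 0) {g : GL ι F}
    (hg : g ∈ omegaGL Q) : ∃ v ∈ omegaGL Q, ∃ w ∈ omegaGL Q, g = v * w * v⁻¹ * w⁻¹ := by
  obtain ⟨Fr, -, -, L, U, hL, hU, -, -, uL, uU, rfl⟩ :=
    hasDec_even hQ hn hdim hg (Or.inl (two_eq_zero_of_card hq))
  obtain ⟨z, hz, hzc, hzd, hQz⟩ := hres Fr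
  obtain ⟨x, hx⟩ := (hQ.nondegenerate z hz).2
  obtain ⟨z', hz'⟩ : ∃ z', z' = (pol Q z x)⁻¹ • pr hQ Fr x - Q ((pol Q z x)⁻¹ • pr hQ Fr x) • z := ⟨_, rfl⟩
  have hz'c : cvec hQ Fr z' = 0 := by rw [hz', map_sub, map_smul, map_smul, cvec_pr, hzc]; simp
  have hz'd : dvec hQ Fr z' = 0 := by rw [hz', map_sub, map_smul, map_smul, dvec_pr, hzd]; simp
  have h1 : pol Q z ((pol Q z x)⁻¹ • pr hQ Fr x) = 1 := by
    rw [psmul_right hQ, pol_residual hQ Fr hzc hzd, inv_mul_cancel₀ hx]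
  have hQz' : Q z' = 0 := by
    rw [hz', qsub hQ, qsmul hQ (Q _) z, hQz, psmul_right hQ, pcomm _ z, h1]; ring
  have hzz' : pol Q z z' = 1 := by rw [hz', psub_right hQ, h1, psmul_right hQ, pself hQ, hQz]; ring
  obtain ⟨Fr', hFr'⟩ : ∃ Fr', Fr' = Fr.snoc z z' hQz hQz' (by rw [pself hQ, hQz, mul_zero])
      (by rw [pself hQ, hQz', mul_zero]) hzz' (fun i => congrFun hzd i) (fun i => congrFun hz'd i)
      (fun i => congrFun hzc i) (fun i => congrFun hz'c i) := ⟨_, rfl⟩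
  have uU' : IsUp Fr' U := isUp_snoc hQ (fun i => by rw [hFr']; simp [Frame.snoc]) uU
  have uL' : IsUp Fr'.swap L := isUp_snoc hQ (fun i => by rw [hFr']; simp [Frame.snoc, Frame.swap]) uL
  obtain ⟨m, rfl⟩ : ∃ m, n = m + 1 := ⟨n - 1, by omega⟩
  obtain ⟨A, p, hcyc, hsr, hsq, hS, hS', -, -⟩ := exists_levi_two (F := F) hq (r := m + 1 - 1) (by omega)
  have hzero : ∀ y, cvec hQ Fr' y = 0 → dvec hQ Fr' y = 0 → y = 0 := by
    intro y hc hd
    let T : (Fin (m + 1 - 1 + 1) → F) × (Fin (m + 1 - 1 + 1) → F) →ₗ[F] (ι → F) := Fr'.emb.coprod Fr'.swap.emb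
    have hinj : Function.Injective T := by
      intro p q h
      have e1 := congrArg (cvec hQ Fr') h
      have e2 := congrArg (dvec hQ Fr') h
      simp only [T, LinearMap.coprod_apply, map_add, cvec_emb, cvec_emb', dvec_emb, dvec_emb', add_zero, zero_add] at e1 e2
      exact Prod.ext e1 e2
    have hsurj : Function.Surjective T := (LinearMap.injective_iff_surjective_of_finrank_eq_finrank (by
      rw [Module.finrank_prod, Module.finrank_fintype_fun_eq_card, Module.finrank_fintype_fun_eq_card, Fintype.card_fin,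
        hdim]
      omega)).1 hinj
    obtain ⟨⟨c, d⟩, rfl⟩ := hsurj y
    simp only [T, LinearMap.coprod_apply, map_add, cvec_emb, cvec_emb', dvec_emb, dvec_emb', add_zero, zero_add] at hc hd
    simp [T, hc, hd]
  exact commutator_of_up hQ Fr' (by omega) hL hU uL' uU' hcyc hsr (one_mem _)
    (fun i => by rw [Units.val_one, one_mulVec]) (fun i => by rw [Units.val_one, one_mulVec])
    (by rw [mul_one]; exact lev_mem_omega hQ Fr' (by omega) A hsq) hS hS'
    (fun φ _ y hc hd => by rw [hzero y hc hd, map_zero])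
    (fun φ _ y hc hd => by rw [hzero y hd hc, map_zero])

/-- an anisotropic residual plane: a rotation of order three -/
theorem exists_rotation (hq : Fintype.card F = 2) {k : ℕ} (hn : 5 ≤ Fintype.card ι) (hdim : Fintype.card ι = 2 * k + 2)
    (Fr : Frame Q k) (hres : ∀ y, cvec hQ Fr y = 0 → dvec hQ Fr y = 0 → Q y = 0 → y = 0) :
    ∃ a ∈ omegaGL Q, (∀ i, (a : Matrix ι ι F) *ᵥ Fr.e i = Fr.e i) ∧ (∀ i, (a : Matrix ι ι F) *ᵥ Fr.f i = Fr.f i) ∧
      ∀ y, cvec hQ Fr y = 0 → dvec hQ Fr y = 0 →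
        cvec hQ Fr ((a : Matrix ι ι F) *ᵥ y) = 0 ∧ dvec hQ Fr ((a : Matrix ι ι F) *ᵥ y) = 0 ∧
        (a : Matrix ι ι F) *ᵥ ((a : Matrix ι ι F) *ᵥ y) + (a : Matrix ι ι F) *ᵥ y + y = 0 := by
  classical
  have h20 := two_eq_zero_of_card hq
  obtain ⟨K, hK⟩ : ∃ K, K = LinearMap.ker (cvec hQ Fr) ⊓ LinearMap.ker (dvec hQ Fr) := ⟨_, rfl⟩
  have hmem : ∀ y, y ∈ K ↔ cvec hQ Fr y = 0 ∧ dvec hQ Fr y = 0 := fun y => by
    rw [hK, Submodule.mem_inf, LinearMap.mem_ker, LinearMap.mem_ker]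
  have hKd : Module.finrank F K = 2 := by
    let S : (ι → F) →ₗ[F] (Fin k → F) × (Fin k → F) := (cvec hQ Fr).prod (dvec hQ Fr)
    have hsurj : Function.Surjective S := fun p => ⟨Fr.emb p.1 + Fr.swap.emb p.2, by
      simp [S, cvec_emb, cvec_emb', dvec_emb, dvec_emb']⟩
    have h := LinearMap.finrank_range_add_finrank_ker S
    rw [LinearMap.range_eq_top.2 hsurj, finrank_top, Module.finrank_prod, Module.finrank_fintype_fun_eq_card,
      Module.finrank_fintype_fun_eq_card, Fintype.card_fin, LinearMap.ker_prod, ← hK] at h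
    omega
  have hone : ∀ y ∈ K, y ≠ 0 → Q y = 1 := fun y hy hy0 =>
    eq_one_of_card hq fun h => hy0 (hres y ((hmem y).1 hy).1 ((hmem y).1 hy).2 h)
  obtain ⟨u, hu, hu0⟩ := Submodule.exists_mem_ne_zero_of_ne_bot (p := K) fun h => by
    rw [h, finrank_bot] at hKd; omega
  obtain ⟨v, hv, hvu⟩ : ∃ v ∈ K, v ∉ Submodule.span F {u} := by
    by_contra h
    push Not at h
    have := Submodule.finrank_mono h
    rw [finrank_span_singleton hu0] at this
    omega
  have hv0 : v ≠ 0 := fun h => hvu (h ▸ Submodule.zero_mem _)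
  have huv0 : u + v ≠ 0 := fun h => hvu (by
    rw [eq_neg_of_add_eq_zero_right h]; exact Submodule.neg_mem _ (Submodule.mem_span_singleton_self u))
  have hQu := hone u hu hu0
  have hQv := hone v hv hv0
  have huv : pol Q u v = 1 := by
    have h := hone _ (K.add_mem hu hv) huv0
    rw [qadd hQ, hQu, hQv] at h
    linear_combination h - h20
  obtain ⟨r, hr, hru⟩ := exists_refl hQ (v := u) (by rw [hQu]; exact one_ne_zero)
  obtain ⟨s, hs, hsv⟩ := exists_refl hQ (v := v) (by rw [hQv]; exact one_ne_zero)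
  obtain ⟨e1, e2⟩ := refl_spn hQ hr hru (by rw [hQu]; exact one_ne_zero)
  obtain ⟨e3, e4⟩ := refl_spn hQ hs hsv (by rw [hQv]; exact one_ne_zero)
  have hex := hex_of_five hQ (ι := ι) (F := F) hn
  obtain ⟨d1, d2⟩ := spn_mul hQ (iso_le_reflGroup hQ hex hr) hs
  have hao : r * s ∈ omegaGL Q := Subgroup.mem_map.2 ⟨⟨r * s, mul_mem hr hs⟩,
    (mem_omega_iff hQ (by omega) hex _).2 ⟨by
      show spn Q (r * s) = 1
      rw [d1, e2, e4, hQu, hQv, sqc_one, mul_one], d2.2 (by rw [e1, e3])⟩, rfl⟩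
  have hfix : ∀ x, pol Q x u = 0 → pol Q x v = 0 → ((r * s : GL ι F) : Matrix ι ι F) *ᵥ x = x := fun x h1 h2 => by
    rw [gl_mul_mulVec, refl_fix hQ hsv h2, refl_fix hQ hru h1]
  have hau : ((r * s : GL ι F) : Matrix ι ι F) *ᵥ u = v := by
    rw [gl_mul_mulVec, hsv, hQv, huv, Matrix.mulVec_sub, Matrix.mulVec_smul, hru, hru, hQu, pself hQ, hQu,
      pcomm v u, huv, h20]
    match_scalars <;> first | linear_combination h20 | linear_combination -h20 | ring
  have hav : ((r * s : GL ι F) : Matrix ι ι F) *ᵥ v = u + v := by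
    rw [gl_mul_mulVec, hsv, hQv, pself hQ, hQv, h20, inv_one, mul_one, one_mul, zero_smul, sub_zero, hru, hQu, pcomm v u,
      huv]
    match_scalars <;> first | linear_combination h20 | linear_combination -h20 | ring
  have hKeq : K = Submodule.span F {u, v} := by
    refine (Submodule.eq_of_le_of_finrank_le (Submodule.span_le.2 ?_) ?_).symm
    · rintro x (rfl | rfl) <;> assumption
    · rw [hKd]
      have hlt : Submodule.span F {u} < Submodule.span F {u, v} :=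
        lt_of_le_of_ne (Submodule.span_mono (by simp)) fun h => hvu (h.symm ▸ Submodule.subset_span (Or.inr rfl))
      have := Submodule.finrank_lt_finrank_of_lt hlt
      rw [finrank_span_singleton hu0] at this
      omega
  refine ⟨r * s, hao, fun i => hfix _ (by rw [pcomm]; exact congrFun ((hmem u).1 hu).2 i)
    (by rw [pcomm]; exact congrFun ((hmem v).1 hv).2 i), fun i => hfix _ (by rw [pcomm]; exact congrFun ((hmem u).1 hu).1 i)
    (by rw [pcomm]; exact congrFun ((hmem v).1 hv).1 i), fun y hc hd => ?_⟩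
  have hy : y ∈ K := (hmem y).2 ⟨hc, hd⟩
  rw [hKeq] at hy
  obtain ⟨α, β, rfl⟩ := Submodule.mem_span_pair.1 hy
  have ha : ((r * s : GL ι F) : Matrix ι ι F) *ᵥ (α • u + β • v) = β • u + (α + β) • v := by
    rw [Matrix.mulVec_add, Matrix.mulVec_smul, Matrix.mulVec_smul, hau, hav]; module
  have hm := (hmem _).1 (K.add_mem (K.smul_mem β hu) (K.smul_mem (α + β) hv))
  refine ⟨by rw [ha]; exact hm.1, by rw [ha]; exact hm.2, ?_⟩
  rw [ha, Matrix.mulVec_add, Matrix.mulVec_smul, Matrix.mulVec_smul, hau, hav]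
  match_scalars
  all_goals first | linear_combination (α + β) * h20 | linear_combination (α + β + β) * h20 | linear_combination β * h20 | linear_combination α * h20

omit [Fintype F] in
theorem noInt_rot {k : ℕ} (Fr : Frame Q k) {A : Matrix (Fin k) (Fin k) F} {a : GL ι F}
    (h : (A * A + A + 1).det ≠ 0)
    (ha : ∀ y, cvec hQ Fr y = 0 → dvec hQ Fr y = 0 →
        cvec hQ Fr ((a : Matrix ι ι F) *ᵥ y) = 0 ∧ dvec hQ Fr ((a : Matrix ι ι F) *ᵥ y) = 0 ∧
        (a : Matrix ι ι F) *ᵥ ((a : Matrix ι ι F) *ᵥ y) + (a : Matrix ι ι F) *ᵥ y + y = 0) :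
    NoInt hQ Fr A a := by
  intro φ hφ y hc hd
  obtain ⟨hc', hd', h0⟩ := ha y hc hd
  by_contra hne
  refine h (Matrix.exists_mulVec_eq_zero_iff.1 ⟨φ y, hne, ?_⟩)
  rw [Matrix.add_mulVec, Matrix.add_mulVec, Matrix.one_mulVec, ← Matrix.mulVec_mulVec, ← hφ y hc hd, ← hφ _ hc' hd',
    ← map_add, ← map_add, h0, map_zero]

/-- anisotropic residual, rank at least five -/
theorem commutator_two_minus (hq : Fintype.card F = 2) {n : ℕ} (hn : 5 ≤ n) (hdim : Fintype.card ι = 2 * n)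
    (hres : ∀ Fr : Frame Q (n - 1), ∀ y, cvec hQ Fr y = 0 → dvec hQ Fr y = 0 → Q y = 0 → y = 0) {g : GL ι F}
    (hg : g ∈ omegaGL Q) : ∃ v ∈ omegaGL Q, ∃ w ∈ omegaGL Q, g = v * w * v⁻¹ * w⁻¹ := by
  obtain ⟨Fr, -, -, L, U, hL, hU, -, -, uL, uU, rfl⟩ :=
    hasDec_even hQ (by omega) hdim hg (Or.inl (two_eq_zero_of_card hq))
  obtain ⟨a, hao, hae, haf, hrot⟩ := exists_rotation hQ hq (by omega) (by omega) Fr (hres Fr)
  obtain ⟨r, hr⟩ : ∃ r, n - 1 = r + 1 := ⟨n - 2, by omega⟩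
  revert Fr
  rw [hr]
  intro Fr uL uU hae haf hrot
  obtain ⟨A, p, hcyc, hsr, hsq, hS, hS', hA, hA'⟩ := exists_levi_two (F := F) hq (r := r) (by omega)
  exact commutator_of_up hQ Fr (by omega) hL hU uL uU hcyc hsr (omegaGL_le_iso hao) hae haf
    (mul_mem (lev_mem_omega hQ Fr (by omega) A hsq) hao) hS hS' (noInt_rot hQ Fr hA hrot)
    (noInt_rot hQ Fr.swap hA' fun y hc hd => by
      obtain ⟨h1, h2, h3⟩ := hrot y hd hc
      exact ⟨h2, h1, h3⟩)

end CfsgLib.Char.OreOrth
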