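import Cfsg.Agent.Lib.Char.OreOrth.Two
import Cfsg.Agent.Lib.Char.OreOrth.Small

/-!
# Minus type in dimension eight over two elements
-/

set_option autoImplicit false
set_option linter.all false

namespace CfsgLib.Char.OreOrth

open scoped Matrix
open Matrix Cfsg.Geo CfsgLib.Perm.Asch CfsgLib.Perm.Trans CfsgLib.Perm.Trans.Quad CfsgLib.Orth

variable {ι : Type} [Fintype ι] [DecidableEq ι] {F : Type*} [Field F]
variable {Q : (ι → F) → F} {k : ℕ}

local notation "pol" => QuadraticMap.polar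

variable (hQ : IsNondegenerateQuadraticForm Q)
include hQ

/-- an isometry exchanging the halves turns a Levi element into its inverse transpose -/
theorem swap_conj (Fr : Frame Q k) {T : GL ι F} (hT : T ∈ Cfsg.isometryGroup F Q)
    (hTe : ∀ i, (T : Matrix ι ι F) *ᵥ Fr.e i = Fr.f i) (hTf : ∀ i, (T : Matrix ι ι F) *ᵥ Fr.f i = Fr.e i)
    (B : GL (Fin k) F) : T * lev hQ Fr B * T⁻¹ = lev hQ Fr (cot B) := by
  have hE : ∀ c, (T : Matrix ι ι F) *ᵥ Fr.emb c = Fr.swap.emb c := fun c => by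
    rw [Frame.emb_apply, Frame.emb_apply, Matrix.mulVec_sum]
    simp_rw [Matrix.mulVec_smul, hTe, Frame.swap_e]
  have hF : ∀ c, (T : Matrix ι ι F) *ᵥ Fr.swap.emb c = Fr.emb c := fun c => by
    rw [Frame.emb_apply, Frame.emb_apply, Matrix.mulVec_sum]
    simp_rw [Matrix.mulVec_smul, Frame.swap_e, hTf]
  have hc : ∀ x, cvec hQ Fr ((T : Matrix ι ι F) *ᵥ x) = dvec hQ Fr x := fun x => funext fun i => by
    rw [cvec_apply, dvec_apply]
    conv_lhs => rw [← hTe i, iso_pol hT]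
  have hd : ∀ x, dvec hQ Fr ((T : Matrix ι ι F) *ᵥ x) = cvec hQ Fr x := fun x => funext fun i => by
    rw [cvec_apply, dvec_apply]
    conv_lhs => rw [← hTf i, iso_pol hT]
  rw [mul_inv_eq_iff_eq_mul]
  refine gl_ext_vec fun x => ?_
  rw [gl_mul_mulVec, gl_mul_mulVec, lev_mulVec, lev_mulVec, levL_apply, levL_apply, pr_apply, pr_apply, hc, hd, cot_cot]
  simp only [Matrix.mulVec_add, Matrix.mulVec_sub, hE, hF]
  abel

variable [Fintype F]

/-- over two elements the exchange exists inside `Ω` for three pairs and a non-singular residual vector -/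
theorem exists_exchange (hn : 5 ≤ Fintype.card ι) (h2 : (2 : F) = 0) (Fr : Frame Q 3) {u : ι → F} (hu : Q u ≠ 0)
    (hcu : cvec hQ Fr u = 0) (hdu : dvec hQ Fr u = 0) :
    ∃ T ∈ omegaGL Q, (∀ i, (T : Matrix ι ι F) *ᵥ Fr.e i = Fr.f i) ∧ ∀ i, (T : Matrix ι ι F) *ᵥ Fr.f i = Fr.e i := by
  have hone : ∀ i, Q (Fr.e i + Fr.f i) = 1 := fun i => by rw [qadd hQ, Fr.qe, Fr.qf, Fr.ef, if_pos rfl]; ring
  choose r hr hrv using fun i => exists_refl hQ (v := Fr.e i + Fr.f i) (by rw [hone]; exact one_ne_zero)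
  obtain ⟨s, hs, hsv⟩ := exists_refl hQ hu
  have hself : ∀ i, (r i : Matrix ι ι F) *ᵥ Fr.e i = Fr.f i ∧ (r i : Matrix ι ι F) *ᵥ Fr.f i = Fr.e i := fun i => by
    constructor
    · rw [hrv i, hone, padd_right hQ, Fr.ee, Fr.ef, if_pos rfl]
      match_scalars <;> first | linear_combination h2 | linear_combination -h2 | ring
    · rw [hrv i, hone, padd_right hQ, Fr.ff, pcomm (Fr.f i), Fr.ef, if_pos rfl]
      match_scalars <;> first | linear_combination h2 | linear_combination -h2 | ring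
  have hother : ∀ i j, i ≠ j → (r i : Matrix ι ι F) *ᵥ Fr.e j = Fr.e j ∧ (r i : Matrix ι ι F) *ᵥ Fr.f j = Fr.f j :=
    fun i j hij => ⟨refl_fix hQ (hrv i) (by rw [padd_right hQ, Fr.ee, Fr.ef, if_neg hij.symm, add_zero]),
      refl_fix hQ (hrv i) (by rw [padd_right hQ, Fr.ff, pcomm (Fr.f j), Fr.ef, if_neg hij, add_zero])⟩
  have hse : ∀ j, (s : Matrix ι ι F) *ᵥ Fr.e j = Fr.e j := fun j =>
    refl_fix hQ hsv (by rw [pcomm]; exact congrFun hdu j)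
  have hsf : ∀ j, (s : Matrix ι ι F) *ᵥ Fr.f j = Fr.f j := fun j =>
    refl_fix hQ hsv (by rw [pcomm]; exact congrFun hcu j)
  have hex := hex_of_five hQ (ι := ι) (F := F) hn
  have hcl : ∀ (v : ι → F) (a : GL ι F) (ha : a ∈ Cfsg.isometryGroup F Q), IsRefl Q v a → Q v ≠ 0 →
      clsHom hQ hex ⟨a, ha⟩ = (1, Multiplicative.ofAdd 1) := fun v a ha hv hv0 => by
    obtain ⟨e1, e2⟩ := refl_spn hQ ha hv hv0
    refine Prod.ext (e2.trans ((sqc_eq_one_iff hv0).2 (isSquare_of_two h2 _))) ?_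
    show Multiplicative.ofAdd ((wrk a : ℕ) : ZMod 2) = _
    rw [e1, Nat.cast_one]
  refine ⟨r 0 * r 1 * r 2 * s, Subgroup.mem_map.2 ⟨(⟨r 0, hr 0⟩ : ↥(Cfsg.isometryGroup F Q)) * ⟨r 1, hr 1⟩ * ⟨r 2, hr 2⟩ * ⟨s, hs⟩, ?_,
      by simp only [map_mul, Subgroup.coe_subtype]⟩,
    fun j => ?_, fun j => ?_⟩
  · rw [← clsHom_ker hQ (by omega) hex, MonoidHom.mem_ker]
    simp only [map_mul]
    rw [hcl _ _ (hr 0) (hrv 0) (by rw [hone]; exact one_ne_zero), hcl _ _ (hr 1) (hrv 1) (by rw [hone]; exact one_ne_zero),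
      hcl _ _ (hr 2) (hrv 2) (by rw [hone]; exact one_ne_zero), hcl _ _ hs hsv hu]
    refine Prod.ext ?_ ?_
    · show (1 : SqClass F) * 1 * 1 * 1 = 1
      simp
    · show Multiplicative.ofAdd (1 : ZMod 2) * Multiplicative.ofAdd 1 * Multiplicative.ofAdd 1 * Multiplicative.ofAdd 1 = 1
      decide
  · obtain rfl | rfl | rfl : j = 0 ∨ j = 1 ∨ j = 2 := by revert j; decide
    · rw [gl_mul_mulVec, gl_mul_mulVec, gl_mul_mulVec, hse, (hother 2 0 (by decide)).1, (hother 1 0 (by decide)).1,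
        (hself 0).1]
    · rw [gl_mul_mulVec, gl_mul_mulVec, gl_mul_mulVec, hse, (hother 2 1 (by decide)).1, (hself 1).1,
        (hother 0 1 (by decide)).2]
    · rw [gl_mul_mulVec, gl_mul_mulVec, gl_mul_mulVec, hse, (hself 2).1, (hother 1 2 (by decide)).2,
        (hother 0 2 (by decide)).2]
  · obtain rfl | rfl | rfl : j = 0 ∨ j = 1 ∨ j = 2 := by revert j; decide
    · rw [gl_mul_mulVec, gl_mul_mulVec, gl_mul_mulVec, hsf, (hother 2 0 (by decide)).2, (hother 1 0 (by decide)).2,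
        (hself 0).2]
    · rw [gl_mul_mulVec, gl_mul_mulVec, gl_mul_mulVec, hsf, (hother 2 1 (by decide)).2, (hself 1).2,
        (hother 0 1 (by decide)).1]
    · rw [gl_mul_mulVec, gl_mul_mulVec, gl_mul_mulVec, hsf, (hself 2).2, (hother 1 2 (by decide)).1,
        (hother 0 2 (by decide)).1]

/-- the criterion with two possibly different classes and no rotation -/
theorem commutator_of_factor (hk : 3 ≤ k) (Fr : Frame Q k) {low up : GL ι F} (hlow : low ∈ uGroup hQ Fr.swap)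
    (hup : up ∈ uGroup hQ Fr) {M A A' P R : GL (Fin k) F} (hA : lev hQ Fr A ∈ omegaGL Q)
    (hP : lev hQ Fr P ∈ omegaGL Q) (hR : lev hQ Fr R ∈ omegaGL Q) (hM : M = P * A' * P⁻¹ * (R * A * R⁻¹))
    {w : GL ι F} (hw : w ∈ omegaGL Q) (hwA : w * (lev hQ Fr A)⁻¹ * w⁻¹ = lev hQ Fr A')
    (hS : NoAlt (A : Matrix (Fin k) (Fin k) F)) (hS' : NoAlt (cot A' : Matrix (Fin k) (Fin k) F))
    (hd : ((A : Matrix (Fin k) (Fin k) F) - 1).det ≠ 0) (hd' : ((cot A' : Matrix (Fin k) (Fin k) F) - 1).det ≠ 0) :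
    ∃ v ∈ omegaGL Q, ∃ w ∈ omegaGL Q, low * lev hQ Fr M * up = v * w * v⁻¹ * w⁻¹ := by
  have one_e : ∀ i, ((1 : GL ι F) : Matrix ι ι F) *ᵥ Fr.e i = Fr.e i := fun i => by rw [Units.val_one, one_mulVec]
  have one_f : ∀ i, ((1 : GL ι F) : Matrix ι ι F) *ᵥ Fr.f i = Fr.f i := fun i => by rw [Units.val_one, one_mulVec]
  have hnA : ∀ B u, u ∈ uGroup hQ Fr.swap → lev hQ Fr B * u * (lev hQ Fr B)⁻¹ ∈ uGroup hQ Fr.swap := fun B u hu => by
    rw [← lev_swap hQ Fr B]; exact uGroup_conj_lev hQ Fr.swap _ hu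
  have hC1 : ∀ u ∈ uGroup hQ Fr, u * lev hQ Fr A = lev hQ Fr A * u → u = 1 := fun u hu h =>
    eq_one_of_comm hQ Fr (one_mem _) one_e one_f hS (noInt_one hQ Fr hd) (omegaGL_le_iso hu.1) hu.2
      (by rw [mul_one]; exact h)
  have hC2 : ∀ u ∈ uGroup hQ Fr.swap, u * lev hQ Fr A' = lev hQ Fr A' * u → u = 1 := fun u hu h =>
    eq_one_of_comm hQ Fr.swap (one_mem _) one_f one_e hS' (noInt_one hQ Fr.swap hd') (omegaGL_le_iso hu.1) hu.2
      (by rw [mul_one, lev_swap]; exact h)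
  have h1 := hnA P⁻¹ low hlow
  rw [map_inv] at h1
  have h2 := uGroup_conj_lev hQ Fr R⁻¹ hup
  rw [map_inv] at h2
  obtain ⟨u₁, hu₁, e₁⟩ := exists_conj_coset (hnA A') hC2 h1
  obtain ⟨u₂, hu₂, e₂⟩ := exists_conj_coset' (fun u hu => uGroup_conj_lev hQ Fr A hu) hC1 h2
  obtain ⟨v, hv, z, hz, hvz⟩ := commutator_of_conj (N := omegaGL Q) hA (mul_mem (mul_mem hP hu₁.1) hw)
    (mul_mem hR hu₂.1)
  refine ⟨v, hv, z, hz, ?_⟩
  rw [← hvz, hM]
  simp only [map_mul, map_inv]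
  calc low * (lev hQ Fr P * lev hQ Fr A' * (lev hQ Fr P)⁻¹ * (lev hQ Fr R * lev hQ Fr A * (lev hQ Fr R)⁻¹)) * up
      = lev hQ Fr P * ((lev hQ Fr P)⁻¹ * low * (lev hQ Fr P)⁻¹⁻¹ * lev hQ Fr A') * (lev hQ Fr P)⁻¹ *
          (lev hQ Fr R * (lev hQ Fr A * ((lev hQ Fr R)⁻¹ * up * (lev hQ Fr R)⁻¹⁻¹)) * (lev hQ Fr R)⁻¹) := by group
    _ = _ := by rw [← e₁, ← e₂, ← hwA]; group

open Small in
/-- minus type in dimension eight over two elements -/
theorem commutator_two_minus_four (hq : Fintype.card F = 2) (hdim : Fintype.card ι = 8)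
    (hres : ∀ Fr : Frame Q 3, ∀ y, cvec hQ Fr y = 0 → dvec hQ Fr y = 0 → Q y = 0 → y = 0) {g : GL ι F}
    (hg : g ∈ omegaGL Q) : ∃ v ∈ omegaGL Q, ∃ w ∈ omegaGL Q, g = v * w * v⁻¹ * w⁻¹ := by
  classical
  have h20 := two_eq_zero_of_card hq
  obtain ⟨Fr, -, -, L, U, hL, hU, -, -, uL, uU, rfl⟩ :=
    hasDec_even hQ (n := 4) le_rfl (by omega) hg (Or.inl h20)
  obtain ⟨low, up, M, hlow, hup, hLU, hMd, -⟩ := exists_gauss hQ Fr le_rfl hL hU uL uU
  haveI : Fact (Nat.Prime 2) := ⟨Nat.prime_two⟩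
  obtain ⟨φ, hφ⟩ := CfsgLib.OreSp.exists_hom hq
  have hφs : Function.Surjective φ :=
    ((Fintype.bijective_iff_injective_and_card φ).2 ⟨hφ, by rw [ZMod.card, hq]⟩).2
  let up2 : GL (Fin 3) (ZMod 2) →* GL (Fin 3) F := Units.map φ.mapMatrix.toMonoidHom
  have hup2 : ∀ B : GL (Fin 3) (ZMod 2), (up2 B : Matrix (Fin 3) (Fin 3) F) =
      φ.mapMatrix (B : Matrix (Fin 3) (Fin 3) (ZMod 2)) := fun B => rfl
  have hcotm : ∀ B : GL (Fin 3) (ZMod 2), cot (up2 B) = up2 (cot B) := fun B => by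
    refine Units.ext ?_
    show (((up2 B)⁻¹ : GL (Fin 3) F) : Matrix (Fin 3) (Fin 3) F)ᵀ = φ.mapMatrix (cot B : Matrix (Fin 3) (Fin 3) (ZMod 2))
    rw [← map_inv, hup2]
    rfl
  obtain ⟨M₀, hM₀⟩ : ∃ M₀ : Matrix (Fin 3) (Fin 3) (ZMod 2), φ.mapMatrix M₀ = (M : Matrix (Fin 3) (Fin 3) F) := by
    choose f hf using fun i j => hφs ((M : Matrix (Fin 3) (Fin 3) F) i j)
    exact ⟨Matrix.of f, Matrix.ext fun i j => hf i j⟩
  obtain ⟨fl, P, P', R, R', hP, hR, hMPR⟩ := two_classes M₀ fun h => by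
    rw [← hM₀, ← RingHom.map_det, h, map_zero] at hMd
    exact zero_ne_one hMd
  let A₀ : GL (Fin 3) (ZMod 2) := ⟨a7, a7i, a7_facts.1, a7_facts.2.1⟩
  let P₀ : GL (Fin 3) (ZMod 2) := ⟨P, P', hP, mul_eq_one_comm.1 hP⟩
  let R₀ : GL (Fin 3) (ZMod 2) := ⟨R, R', hR, mul_eq_one_comm.1 hR⟩
  obtain ⟨A, hA⟩ : ∃ A, A = up2 A₀ := ⟨_, rfl⟩
  obtain ⟨A', hA'⟩ : ∃ A', A' = if fl then A else A⁻¹ := ⟨_, rfl⟩
  have hlev : ∀ B : GL (Fin 3) F, lev hQ Fr B ∈ omegaGL Q := fun B =>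
    lev_mem_omega hQ Fr le_rfl B (isSquare_of_two h20 _)
  have hM' : M = up2 P₀ * A' * (up2 P₀)⁻¹ * (up2 R₀ * A * (up2 R₀)⁻¹) := by
    refine Units.ext ?_
    rw [hA', hA, ← map_inv, ← map_inv, ← map_inv]
    rw [← hM₀, hMPR]
    cases fl <;> simp [hup2, map_mul, A₀, P₀, R₀]
  -- the exchange
  obtain ⟨u, hu0, hcu, hdu⟩ : ∃ u, u ≠ 0 ∧ cvec hQ Fr u = 0 ∧ dvec hQ Fr u = 0 := by
    let S : (ι → F) →ₗ[F] (Fin 3 → F) × (Fin 3 → F) := (cvec hQ Fr).prod (dvec hQ Fr)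
    have h := LinearMap.finrank_range_add_finrank_ker S
    have h1 := Submodule.finrank_le (LinearMap.range S)
    rw [Module.finrank_prod, Module.finrank_fintype_fun_eq_card, Fintype.card_fin] at h1
    rw [Module.finrank_fintype_fun_eq_card, hdim] at h
    obtain ⟨u, hu, hu0⟩ := Submodule.exists_mem_ne_zero_of_ne_bot (p := LinearMap.ker S) fun hb => by
      rw [hb, finrank_bot] at h; omega
    have hu' := LinearMap.mem_ker.1 hu
    exact ⟨u, hu0, congrArg Prod.fst hu', congrArg Prod.snd hu'⟩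
  obtain ⟨T, hT, hTe, hTf⟩ := exists_exchange hQ (by omega) h20 Fr (fun h => hu0 (hres Fr u hcu hdu h)) hcu hdu
  let S₀ : GL (Fin 3) (ZMod 2) := Matrix.GeneralLinearGroup.mkOfDetNeZero !![0, 1, 0; 1, 1, 0; 0, 0, 1]
    (by rw [flip_data.2]; exact one_ne_zero)
  obtain ⟨w, hw, hwA⟩ : ∃ w ∈ omegaGL Q, w * (lev hQ Fr A)⁻¹ * w⁻¹ = lev hQ Fr A' := by
    cases fl with
    | false => exact ⟨1, one_mem _, by simp [hA']⟩
    | true =>
      refine ⟨lev hQ Fr (up2 S₀) * T, mul_mem (hlev _) hT, ?_⟩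
      rw [← map_inv, _root_.mul_inv_rev]
      calc lev hQ Fr (up2 S₀) * T * lev hQ Fr A⁻¹ * (T⁻¹ * (lev hQ Fr (up2 S₀))⁻¹)
          = lev hQ Fr (up2 S₀) * (T * lev hQ Fr A⁻¹ * T⁻¹) * (lev hQ Fr (up2 S₀))⁻¹ := by group
        _ = lev hQ Fr (up2 S₀ * cot A⁻¹ * (up2 S₀)⁻¹) := by
          rw [swap_conj hQ Fr (omegaGL_le_iso hT) hTe hTf, map_mul, map_mul, map_inv]
        _ = _ := by
          congr 1
          rw [hA', if_pos rfl, hA, ← map_inv up2 A₀, hcotm, ← map_inv up2 S₀, ← map_mul, ← map_mul]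
          congr 1
          rw [mul_inv_eq_iff_eq_mul]
          exact Units.ext flip_data.1.symm
  -- no alternating forms
  have key : ∀ B ∈ [a7, a7ᵀ, a7iᵀ], NoAlt (φ.mapMatrix B) ∧ (φ.mapMatrix B - 1).det ≠ 0 := by
    intro B hB
    refine ⟨fun S hS hdiag he => ?_, ?_⟩
    · obtain ⟨a, ha⟩ := hφs (S 0 1)
      obtain ⟨b, hb⟩ := hφs (S 0 2)
      obtain ⟨c, hc⟩ := hφs (S 1 2)
      have hsym : ∀ i j, S j i = S i j := fun i j => by
        have h := congrFun (congrFun hS i) j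
        rw [Matrix.transpose_apply, Matrix.neg_apply] at h
        linear_combination h - S i j * h20
      have hS₀ : S = φ.mapMatrix !![0, a, b; a, 0, c; b, c, 0] := by
        ext i j
        fin_cases i <;> fin_cases j <;> simp [hdiag, ha, hb, hc, hsym 0 1, hsym 0 2, hsym 1 2]
      rw [hS₀, show (φ.mapMatrix B)ᵀ = φ.mapMatrix Bᵀ from rfl, ← map_mul, ← map_mul] at he
      obtain ⟨ra, rb, rc⟩ := noAlt_data a b c B hB (Matrix.map_injective hφ he)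
      rw [hS₀, ra, rb, rc]
      ext i j
      fin_cases i <;> fin_cases j <;> simp
    · rw [← map_one φ.mapMatrix, ← map_sub, ← RingHom.map_det, det_data B hB, map_one]
      exact one_ne_zero
  obtain ⟨kA, dA⟩ := key a7 (by simp)
  obtain ⟨k1, d1⟩ := key a7ᵀ (by simp)
  obtain ⟨k2, d2⟩ := key a7iᵀ (by simp)
  have hcotA' : NoAlt (cot A' : Matrix (Fin 3) (Fin 3) F) ∧ ((cot A' : Matrix (Fin 3) (Fin 3) F) - 1).det ≠ 0 := by
    cases fl with
    | false => rw [hA', if_neg Bool.false_ne_true, hA, ← map_inv, hcotm]; exact ⟨k1, d1⟩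
    | true => rw [hA', if_pos rfl, hA, hcotm]; exact ⟨k2, d2⟩
  rw [hLU]
  exact commutator_of_factor hQ le_rfl Fr hlow hup (hlev A) (hlev _) (hlev _) hM' hw hwA (hA ▸ kA) hcotA'.1
    (hA ▸ dA) hcotA'.2

end CfsgLib.Char.OreOrth
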